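import Cfsg.Agent.H798.OZ.Ell
import Cfsg.Agent.H696.GmnThree
import Cfsg.Agent.H486.OnE7
import Cfsg.Agent.H18.Carter.SpMain_m3
import Cfsg.Agent.H711.Crit_m3
import Cfsg.Agent.H711.FiTFRow
import Cfsg.Agent.H696.GmnTwD4
import Cfsg.Agent.H165.RV.HexLin
import Cfsg.Agent.Cit.HexD4
import Cfsg.Agent.ChevFast.E7
import Cfsg.Agent.ChevFast.E8
import Cfsg.Agent.ChevFast.F4
import Cfsg.Agent.ChevFast.Lin
import Cfsg.Agent.H607.Car.E6Def
import Cfsg.Agent.KFacts.TwESix.OutTwo
import Cfsg.Agent.Nodes.RGDTwActE6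
import Cfsg.Agent.ChevalleyStructure.CoxeterGeomTypes
import Cfsg.Agent.Lib.FinFast
import Cfsg.Agent.H957.CarLab_m3
import Cfsg.Prelude.Def_Classification2
import Cfsg.Agent.H310.Car.InvZ_m3
import Cfsg.Agent.H381.Car.Wp
import Cfsg.Agent.LieClassical.OrthFinite
import Cfsg.Agent.H507.GmnOrthRows
import Cfsg.Agent.H458.B3.Sp
import Cfsg.Agent.Lib.FieldAutCard
import Cfsg.Agent.H507.GmnSp
import Cfsg.Agent.H507.GmnTwF
import Cfsg.Agent.H67.SzOdd
import Cfsg.Agent.AutOrth.Final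
import Cfsg.Agent.ClassicalGeometry.OrthSemiForms
import Cfsg.Agent.LieClassical.OrthForms
import Cfsg.Agent.H308.CA.Stmts
import Cfsg.Agent.LieClassical.OrthCore
import Cfsg.Agent.H466.CA.BridgeUni
import Cfsg.Agent.H908.CarterPC
import Cfsg.Agent.LieClassical.HermPerfect
import Cfsg.Agent.LieClassical.SLGen
import Cfsg.Agent.KFacts.RgdFiltChev
import Cfsg.Agent.KFacts.RgdFiltTwAll
import Cfsg.Agent.KFacts.RgdFiltClass
import Cfsg.Agent.LieRecognition.ReeInv
import Cfsg.Agent.LieRecognition.ReeCent_mg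
import Cfsg.Agent.LieRecognition.ReeSylowThree
import Cfsg.Agent.FixBN.ReeSplit
import Cfsg.Agent.S1116
import Cfsg.Agent.S1152
import Cfsg.Agent.S1156
import Cfsg.Agent.S1157
import Cfsg.Agent.H321.Car.AutTw
import Cfsg.Agent.H129.Car.Conn
import Cfsg.Agent.FastGrp
import Cfsg.Agent.Prune
set_option linter.all false

section
prune_inst 0x7fb8bcf98bb82ddfdfff7e77a6dccdfc19901fffa4dff94bbfe021ef0bdf030009c5238d09e010fe0ec2401410287803f97eceffe26bd87ffffd1df41ffbee0fe5f7b508519488340f3c0ffe03f0778e7f3fffffffffffffffffffffffffffbeffbfffffffff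

-- part: H381/Car/RowTwD4
section
prune_inst 0x444202244080002000018858031203e068e0004b00028000188600b400680ed020d8209602c0011100a2aa24d00350008100000d000400000042004000119018000a85206b248a10c240018800084000000000000000000000000000000000004000000000
set_option linter.all false
open scoped Cfsg.Agent.FastGrp

-- part: H381/Car/RadUntw
section
/-!
# Radical subgroups of `G₂(q)`, `F₄(q)`, `E₇(q)`, `E₈(q)`, `q` odd (S3852, helper381)
-/

set_option autoImplicit false
set_option linter.unusedSectionVars false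

namespace Cfsg.Agent.H381.Car

open CoxeterSystem Subgroup Cfsg Cfsg.Lie Cfsg.Lie.ChevalleyDatum
open Cfsg.Agent.ChevalleyStructure Cfsg.Agent.ChevalleyStructure.Elts Cfsg.Agent.ChevalleyStructure.CoxeterGeom
  Cfsg.Agent.ChevalleyStructure.CoxeterGeomTypes Cfsg.Agent.ChevalleyStructure.NPerm
open Cfsg.Agent.Tits.Roots Cfsg.Agent.Tits.Core Cfsg.Agent.Nodes Cfsg.Agent.Nodes.Reps Cfsg.Agent.Nodes.BNOf
  Cfsg.Agent.Nodes.RGDChev Cfsg.Agent.Nodes.Bruhat Cfsg.Agent.Nodes.StabComb Cfsg.Agent.Nodes.LeviDec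
open Cfsg.Agent.KFacts.RgdAut Cfsg.Agent.KFacts.RgdDiag Cfsg.Agent.KFacts.RgdRigid
  Cfsg.Agent.KFacts.RgdField Cfsg.Agent.KFacts.RgdTau Cfsg.Agent.KFacts.RgdChevCoord
  Cfsg.Agent.CpAut.RgdUntw Cfsg.Agent.CpAut.RgdConj
open Cfsg.Agent.GpExc.Field (glMap emb coe_emb glMap_xG emb_injective coe_glMap)
open Cfsg.Agent.BpExc Cfsg.Agent.BpExc.TorCent Cfsg.Agent.BpExc.TorChev Cfsg.Agent.BpExc.Tow
open Cfsg.Agent.BpExc.TowChev Cfsg.Agent.BpExc.Fr Cfsg.Agent.BpExc.LangFr
open Cfsg.Agent.BpExc.FamUntw Cfsg.Agent.BpExc.FamInst Cfsg.Agent.BpExc.FamExt Cfsg.Agent.BpExc.FamField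
open Cfsg.Agent.BpExc.FamFrame Cfsg.Agent.BpExc.RowsUntw
open Cfsg.Agent.H696.GmnToral Cfsg.Agent.H696.GmnUntw

universe v

variable {D : ChevalleyDatum} {l : ℕ} {M : CoxeterMatrix (Fin l)} (hp : IsType D l M) {r : ℕ} [Fact r.Prime]
  {F : Type} [Field F] [Fintype F] [CharP F r] {k : Type} [Field k] [IsAlgClosed k] (hk : LocFin k) [CharP k r]
  (f : F →+* k) {W : Type v} [Group W] (cs : CoxeterSystem M W)

/-- the automorphisms of odd order of `D.group F` -/
theorem exists_form {d : ℕ} {B : Fin l → Fin l → ℤ} (hB : InvC D l d B) (hd : d ≠ 0) (hM : SymTwo M)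
    (hF1 : IsSimpleGroup ↥(D.group F) ∧ ¬ IsMulCommutative ↥(D.group F)) {m : ℕ} (hm : Odd m)
    {α : MulAut ↥(D.group F)} (hα : α ^ m = 1) :
    ∃ (g : ↥(D.group F)) (t : ↥(D.group k)) (j : ℕ), t ∈ TT D k ∧
      (∀ a, IsRoot cs hp.isCartan a → ∀ y ∈ XX D l F a, g * α y * g⁻¹ ∈ XX D l F a) ∧
      ∀ y, emb hp.inList f (α y) = (MulAut.conj ((emb hp.inList f g)⁻¹ * t) * phi D k r j) (emb hp.inList f y) := by
  obtain ⟨hFs, hFc⟩ := hF1
  have hZF := center_eq_bot_of_simple ⟨hFs, hFc⟩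
  have hW := finite_W hp cs
  have R := rgd (K := F) hp cs r
  have C := coords (K := F) hp cs r
  have H := coroots (K := F) hp cs r
  have hG1 : RGD.Sup (XX D l F) {x | IsRoot cs hp.isCartan x} = ⊤ := G1_eq_top hp cs
  have hG := TorChev.GG_top (K := F) hp cs
  have hconn := KFacts.RgdLieCharP.conn_of_simple R hG1 hZF
  have hl : Nonempty (Fin l) := by
    rw [← Fin.pos_iff_nonempty]
    rcases Nat.eq_zero_or_pos l with h0 | h0
    · exfalso
      subst h0
      have h1 : (⊤ : Subgroup ↥(D.group F)) = ⊥ := by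
        rw [← hG1, eq_bot_iff]
        refine RGD.Sup_le fun x hx => ?_
        obtain ⟨w, i, -⟩ := hx
        exact i.elim0
      apply hFc
      have h2 : ∀ g : ↥(D.group F), g = 1 := fun g => by
        have : g ∈ (⊤ : Subgroup ↥(D.group F)) := Subgroup.mem_top g
        rwa [h1, Subgroup.mem_bot] at this
      exact ⟨⟨fun a b => by rw [h2 a, h2 b]⟩⟩
    · exact h0
  have hroots : ∀ c : F, c ≠ 0 → ∃ b : k, b ^ d = f c := fun c _ =>
    IsAlgClosed.exists_pow_nat_eq (f c) (Nat.pos_of_ne_zero hd)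
  have hσ : ∀ σ : Equiv.Perm (Fin l), (∀ i j, M (σ i) (σ j) = M i j) → σ ^ m = 1 → σ = 1 := by
    intro σ h1 h2
    have h3 := Nat.dvd_gcd (orderOf_dvd_of_pow_eq_one h2) (orderOf_dvd_of_pow_eq_one (hM σ h1))
    have h4 : Nat.gcd m 2 = 1 := Nat.coprime_two_right.2 hm
    rw [h4, Nat.dvd_one] at h3
    exact orderOf_eq_one_iff.1 h3
  obtain ⟨g, τ, hτ, -⟩ := exists_frame_tau R hG C H hconn hσ hα
  obtain ⟨j, hj⟩ := exists_pow_eq r τ
  obtain ⟨t, ht, e⟩ := exists_ext hp f r hconn hB hd hroots hτ (τ' := FamField.frb k r j) (fun a => by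
    rw [FamField.frb_apply, hj, map_pow])
  refine ⟨g, t, j, ht, ?_, ?_⟩
  · intro a ha y hy
    obtain ⟨c, hc, h1⟩ := Tau.root R C hτ ha
    obtain ⟨b, rfl⟩ := ((C.coord a ha).mem y).1 hy
    have h2 := h1 b
    rw [MulAut.mul_apply, MulAut.conj_apply] at h2
    rw [h2]
    exact ((C.coord a ha).mem _).2 ⟨_, rfl⟩
  · intro y
    have h1 := e y
    rw [MulAut.mul_apply, MulAut.conj_apply, map_mul, map_mul, map_inv] at h1
    have h2 : emb hp.inList f (α y) = (emb hp.inList f g)⁻¹ * (emb hp.inList f g * emb hp.inList f (α y) *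
      (emb hp.inList f g)⁻¹) * emb hp.inList f g := by group
    rw [h2, h1, MulAut.mul_apply, MulAut.conj_apply]
    show _ * (t * phi D k r j (emb hp.inList f y) * t⁻¹) * _ = _
    group

/-! ### pairs of automorphisms -/

section Rel

/-- `Φ` induces `α` -/
def Rel (α : MulAut ↥(D.group F)) (Φ : MulAut ↥(D.group k)) : Prop :=
  ∀ y, emb hp.inList f (α y) = Φ (emb hp.inList f y)

variable {hp f}

theorem Rel.mul {α β : MulAut ↥(D.group F)} {Φ Ψ : MulAut ↥(D.group k)} (h : Rel hp f α Φ) (h' : Rel hp f β Ψ) :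
    Rel hp f (α * β) (Φ * Ψ) := fun y => by
  rw [MulAut.mul_apply, MulAut.mul_apply, h, h']

theorem Rel.inv {α : MulAut ↥(D.group F)} {Φ : MulAut ↥(D.group k)} (h : Rel hp f α Φ) : Rel hp f α⁻¹ Φ⁻¹ := fun y => by
  apply Φ.injective
  rw [MulAut.apply_inv_self, ← h, MulAut.apply_inv_self]

theorem Rel.one : Rel hp f (1 : MulAut ↥(D.group F)) (1 : MulAut ↥(D.group k)) := fun _ => rfl

theorem Rel.pow {α : MulAut ↥(D.group F)} {Φ : MulAut ↥(D.group k)} (h : Rel hp f α Φ) (m : ℕ) :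
    Rel hp f (α ^ m) (Φ ^ m) := by
  induction m with
  | zero => rw [pow_zero, pow_zero]; exact Rel.one
  | succ m ih => rw [pow_succ, pow_succ]; exact ih.mul h

theorem Rel.of_phi {n : ℕ} (hn : Nat.card F = r ^ n) : Rel hp f (1 : MulAut ↥(D.group F)) (phi D k r n) := fun y =>
  (phi_emb hp r f hn y).symm

end Rel

section Phi

theorem phi_zero : phi D k r 0 = 1 := by
  have h := phi_pow (D := D) (k := k) r 0 0
  rw [pow_zero, zero_mul] at h
  exact h.symm

theorem phi_add (i j : ℕ) : phi D k r (i + j) = phi D k r i * phi D k r j := by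
  have h := phi_pow (D := D) (k := k) r 1
  have h1 := h (i + j)
  rw [one_mul, pow_add, h, h, one_mul, one_mul] at h1
  exact h1.symm

theorem conj_phi_mul (s s' : ↥(D.group k)) (i j : ℕ) : (MulAut.conj s * phi D k r i) * (MulAut.conj s' * phi D k r j) =
    MulAut.conj (s * phi D k r i s') * phi D k r (i + j) := by
  rw [phi_add, map_mul]
  have h := mul_conj (phi D k r i) s'
  calc MulAut.conj s * phi D k r i * (MulAut.conj s' * phi D k r j)
      = MulAut.conj s * (phi D k r i * MulAut.conj s') * phi D k r j := by group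
    _ = _ := by rw [h]; group

theorem conj_phi_div (s s' : ↥(D.group k)) {i j : ℕ} (hij : i ≤ j) :
    (MulAut.conj s * phi D k r j) * (MulAut.conj s' * phi D k r i)⁻¹ =
      MulAut.conj (s * phi D k r (j - i) s'⁻¹) * phi D k r (j - i) := by
  rw [mul_inv_eq_iff_eq_mul, conj_phi_mul, Nat.sub_add_cancel hij]
  congr 2
  rw [map_inv, mul_assoc, inv_mul_cancel, mul_one]

/-- powers of `conj s * phi i` -/
theorem conj_phi_pow {P : Subgroup ↥(D.group k)} (hP : ∀ j, ∀ y ∈ P, phi D k r j y ∈ P) {s : ↥(D.group k)} (hs : s ∈ P)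
    (i a : ℕ) : ∃ s' ∈ P, (MulAut.conj s * phi D k r i) ^ a = MulAut.conj s' * phi D k r (i * a) := by
  induction a with
  | zero => exact ⟨1, one_mem _, by rw [pow_zero, mul_zero, phi_zero, map_one, mul_one]⟩
  | succ a ih =>
    obtain ⟨s', hs', e⟩ := ih
    refine ⟨s' * phi D k r (i * a) s, mul_mem hs' (hP _ _ hs), ?_⟩
    rw [pow_succ, e, conj_phi_mul, Nat.mul_succ]

theorem conj_inj (hZ : center ↥(D.group k) = ⊥) {a b : ↥(D.group k)} (h : MulAut.conj a = MulAut.conj b) : a = b := by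
  have h1 : a⁻¹ * b ∈ center ↥(D.group k) := by
    rw [mem_center_iff]
    intro g
    have h2 := congrArg (fun σ : MulAut ↥(D.group k) => σ g) h
    simp only [MulAut.conj_apply] at h2
    have h3 : a * g * a⁻¹ * b = b * g := by rw [h2]; group
    calc g * (a⁻¹ * b) = a⁻¹ * (a * g * a⁻¹ * b) := by group
      _ = a⁻¹ * b * g := by rw [h3]; group
  rw [hZ, mem_bot, inv_mul_eq_one] at h1
  exact h1

variable {cs}

theorem fr_VJ {σ : MulAut ↥(D.group k)} (Fr' : Fr cs hp.isCartan (TT D k) (XX D l k) σ (AddEquiv.refl _))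
    {J : Set (Fin l)} {y : ↥(D.group k)} (hy : y ∈ VJ cs hp.isCartan (XX D l k) J) :
    σ y ∈ VJ cs hp.isCartan (XX D l k) J := by
  have h1 : (VJ cs hp.isCartan (XX D l k) J).map σ.toMonoidHom = VJ cs hp.isCartan (XX D l k) J := by
    unfold VJ
    rw [Fr'.map_Sup (S := NotJ cs hp.isCartan J) (S' := NotJ cs hp.isCartan J) (fun _ ha => ha.1) (fun _ => Iff.rfl)]
  rw [← h1]
  exact ⟨y, hy, rfl⟩

theorem fr_PJ {σ : MulAut ↥(D.group k)} (Fr' : Fr cs hp.isCartan (TT D k) (XX D l k) σ (AddEquiv.refl _))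
    {J : Set (Fin l)} {y : ↥(D.group k)} (hy : y ∈ PJ cs hp.isCartan (TT D k) (XX D l k) J) :
    σ y ∈ PJ cs hp.isCartan (TT D k) (XX D l k) J := by
  have h1 : (PJ cs hp.isCartan (TT D k) (XX D l k) J).map σ.toMonoidHom = PJ cs hp.isCartan (TT D k) (XX D l k) J := by
    unfold PJ LJ VJ
    rw [Subgroup.map_sup, Subgroup.map_sup, Fr'.map_T,
      Fr'.map_Sup (S := RootsJ cs hp.isCartan J) (S' := RootsJ cs hp.isCartan J) (fun _ ha => ha.1) (fun _ => Iff.rfl),
      Fr'.map_Sup (S := NotJ cs hp.isCartan J) (S' := NotJ cs hp.isCartan J) (fun _ ha => ha.1) (fun _ => Iff.rfl)]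
  rw [← h1]
  exact ⟨y, hy, rfl⟩

end Phi

section Unique

include hk in
/-- an automorphism `conj s * phi j` trivial on `D.group F`: `s = 1` and `n ∣ j` -/
theorem rel_one {n : ℕ} (hn : Nat.card F = r ^ n) (hZ : center ↥(D.group k) = ⊥) (h0 : 0 < D.nroots)
    {s : ↥(D.group k)} {j : ℕ} (h : Rel hp f 1 (MulAut.conj s * phi D k r j)) : s = 1 ∧ n ∣ j := by
  let _ : Algebra (ZMod r) F := ZMod.algebra F r
  have hs : s = 1 := by
    refine eq_one_of_comm hp hk r (f.comp (algebraMap (ZMod r) F)) hZ fun y => ?_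
    have h1 := h (emb hp.inList (algebraMap (ZMod r) F) y)
    rw [emb_comp, MulAut.one_apply, MulAut.mul_apply, MulAut.conj_apply] at h1
    have h2 : phi D k r j (emb hp.inList (f.comp (algebraMap (ZMod r) F)) y) =
        emb hp.inList (f.comp (algebraMap (ZMod r) F)) y := by
      have h3 : ∀ a : ZMod r, FamField.frb k r j ((f.comp (algebraMap (ZMod r) F)) a) =
          (f.comp (algebraMap (ZMod r) F)) ((1 : ZMod r ≃+* ZMod r) a) := by
        intro a
        rw [FamField.frb_apply, ← map_pow, ZMod.pow_card_pow]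
        rfl
      unfold phi
      rw [fld_emb hp (f.comp (algebraMap (ZMod r) F)) h3, fld_one]
      rfl
    rw [h2] at h1
    rw [eq_mul_inv_iff_mul_eq] at h1
    exact h1.symm
  refine ⟨hs, ?_⟩
  rw [← forall_pow_iff r hn]
  intro a
  have h1 := h (xc hp (vec D l 0) a)
  rw [hs, map_one, one_mul, MulAut.one_apply, _root_.Cfsg.Agent.BpExc.FamExt.emb_xc hp f h0] at h1
  have h2 : phi D k r j (xc hp (vec D l 0) (f a)) = xc hp (vec D l 0) (f a ^ r ^ j) := by
    unfold phi
    rw [fld_xc hp _ h0, FamField.frb_apply]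
  rw [h2] at h1
  have h3 := xc_inj hp h0 h1
  rw [← map_pow] at h3
  exact (f.injective h3).symm

end Unique

/-! ### from the finite group to `D.group k` -/

section Emb

theorem emb_PJ {J : Set (Fin l)} {y : ↥(D.group F)} (hy : y ∈ PJ cs hp.isCartan (TT D F) (XX D l F) J) :
    emb hp.inList f y ∈ PJ cs hp.isCartan (TT D k) (XX D l k) J := by
  have h1 : PJ cs hp.isCartan (TT D F) (XX D l F) J ≤
      (PJ cs hp.isCartan (TT D k) (XX D l k) J).comap (emb hp.inList f) := by
    refine sup_le (sup_le ?_ (RGD.Sup_le fun a ha => ?_)) (RGD.Sup_le fun a ha => ?_)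
    · intro t ht
      exact (le_sup_left.trans le_sup_left : TT D k ≤ _) (GpExc.Field.emb_T hp f ⟨t, ht, rfl⟩)
    · intro t ht
      exact (X_le_LJ ha).trans le_sup_left (GpExc.Field.emb_X hp f cs ha.1 ⟨t, ht, rfl⟩)
    · intro t ht
      exact (RGD.le_Sup ha : XX D l k a ≤ VJ cs hp.isCartan (XX D l k) J).trans le_sup_right
        (GpExc.Field.emb_X hp f cs ha.1 ⟨t, ht, rfl⟩)
  exact h1 hy

theorem emb_VJ {J : Set (Fin l)} {y : ↥(D.group F)} (hy : y ∈ VJ cs hp.isCartan (XX D l F) J) :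
    emb hp.inList f y ∈ VJ cs hp.isCartan (XX D l k) J := by
  have h1 : VJ cs hp.isCartan (XX D l F) J ≤ (VJ cs hp.isCartan (XX D l k) J).comap (emb hp.inList f) := by
    refine RGD.Sup_le fun a ha => ?_
    intro t ht
    exact (RGD.le_Sup ha : XX D l k a ≤ VJ cs hp.isCartan (XX D l k) J)
        (GpExc.Field.emb_X hp f cs ha.1 ⟨t, ht, rfl⟩)
  exact h1 hy

include hk in
theorem conj_VJ (r : ℕ) [Fact r.Prime] [CharP k r] {J : Set (Fin l)} {y v : ↥(D.group k)} (hy : y ∈ PJ cs hp.isCartan (TT D k) (XX D l k) J)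
    (hv : v ∈ VJ cs hp.isCartan (XX D l k) J) : y * v * y⁻¹ ∈ VJ cs hp.isCartan (XX D l k) J := by
  have h := PJL_conj_mem (tow hp cs hk r (k := k)) (J := J) (y := y) (v := v)
  rw [TL_eq hp hk, XL_eq hp hk] at h
  exact h hy hv

/-- fixed elements of the Frobenius automorphism normalise `D.group F` -/
theorem fixed_conj_mem {n : ℕ} (hn : Fintype.card F = r ^ n) {y : ↥(D.group k)} (hy : phi D k r n y = y)
    {x : ↥(D.group k)} (hx : x ∈ (emb hp.inList f).range) : y * x * y⁻¹ ∈ (emb hp.inList f).range :=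
  Emb.conj_mem_range hp.inList (f := f) (frh_apply r hn) (phi_glMap r n) hy hx

end Emb

section Main

theorem le_normalizer_of_conj_le [Finite F] {Q : Subgroup ↥(D.group F)} {g : ↥(D.group F)}
    (h : ∀ y ∈ Q, g * y * g⁻¹ ∈ Q) : g ∈ normalizer (Q : Set ↥(D.group F)) := by
  have h1 : Q.map (MulAut.conj g).toMonoidHom ≤ Q := by
    rintro _ ⟨y, hy, rfl⟩
    exact h y hy
  have h2 : Q.map (MulAut.conj g).toMonoidHom = Q := by
    refine eq_of_le_of_card_ge h1 ?_
    rw [card_map_of_injective (MulAut.conj g).injective]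
  rw [mem_normalizer_iff_map_conj_eq]
  exact h2

variable {n : ℕ}

include hp hk f cs in
/-- **The `E`-property** of the unipotent radicals. -/
theorem radConc {d : ℕ} {B : Fin l → Fin l → ℤ} (hB : InvC D l d B) (hd : ∀ m : ℕ, Odd m → m.Coprime d) (hd0 : d ≠ 0)
    (hM : SymTwo M) (hF1 : IsSimpleGroup ↥(D.group F) ∧ ¬ IsMulCommutative ↥(D.group F))
    (hZ : center ↥(D.group k) = ⊥) (h0 : 0 < D.nroots) (hr2 : r ≠ 2)
    (hodd : ∀ s, s < D.nroots → ∃ j : Fin l, Odd (D.cartan j s))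
    (J : Set (Fin l))
    (hrad : ∀ R : Subgroup ↥(D.group F), IsPGroup r R →
      R ≤ normalizer (VJ cs hp.isCartan (XX D l F) J : Set ↥(D.group F)) →
      normalizer (VJ cs hp.isCartan (XX D l F) J : Set ↥(D.group F)) ≤ normalizer (R : Set ↥(D.group F)) →
      R ≤ VJ cs hp.isCartan (XX D l F) J)
    (hN : normalizer (VJ cs hp.isCartan (XX D l F) J : Set ↥(D.group F)) = PJ cs hp.isCartan (TT D F) (XX D l F) J)
    (A : Subgroup (MulAut ↥(D.group F))) (hA : Odd (Nat.card A))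
    (hAQ : ∀ a ∈ A, ∀ y, a y ∈ VJ cs hp.isCartan (XX D l F) J ↔ y ∈ VJ cs hp.isCartan (XX D l F) J)
    (hAI : ∀ y : ↥(D.group F), MulAut.conj y ∈ A → y ∈ VJ cs hp.isCartan (XX D l F) J) :
    ∃ E : Subgroup ↥(D.group F), E ≤ normalizer (VJ cs hp.isCartan (XX D l F) J : Set ↥(D.group F)) ∧ IsPGroup 2 E ∧
      (∀ a ∈ A, ∀ x ∈ E, x * (a x)⁻¹ ∈ VJ cs hp.isCartan (XX D l F) J) ∧
      ∀ z ∈ VJ cs hp.isCartan (XX D l F) J, (∀ x ∈ E, x * z = z * x) → z = 1 := by
  classical
  have hW := finite_W hp cs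
  obtain ⟨n, hn0, hn⟩ := exists_card (F := F) r
  have hq : Fintype.card F = r ^ n := by rw [← hn, Nat.card_eq_fintype_card]
  set! Q := VJ cs hp.isCartan (XX D l F) J with hQ; rewrite [← hQ] at hAI hAQ hN hrad ⊢
  set! VL := VJ cs hp.isCartan (XX D l k) J with hVL
  set! PL := PJ cs hp.isCartan (TT D k) (XX D l k) J with hPL
  have hTP : TT D k ≤ PL := le_sup_left.trans le_sup_left
  have hVP : VL ≤ PL := le_sup_right
  have Fphi : ∀ j, Fr cs hp.isCartan (TT D k) (XX D l k) (phi D k r j) (AddEquiv.refl _) := fun j => phi_fr hp cs r hk j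
  have hphiP : ∀ j, ∀ y ∈ PL, phi D k r j y ∈ PL := fun j y hy => fr_PJ hp (Fphi j) hy
  -- the elements of `A`
  have hform : ∀ α ∈ A, ∃ s ∈ PL, ∃ j : ℕ, Rel hp f α (MulAut.conj s * phi D k r j) := by
    intro α hα
    have hαm : α ^ Nat.card A = 1 := by
      have h1 : (⟨α, hα⟩ : A) ^ Nat.card A = 1 := pow_card_eq_one'
      exact congrArg Subtype.val h1
    obtain ⟨g, t, j, ht, hg, h⟩ := exists_form hp f cs hB hd0 hM hF1 hA hαm
    have hgN : g ∈ normalizer (Q : Set ↥(D.group F)) := by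
      have h1 : Q ≤ Q.comap ((MulAut.conj g * α : MulAut ↥(D.group F)).toMonoidHom) := by
        refine RGD.Sup_le fun a ha => ?_
        intro y hy
        exact (RGD.le_Sup ha (hg a ha.1 y hy) :)
      refine le_normalizer_of_conj_le fun y hy => ?_
      have h2 : α⁻¹ y ∈ Q := by rw [← hAQ α hα, MulAut.apply_inv_self]; exact hy
      have h3 := h1 h2
      have h4 : (MulAut.conj g * α : MulAut ↥(D.group F)).toMonoidHom (α⁻¹ y) = g * y * g⁻¹ := by
        show g * α (α⁻¹ y) * g⁻¹ = _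
        rw [MulAut.apply_inv_self]
      rw [mem_comap, h4] at h3
      exact h3
    rw [hN] at hgN
    refine ⟨(emb hp.inList f g)⁻¹ * t, mul_mem (inv_mem (emb_PJ hp f cs hgN)) (hTP ht), j, h⟩
  have hApow : ∀ α ∈ A, α ^ Nat.card A = 1 := by
    intro α hα
    have h1 : (⟨α, hα⟩ : A) ^ Nat.card A = 1 := pow_card_eq_one'
    exact congrArg Subtype.val h1
  have hconjpow : ∀ (s : ↥(D.group k)) (m : ℕ), (MulAut.conj s) ^ m = MulAut.conj (s ^ m) := fun s m =>
    (map_pow MulAut.conj s m).symm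
  -- the elements of `A` induced by inner automorphisms of `D.group k`
  have hinn : ∀ α ∈ A, ∀ s, Rel hp f α (MulAut.conj s) → ∃ y ∈ Q, α = MulAut.conj y ∧ s = emb hp.inList f y := by
    intro α hα s h
    have h1 : s ^ Nat.card A = 1 := by
      have h2 := h.pow (Nat.card A)
      rw [hApow α hα, hconjpow] at h2
      refine (rel_one hp hk f hn hZ h0 (j := 0) (s := s ^ Nat.card A) ?_).1
      rw [phi_zero, mul_one]
      exact h2
    have h2 : phi D k r n s = s := by
      have h3 := ((Rel.of_phi (f := f) (hp := hp) (k := k) hn).mul h).mul (Rel.of_phi (f := f) (hp := hp) (k := k) hn).inv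
      rw [one_mul, inv_one, mul_one, mul_conj, mul_inv_cancel_right] at h3
      have h4 := h.inv.mul h3
      rw [inv_mul_cancel, ← map_inv, ← map_mul] at h4
      have h5 := (rel_one hp hk f hn hZ h0 (j := 0) (s := s⁻¹ * phi D k r n s) (by rw [phi_zero, mul_one]; exact h4)).1
      exact (inv_mul_eq_one.1 h5).symm
    obtain ⟨x, hx⟩ := pow_mem_range hp hk f r cs hB hd0 hZ hq h2
    have h3 : s ∈ (emb hp.inList f).range := H696.GmnInv.mem_of_pow h1 (hd _ hA) ⟨x, hx⟩
    obtain ⟨y, rfl⟩ := h3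
    have h4 : α = MulAut.conj y := by
      apply MulEquiv.ext
      intro z
      apply emb_injective hp.inList f
      rw [h z, MulAut.conj_apply, MulAut.conj_apply, map_mul, map_mul, map_inv]
    exact ⟨y, hAI y (h4 ▸ hα), h4, rfl⟩
  -- the generator
  have hex : ∃ j : ℕ, 0 < j ∧ ∃ α ∈ A, ∃ s ∈ PL, Rel hp f α (MulAut.conj s * phi D k r j) :=
    ⟨n, hn0, 1, one_mem _, 1, one_mem _, by rw [map_one, one_mul]; exact Rel.of_phi hn⟩
  obtain ⟨hi0, α0, hα0, s0, hs0, hrel0⟩ := Nat.find_spec hex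
  set! i0 := Nat.find hex with hi0def; rewrite [← hi0def] at hrel0 hi0
  have hmin : ∀ j, 0 < j → (∃ α ∈ A, ∃ s ∈ PL, Rel hp f α (MulAut.conj s * phi D k r j)) → i0 ≤ j := fun j h1 h2 =>
    Nat.find_min' hex ⟨h1, h2⟩
  have hdiv : ∀ α ∈ A, ∀ s ∈ PL, ∀ j, Rel hp f α (MulAut.conj s * phi D k r j) →
      i0 ∣ j ∧ ∃ a : ℕ, ∃ y ∈ Q, α = MulAut.conj y * α0 ^ a := by
    intro α hα s hs j h
    obtain ⟨s', hs', e⟩ := conj_phi_pow (r := r) hphiP hs0 i0 (j / i0)
    have h1 := h.mul ((hrel0.pow (j / i0)).inv)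
    rw [e, conj_phi_div s s' (Nat.mul_div_le j i0)] at h1
    have h2 : j - i0 * (j / i0) = j % i0 := by
      have := Nat.div_add_mod j i0
      omega
    rw [h2] at h1
    have h3 : j % i0 = 0 := by
      by_contra hne
      have h4 := hmin (j % i0) (Nat.pos_of_ne_zero hne) ⟨_, mul_mem hα (inv_mem (pow_mem hα0 _)), _,
        mul_mem hs (hphiP _ _ (inv_mem hs')), h1⟩
      exact absurd (Nat.mod_lt j hi0) (not_lt.2 h4)
    refine ⟨Nat.dvd_of_mod_eq_zero h3, j / i0, ?_⟩
    rw [h3, phi_zero, mul_one] at h1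
    obtain ⟨y, hy, hy1, -⟩ := hinn _ (mul_mem hα (inv_mem (pow_mem hα0 _))) _ h1
    exact ⟨y, hy, by rw [← hy1, inv_mul_cancel_right]⟩
  obtain ⟨⟨e, he⟩, -⟩ := hdiv 1 (one_mem _) 1 (one_mem _) n (by rw [map_one, one_mul]; exact Rel.of_phi hn)
  -- the norm
  obtain ⟨sE, hsE, hpowE⟩ := conj_phi_pow (r := r) hphiP hs0 i0 e
  rw [← he] at hpowE
  have hsEV : sE ∈ VL := by
    have h1 := (hrel0.pow e).mul (Rel.of_phi (f := f) (hp := hp) (k := k) hn).inv
    rw [hpowE, inv_one, mul_one, mul_inv_cancel_right] at h1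
    obtain ⟨y, hy, -, rfl⟩ := hinn _ (pow_mem hα0 _) _ h1
    exact emb_VJ hp f cs hy
  -- Lang
  obtain ⟨y1, hy1, hy1s⟩ := lang_PJ hp cs hk hZ hi0 (phi_isFrob r i0) (Fphi i0) hs0
  have hphiy1 : phi D k r i0 y1 = y1 * s0 := by rw [hy1s]; group
  have hsE1 : sE = y1⁻¹ * phi D k r n y1 := by
    apply conj_inj hZ
    have h1 : MulAut.conj s0 * phi D k r i0 = (MulAut.conj y1)⁻¹ * phi D k r i0 * MulAut.conj y1 := by
      rw [mul_assoc, mul_conj, ← mul_assoc, ← map_inv, ← map_mul, ← hy1s]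
    have h2 : (MulAut.conj s0 * phi D k r i0) ^ e = (MulAut.conj y1)⁻¹ * phi D k r n * MulAut.conj y1 := by
      have h3 : ∀ (x g : MulAut ↥(D.group k)) (m : ℕ), (x⁻¹ * g * x) ^ m = x⁻¹ * g ^ m * x := by
        intro x g m
        induction m with
        | zero => group
        | succ m ih => rw [pow_succ, ih, pow_succ]; group
      rw [h1, h3, phi_pow, ← he]
    rw [hpowE, mul_assoc, mul_conj, ← mul_assoc, ← map_inv, ← map_mul] at h2
    exact mul_right_cancel h2
  obtain ⟨w, hw, hws⟩ := lang_VJ hp cs hk hn0 (phi_isFrob r n) (Fphi n) hsEV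
  have hphiw : phi D k r n w = w * sE := by rw [hws]; group
  have hphiy1n : phi D k r n y1 = y1 * sE := by rw [hsE1]; group
  obtain ⟨y, hydef⟩ : ∃ y, y = y1 * w⁻¹ := ⟨_, rfl⟩
  have hyP : y ∈ PL := by rw [hydef]; exact mul_mem hy1 (inv_mem (hVP hw))
  have hyfix : phi D k r n y = y := by
    rw [hydef, map_mul, map_inv, hphiy1n, hphiw]
    group
  have hv' : y * s0 * (phi D k r i0 y)⁻¹ ∈ VL := by
    have h1 : y * s0 * (phi D k r i0 y)⁻¹ = y1 * (w⁻¹ * (s0 * phi D k r i0 w * s0⁻¹)) * y1⁻¹ := by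
      rw [hydef, map_mul, map_inv, hphiy1]
      group
    rw [h1]
    exact conj_VJ hp hk cs r hy1 (mul_mem (inv_mem hw) (conj_VJ hp hk cs r hs0 (fr_VJ hp (Fphi i0) hw)))
  -- `Q = VL ∩ D.group F`
  have hQt : VL.comap (emb hp.inList f) = Q := by
    have hp1 : IsPGroup r VL := by
      have h1 := isPGroup_VJL (tow hp cs hk r (k := k)) J
      rwa [XL_eq hp hk] at h1
    have hp2 : IsPGroup r (VL.comap (emb hp.inList f)) := hp1.comap_of_injective _ (emb_injective hp.inList f)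
    refine eq_of_inf_normalizer_le (fun x hx => emb_VJ hp f cs hx) hp2 ?_
    refine hrad _ (hp2.to_le inf_le_left) inf_le_right (le_normalizer_inf ?_ le_normalizer)
    intro g hg
    rw [hN] at hg
    refine le_normalizer_of_conj_le fun x hx => ?_
    rw [mem_comap] at hx ⊢
    rw [map_mul, map_mul, map_inv]
    exact conj_VJ hp hk cs r (emb_PJ hp f cs hg) hx
  have hNP : ∀ x, emb hp.inList f x ∈ PL → x ∈ normalizer (Q : Set ↥(D.group F)) := by
    intro x hx
    rw [← hQt]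
    refine le_normalizer_of_conj_le fun z hz => ?_
    rw [mem_comap] at hz ⊢
    rw [map_mul, map_mul, map_inv]
    exact conj_VJ hp hk cs r hx hz
  -- the elements of order two of the torus
  let T2 : Subgroup ↥(D.group k) :=
    { carrier := {t | t ∈ TT D k ∧ t ^ 2 = 1}
      one_mem' := ⟨one_mem _, one_pow 2⟩
      mul_mem' := fun {a b} ha hb => ⟨mul_mem ha.1 hb.1, by
        rw [(show Commute a b from TT_comm hp a ha.1 b hb.1).mul_pow, ha.2, hb.2, one_mul]⟩
      inv_mem' := fun {a} ha => ⟨inv_mem ha.1, by rw [inv_pow, ha.2, inv_one]⟩ }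
  have hT2fix : ∀ t ∈ T2, phi D k r i0 t = t := by
    rintro t ⟨ht, ht2⟩
    refine ext_TT hp cs hk r hZ (((Fphi i0).tor t).2 ht) ht fun a ha => ?_
    have h1 := fr_ch hp cs hk (phi_isFrob r i0) (Fphi i0) ha ht
    have h2 : ch hp a t ^ 2 = 1 := by
      rw [← ch_pow hp cs hk r ha ht, ht2, ch_one hp cs hk r ha]
    have hro : Odd (r ^ i0) := ((Fact.out : r.Prime).odd_of_ne_two hr2).pow
    obtain ⟨c, hc⟩ := hro
    rw [hc, pow_add, pow_mul, h2, one_pow, pow_one, one_mul] at h1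
    exact h1
  let E : Subgroup ↥(D.group F) := T2.comap ((MulAut.conj y).toMonoidHom.comp (emb hp.inList f))
  have hE : ∀ x, x ∈ E ↔ y * emb hp.inList f x * y⁻¹ ∈ T2 := fun x => Iff.rfl
  have hEP : ∀ x ∈ E, emb hp.inList f x ∈ PL := by
    intro x hx
    have h1 := hTP ((hE x).1 hx).1
    have h2 := mul_mem (mul_mem (inv_mem hyP) h1) hyP
    have e1 : y⁻¹ * (y * emb hp.inList f x * y⁻¹) * y = emb hp.inList f x := by group
    rwa [e1] at h2
  -- `α₀`
  have hE0 : ∀ x ∈ E, x * (α0 x)⁻¹ ∈ Q := by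
    intro x hx
    rw [← hQt, mem_comap, map_mul, map_inv, hrel0 x, MulAut.mul_apply, MulAut.conj_apply]
    obtain ⟨t, ht⟩ : ∃ t, t = y * emb hp.inList f x * y⁻¹ := ⟨_, rfl⟩
    have htT : t ∈ T2 := by rw [ht]; exact (hE x).1 hx
    have hx1 : emb hp.inList f x = y⁻¹ * t * y := by rw [ht]; group
    have h1 := hT2fix t htT
    obtain ⟨v', hv'def⟩ : ∃ v', v' = y * s0 * (phi D k r i0 y)⁻¹ := ⟨_, rfl⟩
    rw [← hv'def] at hv'
    have h2 : phi D k r i0 y = v'⁻¹ * (y * s0) := by rw [hv'def]; group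
    rw [hx1, map_mul, map_mul, map_inv, h1, h2]
    have h3 : y⁻¹ * t * y * (s0 * ((v'⁻¹ * (y * s0))⁻¹ * t * (v'⁻¹ * (y * s0))) * s0⁻¹)⁻¹ =
        y⁻¹ * ((t * v' * t⁻¹) * v'⁻¹) * y⁻¹⁻¹ := by group
    rw [h3]
    exact conj_VJ hp hk cs r (inv_mem hyP) (mul_mem (conj_VJ hp hk cs r (hTP htT.1) hv') (inv_mem hv'))
  have hEN : E ≤ normalizer (Q : Set ↥(D.group F)) := fun x hx => hNP x (hEP x hx)
  refine ⟨E, hEN, ?_, ?_, ?_⟩
  · rintro ⟨x, hx⟩
    refine ⟨1, Subtype.ext ?_⟩
    show x ^ 2 ^ 1 = 1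
    rw [pow_one]
    have h1 := ((hE x).1 hx).2
    have h2 : (y * emb hp.inList f x * y⁻¹) ^ 2 = y * emb hp.inList f (x ^ 2) * y⁻¹ := by
      rw [map_pow, conj_pow]
    rw [h2, mul_inv_eq_one, mul_eq_left] at h1
    apply emb_injective hp.inList f
    rw [h1, map_one]
  · intro α hα x hx
    obtain ⟨s, hs, j, hrel⟩ := hform α hα
    obtain ⟨-, a, y', hy', rfl⟩ := hdiv α hα s hs j hrel
    have h1 : ∀ a : ℕ, x * ((α0 ^ a) x)⁻¹ ∈ Q := by
      intro a
      induction a with
      | zero => rw [pow_zero, MulAut.one_apply, mul_inv_cancel]; exact one_mem _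
      | succ a ih =>
        have h2 : x * ((α0 ^ (a + 1)) x)⁻¹ = x * (α0 x)⁻¹ * α0 (x * ((α0 ^ a) x)⁻¹) := by
          rw [pow_succ', MulAut.mul_apply, map_mul, map_inv]; group
        rw [h2]
        exact mul_mem (hE0 x hx) ((hAQ α0 hα0 _).2 ih)
    have h2 : x * ((MulAut.conj y' * α0 ^ a) x)⁻¹ = (x * y' * x⁻¹) * (x * ((α0 ^ a) x)⁻¹) * y'⁻¹ := by
      rw [MulAut.mul_apply, MulAut.conj_apply]; group
    rw [h2]
    exact mul_mem (mul_mem ((mem_normalizer_iff.1 (hEN hx) y').1 hy') (h1 a)) (inv_mem hy')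
  · intro z hz hcz
    have hzV : emb hp.inList f z ∈ VL := emb_VJ hp f cs hz
    have h1 : y * emb hp.inList f z * y⁻¹ ∈ VL := conj_VJ hp hk cs r hyP hzV
    have h2 : y * emb hp.inList f z * y⁻¹ ∈ RGD.Sup (XX D l k) (RGD.Pos cs hp.isCartan) := VJ_le_U J h1
    have h3 : y * emb hp.inList f z * y⁻¹ = 1 := by
      obtain ⟨E0⟩ := nonempty_lev hk
      refine eq_one_of_centralizerL (tow hp cs hk r (k := k)) (j0 := E0)
        (S := Set.range fun j : Fin l => hc hp j (-1 : k)) ?_ ?_ (by rw [XL_eq hp hk]; exact h2) ?_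
      · rintro _ ⟨j, rfl⟩
        refine ⟨hc hp j (-1 : ↥E0.1), hc_mem hp j (neg_ne_zero.2 one_ne_zero), ?_⟩
        rw [emb_hc]
        congr 1
      · intro a ha _ u hu huc
        rw [XL_eq hp hk] at hu
        obtain ⟨s, hs, rfl⟩ := (isRoot_iff hp cs a).1 ha
        obtain ⟨c, rfl⟩ := (((coordsL hp cs hk r).coord _ ha).mem u).1 hu
        obtain ⟨j, hj⟩ := hodd s hs
        have h5 := ch_comm hp cs hk r ha (hc_mem hp j (neg_ne_zero.2 (one_ne_zero (α := k)))) c
        rw [ch_hc hp j (neg_ne_zero.2 one_ne_zero) hs, hj.neg_one_zpow] at h5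
        have h6 := huc _ ⟨j, rfl⟩
        rw [h6, mul_inv_cancel_right] at h5
        have h7 := xc_inj hp hs h5
        have h8 : (2 : k) * c = 0 := by linear_combination h7
        have h9 : (2 : k) ≠ 0 := by
          intro h10
          have h11 := (CharP.cast_eq_zero_iff k r 2).1 (by exact_mod_cast h10)
          exact hr2 ((Nat.prime_dvd_prime_iff_eq Fact.out Nat.prime_two).1 h11)
        have h10 : c = 0 := (mul_eq_zero.1 h8).resolve_left h9
        rw [h10]
        exact ((coordsL hp cs hk r).coord _ ha).zero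
      · rintro _ ⟨j, rfl⟩
        have hyfix' : phi D k r n y⁻¹ = y⁻¹ := by rw [map_inv, hyfix]
        have ht1 : emb hp.inList f (hc hp j (-1 : F)) = hc hp j (-1 : k) := by
          rw [emb_hc, map_neg, map_one]
        obtain ⟨x, hx⟩ := fixed_conj_mem hp f hq hyfix' ⟨hc hp j (-1 : F), rfl⟩
        rw [ht1, inv_inv] at hx
        have hxE : x ∈ E := by
          rw [hE, hx]
          have e1 : y * (y⁻¹ * hc hp j (-1 : k) * y) * y⁻¹ = hc hp j (-1 : k) := by group
          rw [e1]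
          have hm1 : hc hp j (-1 : k) ∈ TT D k := hc_mem hp j (neg_ne_zero.2 one_ne_zero)
          refine ⟨hm1, ext_TT hp cs hk r hZ (pow_mem hm1 2) (one_mem _) fun a ha => ?_⟩
          obtain ⟨s, hs, rfl⟩ := (isRoot_iff hp cs a).1 ha
          rw [ch_pow hp cs hk r ha hm1, ch_hc hp j (neg_ne_zero.2 one_ne_zero) hs, ch_one hp cs hk r ha, ← zpow_natCast,
            ← zpow_mul]
          exact Even.neg_one_zpow (by simp only [_root_.Nat.cast_ofNat, _root_.even_two, _root_.Even.mul_left])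
        have h5 := congrArg (emb hp.inList f) (hcz x hxE)
        rw [map_mul, map_mul, hx] at h5
        calc hc hp j (-1 : k) * (y * emb hp.inList f z * y⁻¹) = y * ((y⁻¹ * hc hp j (-1 : k) * y) * emb hp.inList f z) * y⁻¹ := by
              group
          _ = y * (emb hp.inList f z * (y⁻¹ * hc hp j (-1 : k) * y)) * y⁻¹ := by rw [h5]
          _ = _ := by group
    have h4 : emb hp.inList f z = 1 := by
      calc emb hp.inList f z = y⁻¹ * (y * emb hp.inList f z * y⁻¹) * y := by group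
        _ = 1 := by rw [h3]; group
    apply emb_injective hp.inList f
    rw [h4, map_one]

include hp hk f in
/-- **`RadY`** for the untwisted groups. -/
theorem radY_group {d : ℕ} {B : Fin l → Fin l → ℤ} (hB : InvC D l d B) (hd : ∀ m : ℕ, Odd m → m.Coprime d) (hd0 : d ≠ 0)
    (hM : SymTwo M) (hF1 : IsSimpleGroup ↥(D.group F) ∧ ¬ IsMulCommutative ↥(D.group F))
    (hZ : center ↥(D.group k) = ⊥) (h0 : 0 < D.nroots) (hr2 : r ≠ 2)
    (hodd : ∀ s, s < D.nroots → ∃ j : Fin l, Odd (D.cartan j s)) : RadY r ↥(D.group F) := by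
  intro Q hQ hQ1 hrad A hA hAQ hAI
  have hW := finite_W hp M.toCoxeterSystem
  set! cs : CoxeterSystem M M.Group := M.toCoxeterSystem with hcs
  obtain ⟨g, J, -, hQe, hNe⟩ := radical_eq (KFacts.RgdFiltChev.filt hp cs r) (G1_eq_top hp cs) hQ hQ1 hrad
  set! V := VJ cs hp.isCartan (XX D l F) J with hV; rewrite [← hV] at hQe
  have hcm : ∀ x, x ∈ Q ↔ g⁻¹ * x * g ∈ V := fun x => by rw [hQe, mem_cj]
  have hcm' : ∀ x, x ∈ V ↔ g * x * g⁻¹ ∈ Q := fun x => by
    rw [hcm]
    have e1 : g⁻¹ * (g * x * g⁻¹) * g = x := by group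
    rw [e1]
  have hNV : normalizer (V : Set ↥(D.group F)) = PJ cs hp.isCartan (TT D F) (XX D l F) J := by
    have h1 : cj g (normalizer (V : Set ↥(D.group F))) = cj g (PJ cs hp.isCartan (TT D F) (XX D l F) J) := by
      rw [← Nodes.NormX.normalizer_cj, ← hQe, hNe]
    have h2 := congrArg (cj g⁻¹) h1
    rwa [cj_inv_cj, cj_inv_cj] at h2
  have hradV : ∀ R : Subgroup ↥(D.group F), IsPGroup r R → R ≤ normalizer (V : Set ↥(D.group F)) →
      normalizer (V : Set ↥(D.group F)) ≤ normalizer (R : Set ↥(D.group F)) → R ≤ V := by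
    intro R hR h1 h2
    have h3 := hrad (cj g R) (hR.map _) (by rw [hQe, Nodes.NormX.normalizer_cj]; exact cj_mono g h1)
      (by rw [hQe, Nodes.NormX.normalizer_cj, Nodes.NormX.normalizer_cj]; exact cj_mono g h2)
    rw [hQe] at h3
    exact (cj_le_cj_iff g).1 h3
  -- the conjugate group of automorphisms
  set! c : MulAut ↥(D.group F) := MulAut.conj g with hc
  have hcapp : ∀ x, c x = g * x * g⁻¹ := fun x => rfl
  set! A' : Subgroup (MulAut ↥(D.group F)) := A.map (MulAut.conj c⁻¹).toMonoidHom with hA'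
  have hA'm : ∀ a, a ∈ A' ↔ c * a * c⁻¹ ∈ A := by
    intro a
    constructor
    · rintro ⟨b, hb, rfl⟩
      have e1 : c * (MulAut.conj c⁻¹).toMonoidHom b * c⁻¹ = b := by
        show c * (c⁻¹ * b * c⁻¹⁻¹) * c⁻¹ = b
        group
      rw [e1]
      exact hb
    · intro h1
      refine ⟨_, h1, ?_⟩
      show c⁻¹ * (c * a * c⁻¹) * c⁻¹⁻¹ = a
      group
  have hA'c : Odd (Nat.card A') := by
    rw [hA', card_map_of_injective (MulAut.conj c⁻¹).injective]
    exact hA
  obtain ⟨E, hE1, hE2, hE3, hE4⟩ := radConc hp hk f cs hB hd hd0 hM hF1 hZ h0 hr2 hodd J hradV hNV A' hA'c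
    (by
      intro a ha y
      have h1 := hAQ _ ((hA'm a).1 ha) (g * y * g⁻¹)
      have h2 : (c * a * c⁻¹) (g * y * g⁻¹) = g * a y * g⁻¹ := by
        have h3 : g * y * g⁻¹ = c y := rfl
        rw [h3, MulAut.mul_apply, MulAut.inv_apply_self, MulAut.mul_apply]
        rfl
      rw [h2, ← hcm', ← hcm'] at h1
      exact h1)
    (by
      intro y hy
      rw [hA'm] at hy
      have h1 : c * MulAut.conj y * c⁻¹ = MulAut.conj (g * y * g⁻¹) := by
        rw [hc, ← map_inv, ← map_mul, ← map_mul]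
      rw [h1] at hy
      rw [hcm']
      exact hAI _ hy)
  refine ⟨cj g E, ?_, hE2.map _, ?_, ?_⟩
  · rw [hQe, Nodes.NormX.normalizer_cj]
    exact cj_mono g hE1
  · intro a ha x hx
    rw [mem_cj] at hx
    have ha' : c⁻¹ * a * c ∈ A' := by
      rw [hA'm]
      have e1 : c * (c⁻¹ * a * c) * c⁻¹ = a := by group
      rw [e1]
      exact ha
    have h1 := hE3 _ ha' _ hx
    rw [hcm']  at h1
    have h2 : (c⁻¹ * a * c) (g⁻¹ * x * g) = g⁻¹ * a x * g := by
      rw [MulAut.mul_apply, MulAut.mul_apply, hcapp]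
      have e1 : g * (g⁻¹ * x * g) * g⁻¹ = x := by group
      rw [e1]
      apply c.injective
      rw [MulAut.apply_inv_self, hcapp]
      group
    rw [h2] at h1
    have e1 : g * (g⁻¹ * x * g * (g⁻¹ * a x * g)⁻¹) * g⁻¹ = x * (a x)⁻¹ := by group
    rwa [e1] at h1
  · intro z hz h1
    have h2 := hE4 (g⁻¹ * z * g) ((hcm z).1 hz) fun x hx => by
      have h3 := h1 (g * x * g⁻¹) (by
        rw [mem_cj]
        have e1 : g⁻¹ * (g * x * g⁻¹) * g = x := by group
        rwa [e1])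
      calc x * (g⁻¹ * z * g) = g⁻¹ * (g * x * g⁻¹ * z) * g := by group
        _ = g⁻¹ * (z * (g * x * g⁻¹)) * g := by rw [h3]
        _ = _ := by group
    calc z = g * (g⁻¹ * z * g) * g⁻¹ := by group
      _ = 1 := by rw [h2]; group

end Main

/-! ### the rows -/

section Rows

variable {r : ℕ} [Fact r.Prime] {F : Type} [Field F] [Fintype F] [CharP F r]

theorem coprime_one (m : ℕ) (_ : Odd m) : m.Coprime 1 := Nat.coprime_one_right m

theorem coprime_two (m : ℕ) (h : Odd m) : m.Coprime 2 := Nat.coprime_two_right.2 h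

theorem odd_G2 : ∀ s, s < chevG2.nroots → ∃ j : Fin 2, Odd (chevG2.cartan j s) := by decide +kernel

theorem odd_F4 : ∀ s, s < chevF4.nroots → ∃ j : Fin 4, Odd (chevF4.cartan j s) := by (rewrite [Cfsg.Agent.ChevFast.F4.cartan]; decide +kernel)

theorem odd_E7 : ∀ s, s < chevE7.nroots → ∃ j : Fin 7, Odd (chevE7.cartan j s) := by (rewrite [Cfsg.Agent.ChevFast.E7.cartan]; open scoped Cfsg.Agent.ChevFast.Lin in decide +kernel)

theorem odd_E8 : ∀ s, s < chevE8.nroots → ∃ j : Fin 8, Odd (chevE8.cartan j s) := by (rewrite [Cfsg.Agent.ChevFast.E8.cartan]; open scoped Cfsg.Agent.ChevFast.Lin in decide +kernel)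

theorem radY_g2 (hr2 : r ≠ 2) (h3 : 3 ≤ Fintype.card F) : RadY r ↥(chevG2.group F) := by
  obtain ⟨f⟩ := exists_emb r F
  exact radY_group g2T (locFin_of_isAlgebraic r (AlgebraicClosure (ZMod r))) f inv_G2 coprime_one one_ne_zero symTwo_G2
    (S1055.result (_root_.Cfsg.Agent.BpExc.RowsUntw.exists_ne h3)) (center_eq_bot_of_simple (S1055.result (exists_ne_algClosed _))) (by decide) hr2 odd_G2

theorem radY_f4 (hr2 : r ≠ 2) : RadY r ↥(chevF4.group F) := by
  obtain ⟨f⟩ := exists_emb r F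
  exact radY_group f4T (locFin_of_isAlgebraic r (AlgebraicClosure (ZMod r))) f inv_F4 coprime_one one_ne_zero symTwo_F4
    (S1054.result chevF4 (by simp)) (center_eq_bot_of_simple (S1054.result chevF4 (by simp))) (by decide) hr2 odd_F4

theorem radY_e7 (hr2 : r ≠ 2) : RadY r ↥(chevE7.group F) := by
  obtain ⟨f⟩ := exists_emb r F
  exact radY_group e7T (locFin_of_isAlgebraic r (AlgebraicClosure (ZMod r))) f inv_E7 coprime_two two_ne_zero symTwo_E7
    (S1054.result chevE7 (by simp)) (center_eq_bot_of_simple (S1054.result chevE7 (by simp))) (by decide) hr2 odd_E7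

theorem radY_e8 (hr2 : r ≠ 2) : RadY r ↥(chevE8.group F) := by
  obtain ⟨f⟩ := exists_emb r F
  exact radY_group e8T (locFin_of_isAlgebraic r (AlgebraicClosure (ZMod r))) f inv_E8 coprime_one one_ne_zero symTwo_E8
    (S1054.result chevE8 (by simp)) (center_eq_bot_of_simple (S1054.result chevE8 (by simp))) (by decide) hr2 odd_E8

end Rows

end Cfsg.Agent.H381.Car
end

-- part: H381/Car/Exc
section
/-!
# Carter subgroups: the rows `G₂(q)`, `F₄(q)`, `E₇(q)`, `E₈(q)`, `q` odd (S3852, helper381)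

* `ctx_of` : the almost simple situation with one Carter subgroup `K`, `K S = G`, gives `Ctx G S`;
* `two_of_rad` : `K ∩ S` is a `2`-group from `RadY` and the reality of the elements of odd prime order `≠ r`;
* `two_g2`, `two_f4`, `two_e7`, `two_e8` : `K ∩ S` is a `2`-group;
* `row_g2`, `row_f4`, `row_e7`, `row_e8` : Carter subgroups are conjugate.
-/

set_option autoImplicit false
set_option linter.unusedSectionVars false

namespace Cfsg.Agent.H381.Car

open Subgroup Pointwise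
open Cfsg.Agent.Solvable.Carter Cfsg.Agent.H18.Carter
open Cfsg Cfsg.Lie
open Cfsg.Agent.BpExc Cfsg.Agent.BpExc.FamInst Cfsg.Agent.BpExc.RowsUntw Cfsg.Agent.H696.GmnUntw

universe u

section

variable {G : Type u} [Group G] [Finite G] {S : Subgroup G} [S.Normal]

/-- real elements of odd prime order -/
theorem not_dvd_of_isConj_inv (c : Ctx G S) {Y : Type*} [Group Y] (e : S ≃* Y) {l : ℕ} [hl : Fact l.Prime]
    (hl2 : l ≠ 2) (h : ∀ z : Y, z ^ l = 1 → IsConj z z⁻¹) {K : Subgroup G} (hK : IsCarter K) :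
    ¬ l ∣ Nat.card ↥(K ⊓ S) := by
  refine not_dvd_of_power c (r := l) (fun z hz ho => ?_) hK
  have h1 : (e ⟨z, hz⟩) ^ l = 1 := by
    rw [← map_pow, ← map_one e]
    congr 1
    apply Subtype.ext
    show z ^ l = 1
    rw [← ho, pow_orderOf_eq_one]
  obtain ⟨g, hg⟩ := isConj_iff.1 (h _ h1)
  have h2 : ((e.symm g : S) : G) * z * ((e.symm g : S) : G)⁻¹ = z⁻¹ := by
    have h3 := congrArg (fun y => ((e.symm y : S) : G)) hg
    simpa only [_root_.map_mul, _root_.MulEquiv.symm_apply_apply, _root_.map_inv, _root_.Subgroup.coe_mul, _root_.InvMemClass.coe_inv] using h3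
  refine ⟨(e.symm g : S), ?_, ?_⟩
  · rw [h2]
    intro h4
    have h5 : z ^ 2 = 1 := by rw [sq]; nth_rw 1 [← h4]; exact inv_mul_cancel z
    have h6 := orderOf_dvd_of_pow_eq_one h5
    rw [ho] at h6
    exact hl2 ((Nat.prime_dvd_prime_iff_eq hl.out Nat.prime_two).1 h6)
  · rw [h2]
    exact inv_mem (mem_zpowers z)

/-- **`K ∩ S` is a `2`-group.** -/
theorem two_of_rad (c : Ctx G S) {Y : Type*} [Group Y] (e : S ≃* Y) {r : ℕ} [hr : Fact r.Prime] (hr2 : r ≠ 2)
    (hR : RadY r Y) (h : ∀ l : ℕ, l.Prime → l ≠ 2 → l ≠ r → ∀ z : Y, z ^ l = 1 → IsConj z z⁻¹) {K : Subgroup G}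
    (hK : IsCarter K) : IsPGroup 2 ↥(K ⊓ S) := by
  have h1 : ∀ l : ℕ, l.Prime → l ∣ Nat.card ↥(K ⊓ S) → l = 2 ∨ l = r := by
    intro l hl hld
    by_contra hne
    push Not at hne
    have : Fact l.Prime := ⟨hl⟩
    exact not_dvd_of_isConj_inv c e hne.1 (h l hl hne.1 hne.2) hK hld
  have h2 := not_dvd_of_rad hr2 (radG_of e c.cen hR) hK h1
  rw [IsPGroup.iff_card]
  refine ⟨_, Nat.eq_prime_pow_of_unique_prime_dvd Nat.card_pos.ne' ?_⟩
  intro l hl hld
  rcases h1 l hl hld with h3 | h3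
  · exact h3
  · rw [h3] at hld
    exact absurd hld h2

theorem exists_odd_char (F : Type) [Field F] [Fintype F] (hq : Odd (Fintype.card F)) :
    ∃ r : ℕ, r.Prime ∧ r ≠ 2 ∧ CharP F r := by
  obtain ⟨r, hr, hc⟩ := exists_char F
  refine ⟨r, hr, ?_, hc⟩
  rintro rfl
  have : Fact (Nat.Prime 2) := ⟨hr⟩
  obtain ⟨n, hn0, hn⟩ := FamField.exists_card (F := F) 2
  rw [Nat.card_eq_fintype_card] at hn
  rw [hn] at hq
  exact (Nat.not_even_iff_odd.2 hq) (Nat.even_pow.2 ⟨even_two, hn0.ne'⟩)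

theorem three_le_card (F : Type) [Field F] [Fintype F] (hq : Odd (Fintype.card F)) : 3 ≤ Fintype.card F := by
  have h1 := Fintype.one_lt_card (α := F)
  obtain ⟨m, hm⟩ := hq
  omega

theorem two_g2 (c : Ctx G S) (F : Type) [Field F] [Fintype F] (hq : Odd (Fintype.card F))
    (e : S ≃* ↥(chevG2.group F)) {K : Subgroup G} (hK : IsCarter K) : IsPGroup 2 ↥(K ⊓ S) := by
  obtain ⟨r, hr, hr2, hc⟩ := exists_odd_char F hq
  have : Fact r.Prime := ⟨hr⟩
  exact two_of_rad c e hr2 (radY_g2 hr2 (three_le_card F hq)) (fun l hl _ hlr z hz =>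
    isConj_inv g2T inv_G2 odd_one (center_eq_bot_of_simple (S1055.result (exists_ne_algClosed _)))
      (Cfsg.Agent.H696.GmnNeg.negG2 g2T _) hl hlr hz) hK

theorem two_f4 (c : Ctx G S) (F : Type) [Field F] [Fintype F] (hq : Odd (Fintype.card F))
    (e : S ≃* ↥(chevF4.group F)) {K : Subgroup G} (hK : IsCarter K) : IsPGroup 2 ↥(K ⊓ S) := by
  obtain ⟨r, hr, hr2, hc⟩ := exists_odd_char F hq
  have : Fact r.Prime := ⟨hr⟩
  exact two_of_rad c e hr2 (radY_f4 hr2) (fun l hl _ hlr z hz =>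
    isConj_inv f4T inv_F4 odd_one (center_eq_bot_of_simple (S1054.result chevF4 (by simp)))
      (Cfsg.Agent.H696.GmnNeg.negF4 f4T _) hl hlr hz) hK

theorem two_e7 (c : Ctx G S) (F : Type) [Field F] [Fintype F] (hq : Odd (Fintype.card F))
    (e : S ≃* ↥(chevE7.group F)) {K : Subgroup G} (hK : IsCarter K) : IsPGroup 2 ↥(K ⊓ S) := by
  obtain ⟨r, hr, hr2, hc⟩ := exists_odd_char F hq
  have : Fact r.Prime := ⟨hr⟩
  exact two_of_rad c e hr2 (radY_e7 hr2) (fun l hl _ hlr z hz =>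
    isConj_iff.2 (Cfsg.Agent.H486.OnE7.real_e7_odd hr2 hl hlr hz)) hK

theorem two_e8 (c : Ctx G S) (F : Type) [Field F] [Fintype F] (hq : Odd (Fintype.card F))
    (e : S ≃* ↥(chevE8.group F)) {K : Subgroup G} (hK : IsCarter K) : IsPGroup 2 ↥(K ⊓ S) := by
  obtain ⟨r, hr, hr2, hc⟩ := exists_odd_char F hq
  have : Fact r.Prime := ⟨hr⟩
  exact two_of_rad c e hr2 (radY_e8 hr2) (fun l hl _ hlr z hz =>
    isConj_inv e8T inv_E8 odd_one (center_eq_bot_of_simple (S1054.result chevE8 (by simp)))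
      (Cfsg.Agent.H696.GmnNeg.negE8 e8T _) hl hlr hz) hK

end

end Cfsg.Agent.H381.Car
end

-- part: H381/Car/EvenOne
section
/-!
# Carter subgroups: one class of involutions (S3852, helper381)

* `cc_of_one_class` : one class of involutions in `S` and `|K ∩ S|` even for all Carter subgroups `K`;
* `SylInv r Y` : an involution of `Y` fixed by `N(U)` modulo `U`, `U` a Sylow `r`-subgroup of `Y`;
* `even_of_sylInv` : then `|K ∩ S|` is even as soon as `K ∩ S` is a `{2, r}`-group;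
* `power_of_cyclic` : elements of order `p` are conjugate to proper powers, if the Sylow `p`-subgroups are cyclic.
-/

set_option autoImplicit false
set_option linter.unusedSectionVars false

namespace Cfsg.Agent.H381.Car

open Subgroup Pointwise
open Cfsg.Agent.Solvable.Carter Cfsg.Agent.H18.Carter

universe u

section

variable {G : Type u} [Group G] [Finite G] {S : Subgroup G} [S.Normal]

/-- **One class of involutions.** -/
theorem cc_of_one_class (c : Ctx G S)
    (hone : ∀ s ∈ S, ∀ t ∈ S, orderOf s = 2 → orderOf t = 2 → ∃ g : G, g * s * g⁻¹ = t)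
    (heven : ∀ K : Subgroup G, IsCarter K → 2 ∣ Nat.card ↥(K ⊓ S)) : CC G := by
  intro K H hK hH
  have : Fact (Nat.Prime 2) := ⟨Nat.prime_two⟩
  obtain ⟨z, hzS, hzK, hz2, hzc⟩ := exists_central (S := S) hK.1 (heven K hK)
  obtain ⟨w, hwS, hwH, hw2, hwc⟩ := exists_central (S := S) hH.1 (heven H hH)
  obtain ⟨g, hg⟩ := hone z hzS w hwS hz2 hw2
  refine c.conj_of_cent hK hH (z := z) ?_ hzc (g := g) ?_
  · rintro rfl
    rw [orderOf_one] at hz2
    exact absurd hz2 (by norm_num)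
  · rw [hg]; exact hwc

/-- the same for a group isomorphic to `S` -/
theorem cc_of_one_class' (c : Ctx G S) {Y : Type*} [Group Y] (e : S ≃* Y)
    (hone : ∀ s t : Y, orderOf s = 2 → orderOf t = 2 → IsConj s t)
    (heven : ∀ K : Subgroup G, IsCarter K → 2 ∣ Nat.card ↥(K ⊓ S)) : CC G := by
  refine cc_of_one_class c (fun s hs t ht hs2 ht2 => ?_) heven
  obtain ⟨g, hg⟩ := isConj_iff.1 (hone (e ⟨s, hs⟩) (e ⟨t, ht⟩) (by rw [MulEquiv.orderOf_eq, orderOf_mk, hs2])
    (by rw [MulEquiv.orderOf_eq, orderOf_mk, ht2]))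
  refine ⟨(e.symm g : S), ?_⟩
  have h3 := congrArg (fun y => ((e.symm y : S) : G)) hg
  simpa only [_root_.map_mul, _root_.MulEquiv.symm_apply_apply, _root_.map_inv, _root_.Subgroup.coe_mul, _root_.InvMemClass.coe_inv] using h3

end

/-- an involution fixed modulo a Sylow `r`-subgroup by its normaliser -/
def SylInv (r : ℕ) (Y : Type*) [Group Y] : Prop :=
  ∃ U : Subgroup Y, IsPGroup r U ∧ ¬ r ∣ U.index ∧ ∃ z : Y, orderOf z = 2 ∧
    ∀ α : MulAut Y, (∀ u, α u ∈ U ↔ u ∈ U) → z⁻¹ * α z ∈ U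

theorem SylInv.congr {r : ℕ} {Y Y' : Type*} [Group Y] [Group Y'] (e : Y ≃* Y') (h : SylInv r Y) : SylInv r Y' := by
  obtain ⟨U, hU, hi, z, hz, hα⟩ := h
  refine ⟨U.map e.toMonoidHom, hU.map _, ?_, e z, by rw [MulEquiv.orderOf_eq, hz], fun α hαU => ?_⟩
  · rw [Subgroup.index_map_of_bijective (f := e.toMonoidHom) e.bijective]
    exact hi
  · have hmem : ∀ y, e y ∈ U.map e.toMonoidHom ↔ y ∈ U := by
      intro y
      constructor
      · rintro ⟨w, hw, hwy⟩
        exact e.injective hwy ▸ hw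
      · exact fun hy => ⟨y, hy, rfl⟩
    have h1 := hα ((e.trans α).trans e.symm) (fun u => by
      rw [← hmem, ← hmem]
      simp only [MulEquiv.trans_apply, MulEquiv.apply_symm_apply]
      exact hαU _)
    rw [← hmem, map_mul, map_inv] at h1
    simpa only [_root_.MulEquiv.toMonoidHom_eq_coe, _root_.Subgroup.mem_map, _root_.MonoidHom.coe_coe, _root_.MulEquiv.trans_apply, _root_.MulEquiv.apply_symm_apply] using h1

section

variable {G : Type u} [Group G] [Finite G] {S : Subgroup G} [S.Normal]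

/-- **`|K ∩ S|` is even.** -/
theorem even_of_sylInv (hF : Fpf.{u}) (c : Ctx G S) {Y : Type*} [Group Y] (e : S ≃* Y) {r : ℕ} [hr : Fact r.Prime]
    (hr2 : r ≠ 2) (hY : SylInv r Y) {K : Subgroup G} (hK : IsCarter K)
    (hd : ∀ l : ℕ, l.Prime → l ∣ Nat.card ↥(K ⊓ S) → l = 2 ∨ l = r) : 2 ∣ Nat.card ↥(K ⊓ S) := by
  by_contra h2
  have hKr : IsPGroup r ↥(K ⊓ S) := by
    rw [IsPGroup.iff_card]
    refine ⟨_, Nat.eq_prime_pow_of_unique_prime_dvd Nat.card_pos.ne' ?_⟩
    intro l hl hld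
    rcases hd l hl hld with h | h
    · exact absurd (h ▸ hld) h2
    · exact h
  obtain ⟨P, hPS, hPr, hPi, hKP⟩ := lemma_x hF c.min S hK hKr
  obtain ⟨U, hU, hUi, z, hz, hα⟩ := hY.congr e.symm
  have hp1 : IsPGroup r (P.subgroupOf S) := hPr.comap_of_injective S.subtype S.subtype_injective
  obtain ⟨s, hs⟩ := MulAction.exists_smul_eq S (hp1.toSylow hPi) (hU.toSylow hUi)
  have hs' : MulAut.conj s • P.subgroupOf S = U := by
    have := congrArg (fun Q : Sylow r S => (Q : Subgroup S)) hs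
    exact this
  -- membership
  have hmem : ∀ x : S, x ∈ U ↔ ((s⁻¹ * x * s : S) : G) ∈ P := by
    intro x
    rw [← hs', mem_cj, mem_subgroupOf]
  have hzz : z⁻¹ = z := by
    rw [inv_eq_iff_mul_eq_one, ← sq, ← hz, pow_orderOf_eq_one]
  set! w : S := s⁻¹ * z * s with hw
  have hww : w⁻¹ = w := by
    rw [hw, mul_inv_rev, mul_inv_rev, inv_inv, hzz, mul_assoc]
  have hw2 : orderOf w = 2 := by
    have h1 : orderOf (s⁻¹ * z * s) = orderOf z := by
      have h2 : s⁻¹ * z * s = MulAut.conj s⁻¹ z := by rw [MulAut.conj_apply, inv_inv]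
      rw [h2]
      exact orderOf_injective (MulAut.conj s⁻¹).toMonoidHom (MulAut.conj s⁻¹).injective z
    rw [hw, h1, hz]
  have key : ∀ k ∈ normalizer (P : Set G), (w : G) * k * (w : G)⁻¹ * k⁻¹ ∈ P := by
    intro k hk
    have h1 := hα (MulAut.conj s * MulAut.conjNormal k * MulAut.conj s⁻¹) (fun u => by
      rw [hmem, hmem]
      have e1 : ((s⁻¹ * ((MulAut.conj s * MulAut.conjNormal k * MulAut.conj s⁻¹ : MulAut S) u) * s : S) : G) =
          k * ((s⁻¹ * u * s : S) : G) * k⁻¹ := by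
        simp only [MulAut.mul_apply, MulAut.conj_apply, coe_mul, coe_inv, MulAut.conjNormal_apply, inv_inv]
        group
      rw [e1]
      exact (mem_normalizer_iff.1 hk _).symm)
    rw [hmem] at h1
    have e2 : ((s⁻¹ * (z⁻¹ * ((MulAut.conj s * MulAut.conjNormal k * MulAut.conj s⁻¹ : MulAut S) z)) * s : S) : G) =
        ((w⁻¹ : S) : G) * (k * (w : G) * k⁻¹) := by
      rw [hw]
      simp only [MulAut.mul_apply, MulAut.conj_apply, coe_mul, coe_inv, MulAut.conjNormal_apply, inv_inv, mul_inv_rev]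
      group
    rw [e2, hww] at h1
    have e3 : (w : G) * k * (w : G)⁻¹ * k⁻¹ = (w : G) * (k * (w : G) * k⁻¹) := by
      have h4 : (w : G)⁻¹ = (w : G) := by
        have := congrArg (fun y : S => (y : G)) hww
        simpa using this
      rw [h4]; group
    rw [e3]
    exact h1
  have hPb : P ≠ ⊥ := by
    rintro rfl
    rw [relIndex_bot_left] at hPi
    refine inf_ne_bot hF c hK ?_
    obtain ⟨n, hn⟩ := IsPGroup.iff_card.mp hKr
    rcases Nat.eq_zero_or_pos n with h0 | h0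
    · rw [h0, pow_zero] at hn
      exact card_eq_one.mp hn
    · exfalso
      refine hPi ((dvd_pow_self r h0.ne').trans ?_)
      rw [← hn]
      exact card_dvd_of_le inf_le_right
  have hPnS : P ≠ S := by
    rintro rfl
    apply c.S_not_solvable
    have : Group.IsNilpotent P := hPr.isNilpotent
    infer_instance
  have hwP : (w : G) ∈ normalizer (P : Set G) := by
    rw [← cj_eq_self_iff]
    have h1 : ∀ x ∈ P, (w : G) * x * (w : G)⁻¹ ∈ P := by
      intro x hx
      have h2 := key x (le_normalizer hx)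
      have h3 := mul_mem h2 hx
      rwa [inv_mul_cancel_right] at h3
    have h4 : (w : G)⁻¹ = (w : G) := by
      have := congrArg (fun y : S => (y : G)) hww
      simpa using this
    apply le_antisymm
    · intro x hx
      rw [mem_cj] at hx
      have h2 := h1 _ hx
      have e4 : (w : G) * ((w : G)⁻¹ * x * (w : G)) * (w : G)⁻¹ = x := by group
      rwa [e4] at h2
    · intro x hx
      rw [mem_cj]
      have h2 := h1 x hx
      rw [h4] at h2 ⊢
      exact h2
  have hwK := w_principle_S c hK hPb hPS hPnS hKP w.2 hwP fun k hk => key k (hKP hk)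
  have hpg : IsPGroup r ↥((K ⊓ S) ⊔ P) := hKr.to_sup_of_normal_right' hPr (inf_le_left.trans hKP)
  obtain ⟨n, hn⟩ := (IsPGroup.iff_orderOf.1 hpg) ⟨(w : G), hwK⟩
  rw [orderOf_mk, Subgroup.orderOf_coe, hw2] at hn
  have h5 : (2 : ℕ) ∣ r ^ n := ⟨1, by rw [← hn]⟩
  have h6 := (Nat.prime_dvd_prime_iff_eq Nat.prime_two hr.out).1 (Nat.prime_two.dvd_of_dvd_pow h5)
  exact hr2 h6.symm

end

section Cyclic

variable {S : Type*} [Group S] [Finite S] {p : ℕ} [hp : Fact p.Prime]

/-- cyclic Sylow `p`-subgroups -/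
theorem power_of_cyclic [IsSimpleGroup S] (hna : ¬ ∀ x y : S, x * y = y * x) 
    (hcyc : ∀ Q : Sylow p S, IsCyclic (Q : Subgroup S)) {z : S} (hz : orderOf z = p) :
    ∃ g : S, g * z * g⁻¹ ≠ z ∧ g * z * g⁻¹ ∈ zpowers z := by
  have hd : p ∣ Nat.card S := hz ▸ _root_.orderOf_dvd_natCard z
  have hzp : IsPGroup p (zpowers z) := by
    refine IsPGroup.of_card (n := 1) ?_
    rw [Nat.card_zpowers, hz, pow_one]
  obtain ⟨Q, hQ⟩ := hzp.exists_le_sylow
  have hzQ : z ∈ Q := hQ (mem_zpowers z)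
  have hcQ := hcyc Q
  have hab : ∀ x ∈ Q, ∀ y ∈ Q, x * y = y * x := by
    intro x hx y hy
    have h1 : (⟨x, hx⟩ : (Q : Subgroup S)) * ⟨y, hy⟩ = ⟨y, hy⟩ * ⟨x, hx⟩ := by
      let _ : CommGroup (Q : Subgroup S) := IsCyclic.commGroup
      exact mul_comm _ _
    exact congrArg Subtype.val h1
  have h1 := Cfsg.Agent.H712.Gmn.not_normalizer_le_centralizer hna hd Q
  have h2 : ∃ s ∈ normalizer ((Q : Subgroup S) : Set S), ∃ x ∈ Q, x ^ p = 1 ∧ s * x * s⁻¹ ≠ x := by
    by_contra hcon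
    push Not at hcon
    exact h1 (Cfsg.Agent.H712.Gmn.centralizes_of_omega Q hab hcon)
  obtain ⟨s, hs, x, hx, hxp, hsx⟩ := h2
  -- every element of order dividing `p` of `Q` lies in `⟨z⟩`
  have key : ∀ y ∈ Q, y ^ p = 1 → y ∈ zpowers z := by
    intro y hy hyp
    have hcard : Nat.card {x : (Q : Subgroup S) // x ^ p = 1} ≤ p := by
      classical
      let _ : Fintype (Q : Subgroup S) := Fintype.ofFinite _
      rw [Nat.card_eq_fintype_card, Fintype.card_subtype]
      exact IsCyclic.card_pow_eq_one_le hp.out.pos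
    let f : ↥(zpowers z) → {x : (Q : Subgroup S) // x ^ p = 1} := fun w => ⟨⟨w, hQ w.2⟩, by
      apply Subtype.ext
      have h3 : orderOf (w : S) ∣ p := by
        have h4 := _root_.orderOf_dvd_natCard w
        rw [Nat.card_zpowers, hz] at h4
        rwa [← Subgroup.orderOf_coe] at h4
      exact orderOf_dvd_iff_pow_eq_one.1 h3⟩
    have hf : Function.Injective f := by
      intro a b hab
      apply Subtype.ext
      exact congrArg (fun t : {x : (Q : Subgroup S) // x ^ p = 1} => ((t.1 : (Q : Subgroup S)) : S)) hab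
    have hbij : Function.Bijective f := by
      rw [Nat.bijective_iff_injective_and_card]
      refine ⟨hf, le_antisymm (Nat.card_le_card_of_injective f hf) ?_⟩
      rw [Nat.card_zpowers, hz]
      exact hcard
    obtain ⟨w, hw⟩ := hbij.2 ⟨⟨y, hy⟩, Subtype.ext hyp⟩
    have h5 := congrArg (fun t : {x : (Q : Subgroup S) // x ^ p = 1} => ((t.1 : (Q : Subgroup S)) : S)) hw
    have h6 : (w : S) = y := h5
    rw [← h6]
    exact w.2
  have hzp1 : z ^ p = 1 := by rw [← hz, pow_orderOf_eq_one]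
  refine ⟨s, ?_, ?_⟩
  · intro h3
    apply hsx
    obtain ⟨i, hi⟩ := key x hx hxp
    have hi' : z ^ i = x := hi
    rw [← hi', ← conj_zpow, h3]
  · refine key _ ?_ ?_
    · exact (mem_normalizer_iff.1 hs z).1 hzQ
    · rw [conj_pow, hzp1, mul_one, mul_inv_cancel]

end Cyclic

/-- cyclic Sylow `l`-subgroups: `l ∤ |K ∩ S|` -/
theorem not_dvd_of_cyclic {G : Type u} [Group G] [Finite G] {S : Subgroup G} [S.Normal] (c : Ctx G S) {Y : Type*}
    [Group Y] (e : S ≃* Y) {l : ℕ} [hl : Fact l.Prime] (h : ∀ Q : Sylow l Y, IsCyclic (Q : Subgroup Y))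
    {K : Subgroup G} (hK : IsCarter K) : ¬ l ∣ Nat.card ↥(K ⊓ S) := by
  have hs := c.simple
  have hfin : Finite Y := Finite.of_equiv S e.toEquiv
  have hsY : IsSimpleGroup Y := e.symm.isSimpleGroup
  have hnY : ¬ ∀ x y : Y, x * y = y * x := by
    intro h1
    apply c.na
    intro a b
    apply e.injective
    rw [map_mul, map_mul, h1]
  refine not_dvd_of_power c (r := l) (fun z hz ho => ?_) hK
  obtain ⟨g, hg1, hg2⟩ := power_of_cyclic (p := l) hnY h (z := e ⟨z, hz⟩) (by rw [MulEquiv.orderOf_eq, orderOf_mk, ho])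
  have h3 : e (e.symm g * ⟨z, hz⟩ * (e.symm g)⁻¹) = g * e ⟨z, hz⟩ * g⁻¹ := by simp
  refine ⟨(e.symm g : S), ?_, ?_⟩
  · intro h4
    apply hg1
    rw [← h3]
    congr 1
    exact Subtype.ext h4
  · obtain ⟨i, hi⟩ := hg2
    refine ⟨i, ?_⟩
    have hi' : (e ⟨z, hz⟩) ^ i = g * e ⟨z, hz⟩ * g⁻¹ := hi
    rw [← map_zpow, ← h3] at hi'
    exact congrArg Subtype.val (e.injective hi')

end Cfsg.Agent.H381.Car
end

-- part: H381/Car/RowTwD4
section
/-!
# Carter subgroups: the row `³D₄(q)`, `q` odd (S3852, helper381)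

* `sylInv_of_sign` : an involution of the torus acting by signs on the simple root groups gives `SylInv`;
* `row_3d4`.
-/

set_option autoImplicit false
set_option linter.unusedSectionVars false

namespace Cfsg.Agent.H381.Car

open Subgroup
open Cfsg.Agent.Solvable.Carter Cfsg.Agent.H18.Carter

universe u

section Sign

open CoxeterSystem Cfsg.Agent.ChevalleyStructure.CoxeterGeom Cfsg.Agent.Tits.Roots Cfsg.Agent.Tits.Core
  Cfsg.Agent.Tits.RootComb Cfsg.Agent.Tits.Exchange Cfsg.Agent.Nodes.Reps Cfsg.Agent.Nodes.BNOf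
  Cfsg.Agent.Nodes.Comb
  Cfsg.Agent.Nodes.StabComb Cfsg.Agent.Nodes.ZFam
  Cfsg.Agent.Nodes.Bruhat Cfsg.Agent.Nodes.OppDec Cfsg.Agent.Nodes.LeviDec Cfsg.Agent.Nodes.NormalForm
  Cfsg.Agent.KFacts.RgdOpp Cfsg.Agent.KFacts.RgdAut Cfsg.Agent.KFacts.RgdDiag Cfsg.Agent.KFacts.RgdRigid
  Cfsg.Agent.H142.GmnPC Cfsg.Agent.H681.GmnRgd

variable {I W Y : Type*} [Fintype I] [DecidableEq I] [Group W] [Group Y] {M : CoxeterMatrix I}
  {cs : CoxeterSystem M W} {A : I → I → ℤ} {h : IsCartan M A} {p : ℕ} {T : Subgroup Y} {n : I → Y}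
  {X : (I → ℤ) → Subgroup Y} [Finite W] [Finite Y] [hp : Fact p.Prime] (R : RGD cs h p T n X)

include R

/-- **`SylInv` from an involution of the torus acting by signs.** -/
theorem sylInv_of_sign (hG1 : RGD.Sup X {x | IsRoot cs h x} = ⊤) (hZ : Subgroup.center Y = ⊥)
    (hσ : ∀ (β : MulAut Y) (σ : Equiv.Perm I), _root_.Cfsg.Agent.KFacts.RgdDiag.Diag T X β σ → σ = 1) {t : Y} (ht : t ∈ T) (ht1 : t ≠ 1)
    (hs : ∀ i, (∀ x ∈ X (sr i), t * x * t⁻¹ = x) ∨ (∀ x ∈ X (sr i), t * x * t⁻¹ = x⁻¹)) : SylInv p Y := by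
  have hG := GG_eq_top (T := T) hG1
  have ht2 : orderOf t = 2 := by
    refine orderOf_eq_prime ?_ ht1
    refine eq_one_of_cent R hG1 hZ (pow_mem ht 2) fun i x hx => ?_
    have e : t ^ 2 * x * (t ^ 2)⁻¹ = t * (t * x * t⁻¹) * t⁻¹ := by
      rw [sq, mul_inv_rev]
      simp only [mul_assoc]
    rw [e]
    rcases hs i with h1 | h1
    · rw [h1 x hx, h1 x hx]
    · rw [h1 x hx, h1 _ (inv_mem hx), inv_inv]
  obtain ⟨P, hP⟩ := R.isPGroup_Upos.exists_le_sylow
  have hPU : (P : Subgroup Y) = RGD.Sup X (RGD.Pos cs h) :=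
    eq_U_of_isPGroup R P.isPGroup' hP (by rw [hG]; exact le_top)
  refine ⟨RGD.Sup X (RGD.Pos cs h), R.isPGroup_Upos, ?_, t, ht2, fun α hα => ?_⟩
  · rw [← hPU]
    exact P.not_dvd_index
  have hαF : _root_.Cfsg.Agent.KFacts.RgdAut.Fix α (RGD.Sup X (RGD.Pos cs h)) := hα
  obtain ⟨u, hu, hFU, -, hFN, -⟩ := exists_frame R hG hαF
  obtain ⟨σ, D⟩ := exists_diag R hG hFU hFN
  obtain rfl := hσ _ _ D
  set! β := MulAut.conj u * α with hβ; rewrite [← hβ] at D hFN hFU
  have hβt : β t ∈ T := (D.tor t).2 ht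
  have key : ∀ i, ∀ x ∈ X (sr i), β t * x * (β t)⁻¹ = t * x * t⁻¹ := by
    intro i x hx
    have hx' : β⁻¹ x ∈ X (sr i) := by
      have := (D.pos i (β⁻¹ x)).1
      rw [Equiv.Perm.one_apply, MulAut.apply_inv_self] at this
      exact this hx
    have e : β t * x * (β t)⁻¹ = β (t * β⁻¹ x * t⁻¹) := by
      rw [map_mul, map_mul, map_inv, MulAut.apply_inv_self]
    rw [e]
    rcases hs i with h1 | h1
    · rw [h1 _ hx', h1 _ hx, MulAut.apply_inv_self]
    · rw [h1 _ hx', h1 _ hx, map_inv, MulAut.apply_inv_self]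
  have h1 : t⁻¹ * β t = 1 := by
    refine eq_one_of_cent R hG1 hZ (mul_mem (inv_mem ht) hβt) fun i x hx => ?_
    have e : t⁻¹ * β t * x * (t⁻¹ * β t)⁻¹ = t⁻¹ * (β t * x * (β t)⁻¹) * t := by group
    rw [e, key i x hx]
    group
  rw [inv_mul_eq_one] at h1
  -- `α t = u⁻¹ t u`
  have h2 : u * α t * u⁻¹ = t := by
    have : β t = u * α t * u⁻¹ := by rw [hβ, MulAut.mul_apply, MulAut.conj_apply]
    rw [← this, ← h1]
  have h3 : t⁻¹ * α t = (t⁻¹ * u⁻¹ * t) * u := by
    have : α t = u⁻¹ * t * u := by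
      nth_rw 2 [← h2]
      group
    rw [this]; group
  rw [h3]
  refine mul_mem ?_ hu
  have h4 := (Subgroup.mem_normalizer_iff.1 (RGD.T_le_normalizer_U R (inv_mem ht)) u⁻¹).1 (inv_mem hu)
  rwa [inv_inv] at h4

end Sign

section D4

open Cfsg Cfsg.Lie CoxeterSystem Cfsg.Agent.Nodes
open Cfsg.Agent.Nodes.Comb Cfsg.Agent.Nodes.Reps Cfsg.Agent.Tits.Roots
open Cfsg.Agent.Nodes.BNOf Cfsg.Agent.Nodes.RGDTwD4 Cfsg.Agent.KFacts.TwDFour.Out Cfsg.Agent.Nodes.RGDFoldSL
  Cfsg.Agent.KFacts.RgdField Cfsg.Agent.ChevalleyStructure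
  Cfsg.Agent.ChevalleyStructure.CoxeterGeom Cfsg.Agent.KFacts.RgdDiag Cfsg.Agent.KFacts.RgdNodes

theorem sylInv_twD4 {K : Type*} [Field K] [Fintype K] {q : ℕ} (hq : IsPrimePow q) (hK : Fintype.card K = q ^ 3)
    {p : ℕ} [CharP K p] (hp2 : p ≠ 2) (hZ : Subgroup.center ↥(twistedD4 K q) = ⊥) :
    SylInv p ↥(twistedD4 K q) := by
  have hp : Fact p.Prime := ⟨CharP.char_is_prime K p⟩
  obtain ⟨φ, hφ⟩ := D4Fixed.exists_frob hq hK
  have hW : Finite CoxeterMatrix.G₂.Group := finiteW CoxeterMatrix.G₂.toCoxeterSystem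
  have R := Nodes.RGDTwD4.rgd CoxeterMatrix.G₂.toCoxeterSystem hK hφ p
  have h1 : (-1 : KD φ 0) ≠ 0 := neg_ne_zero.2 one_ne_zero
  have hc0 := chD_hS hφ hK 0 (-1) h1
  have hc1 := ch01 hφ hK (-1) h1
  have ht := PhiD_hS hφ hK 0 (-1) h1
  have hneg : ∀ x ∈ Nodes.RGDTwD4.X φ q (sr 1), PhiD hφ hK 0 (hS (-1)) * x * (PhiD hφ hK 0 (hS (-1)))⁻¹ = x⁻¹ := by
    intro x hx
    obtain ⟨a, rfl⟩ := ((coordD hφ hK 1).mem x).1 hx
    rw [(coordD hφ hK 1).act _ ht, eq_inv_iff_mul_eq_one, ← (coordD hφ hK 1).add]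
    have h2 : chD hφ hK 1 (PhiD hφ hK 0 (hS (-1))) = -1 := by
      apply Subtype.ext
      rw [hc1]
      simp only [_root_.Fin.isValue, _root_.NegMemClass.coe_neg, _root_.OneMemClass.coe_one, _root_.inv_neg, _root_.inv_one]
    rw [h2, neg_one_mul, neg_add_cancel]
    exact (coordD hφ hK 1).zero
  refine sylInv_of_sign R (Nodes.RGDTwD4.G1_eq_top _ hK hφ) hZ ?_ ht
    (Cfsg.Agent.H681.GmnRankTwo.ne_one_of_inverts hp2 R hneg) fun i => ?_
  · intro β σ D
    apply perm_G2 σ
    intro h3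
    have h4 := Diag.card_eq D 0
    rw [h3] at h4
    exact card_ne hφ hK hq.one_lt h4
  fin_cases i
  · left
    intro x hx
    obtain ⟨a, rfl⟩ := ((coordD hφ hK 0).mem x).1 hx
    rw [(coordD hφ hK 0).act _ ht]
    have h2 : chD hφ hK 0 (PhiD hφ hK 0 (hS (-1))) = 1 := by
      rw [hc0]; simp only [_root_.Fin.isValue, _root_.even_two, _root_.Even.neg_pow, _root_.one_pow]
    rw [h2, one_mul]
  · exact Or.inr hneg

end D4

section Row

open Cfsg Cfsg.Lie Cfsg.Agent.BpExc Cfsg.Agent.H696.GmnUntw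

variable {G : Type u} [Group G] [Finite G] {S : Subgroup G} [S.Normal]

end Row

end Cfsg.Agent.H381.Car
end
end

-- part: H381/Car/E6Even
section
set_option linter.all false
open scoped Cfsg.Agent.FastGrp

/-!
# Carter subgroups: evenness from rigid elements (steps (A), (C) of the rows `E₆^ε(q)`) (S3852, helper381)

* `two_dvd_of_cent` : an involution of `S` commuting with the odd part of the Carter subgroup `K`: `|K ∩ S|` is even;
* `even_of_invZ` : (A);
* `cc_of_invCl` : (C).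
-/

set_option autoImplicit false
set_option linter.unusedSectionVars false

namespace Cfsg.Agent.H381.Car

open Subgroup Pointwise
open Cfsg.Agent.Solvable.Carter Cfsg.Agent.H18.Carter Cfsg.Agent.H607.Car

universe u

theorem eq_of_inf_norm {Y : Type*} [Group Y] [Finite Y] {p : ℕ} [Fact p.Prime] {Q V : Subgroup Y} (hQV : Q ≤ V)
    (hV : IsPGroup p V) (h1 : V ⊓ normalizer (Q : Set Y) ≤ Q) : V = Q := by
  by_contra hne
  have hnil : Group.IsNilpotent V := hV.isNilpotent
  have h2 : Q.subgroupOf V < ⊤ := by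
    rw [lt_top_iff_ne_top]
    intro h3
    exact hne (le_antisymm (subgroupOf_eq_top.1 h3) hQV)
  have h3 := Group.normalizerCondition_of_isNilpotent (G := V) _ h2
  rw [← subgroupOf_normalizer_eq hQV] at h3
  obtain ⟨⟨x, hxV⟩, hx1, hx2⟩ := SetLike.exists_of_lt h3
  rw [mem_subgroupOf] at hx1 hx2
  exact hx2 (h1 ⟨hxV, hx1⟩)

variable {G : Type u} [Group G] [Finite G] {S : Subgroup G} [S.Normal]

/-- An involution of `S` commuting with the odd part of `K`. -/
theorem two_dvd_of_cent {K P O : Subgroup G} (hK : IsCarter K) (hPK : P ≤ K) (_hOK : O ≤ K) (hPO : P ⊔ O = K)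
    (hP : IsPGroup 2 P) (hc : ∀ x ∈ P, ∀ y ∈ O, x * y = y * x) (hrel : Odd (P.relIndex K)) {a : G} (ha : a ∈ S)
    (ha2 : orderOf a = 2) (haO : ∀ y ∈ O, a * y = y * a) : 2 ∣ Nat.card ↥(K ⊓ S) := by
  have h2 : Fact (Nat.Prime 2) := ⟨Nat.prime_two⟩
  set C : Subgroup G := centralizer (O : Set G) with hC
  have hmC : ∀ x, x ∈ C ↔ ∀ y ∈ O, x * y = y * x := by
    intro x
    rw [hC, mem_centralizer_iff]
    exact ⟨fun h y hy => (h y hy).symm, fun h y hy => (h y hy).symm⟩
  have hPC : P ≤ C := fun x hx => (hmC x).2 fun y hy => hc x hx y hy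
  have haC : a ∈ C := (hmC a).2 haO
  -- `P` is a Sylow `2`-subgroup of `C`
  have key : ∀ Q : Subgroup G, IsPGroup 2 Q → P ≤ Q → Q ≤ C → Q = P := by
    intro Q hQ hPQ hQC
    refine eq_of_inf_norm hPQ hQ ?_
    rintro x ⟨hxQ, hxN⟩
    -- `x` normalises `K`
    have hxK : x ∈ K := by
      rw [← hK.2, ← cj_eq_self_iff, ← hPO, smul_sup, cj_eq_self_iff.2 hxN]
      congr 1
      rw [cj_eq_self_iff]
      refine mem_normalizer_iff.2 fun y => ?_
      have hx := (hmC x).1 (hQC hxQ)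
      have hx' := (hmC x⁻¹).1 (inv_mem (hQC hxQ))
      constructor
      · intro hy
        rw [hx y hy, mul_inv_cancel_right]
        exact hy
      · intro hy
        have h3 := hx' _ hy
        have e : y = x⁻¹ * (x * y * x⁻¹) * x := by group
        rw [e, h3, inv_mul_cancel_right]
        exact hy
    -- `x` is a `2`-element of `K`
    have hPn : (P.subgroupOf K).Normal := by
      refine ⟨fun y hy g => ?_⟩
      rw [mem_subgroupOf] at hy ⊢
      have hg : (g : G) ∈ normalizer (P : Set G) := by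
        have h3 : K ≤ normalizer (P : Set G) := by
          rw [← hPO]
          refine sup_le le_normalizer ?_
          intro o ho
          refine mem_normalizer_iff.2 fun y => ?_
          constructor
          · intro hy
            rw [← hc y hy o ho, mul_inv_cancel_right]
            exact hy
          · intro hy
            have h4 := hc _ hy o ho
            have e : y = o⁻¹ * (o * y * o⁻¹ * o) := by group
            rw [e, h4, inv_mul_cancel_left]
            exact hy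
        exact h3 g.2
      exact (mem_normalizer_iff.1 hg _).1 hy
    by_contra hxP
    obtain ⟨k, hk⟩ := (IsPGroup.iff_orderOf.1 hQ) ⟨x, hxQ⟩
    rw [orderOf_mk] at hk
    -- order in the quotient
    have h3 : orderOf (QuotientGroup.mk (⟨x, hxK⟩ : K) : K ⧸ P.subgroupOf K) ∣ Nat.gcd (2 ^ k) (P.relIndex K) := by
      apply Nat.dvd_gcd
      · refine (orderOf_map_dvd (QuotientGroup.mk' (P.subgroupOf K)) _).trans ?_
        rw [orderOf_mk, hk]
      · rw [relIndex, index_eq_card]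
        exact orderOf_dvd_natCard _
    rw [Nat.Coprime.gcd_eq_one (Nat.Coprime.pow_left k (Nat.coprime_two_left.2 hrel)), Nat.dvd_one, orderOf_eq_one_iff,
      QuotientGroup.eq_one_iff, mem_subgroupOf] at h3
    exact hxP h3
  -- the conjugate of `a`
  have hp1 : IsPGroup 2 (P.subgroupOf C) := hP.comap_of_injective C.subtype C.subtype_injective
  obtain ⟨Q, hQ⟩ := hp1.exists_le_sylow
  have hQP : (Q : Subgroup C).map C.subtype = P := by
    refine key _ (Q.2.map _) ?_ (map_subtype_le _)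
    intro x hx
    exact ⟨⟨x, hPC hx⟩, hQ (mem_subgroupOf.2 hx), rfl⟩
  have ha1 : IsPGroup 2 (zpowers (⟨a, haC⟩ : C)) := by
    refine IsPGroup.of_card (n := 1) ?_
    rw [Nat.card_zpowers, orderOf_mk, ha2, pow_one]
  obtain ⟨Q', hQ'⟩ := ha1.exists_le_sylow
  obtain ⟨g, hg⟩ := MulAction.exists_smul_eq C Q' Q
  have h3 : g * (⟨a, haC⟩ : C) * g⁻¹ ∈ (Q : Subgroup C) := by
    rw [← hg, Sylow.coe_subgroup_smul, mem_smul_pointwise_iff_exists]
    exact ⟨_, hQ' (mem_zpowers _), rfl⟩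
  have h4 : (g : G) * a * (g : G)⁻¹ ∈ K ⊓ S := by
    refine ⟨hPK ?_, Normal.conj_mem inferInstance a ha _⟩
    rw [← hQP]
    exact ⟨_, h3, rfl⟩
  have h5 : orderOf ((g : G) * a * (g : G)⁻¹) = 2 := by
    have : (g : G) * a * (g : G)⁻¹ = MulAut.conj (g : G) a := rfl
    rw [this]
    exact (orderOf_injective (MulAut.conj (g : G)).toMonoidHom (MulAut.conj (g : G)).injective a).trans ha2
  rw [← h5, ← orderOf_mk _ h4]
  exact orderOf_dvd_natCard _

/-- **(A)** -/
theorem even_of_invZ (hF : Fpf.{u}) (c : Ctx G S) {X : Type*} [Group X] (e : S ≃* X) {r : ℕ} [hr : Fact r.Prime]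
    (hr2 : r ≠ 2) (hI : InvZ r X) (hY : SylInv r X) {K : Subgroup G} (hK : IsCarter K) : 2 ∣ Nat.card ↥(K ⊓ S) := by
  by_cases hcase : ∃ l : ℕ, l.Prime ∧ l ∣ Nat.card ↥(K ⊓ S) ∧ l ≠ 2 ∧ l ≠ r
  · obtain ⟨l, hl, hld, hl2, hlr⟩ := hcase
    have : Fact l.Prime := ⟨hl⟩
    obtain ⟨z, hzS, hzK, hz, hzc⟩ := exists_central (S := S) hK.1 hld
    -- `z` is rigid
    have hrig : Rigid (e ⟨z, hzS⟩) := by
      rintro g ⟨i, hi⟩
      have hi' : (e ⟨z, hzS⟩) ^ i = g * e ⟨z, hzS⟩ * g⁻¹ := hi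
      have h1 : z ^ i = ((e.symm g : S) : G) * z * ((e.symm g : S) : G)⁻¹ := by
        have h3 := congrArg (fun y => ((e.symm y : S) : G)) hi'
        simpa using h3
      have h2 := c.eq_of_conj hK hzc (g := ((e.symm g : S) : G)) (by
        rw [← h1]
        intro k hk
        rw [mem_centralizer_singleton_iff]
        have h4 : k * z = z * k := mem_centralizer_singleton_iff.mp (hzc hk)
        exact (Commute.zpow_right h4 i : Commute k (z ^ i)))
      apply e.symm.injective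
      apply Subtype.ext
      simpa using h2
    have hzo : orderOf (e ⟨z, hzS⟩) = l := by rw [MulEquiv.orderOf_eq, orderOf_mk, hz]
    obtain ⟨a, ha2, ha⟩ := hI (e ⟨z, hzS⟩) (hzo ▸ hl) (hzo ▸ hl2) (hzo ▸ hlr) hrig
    obtain ⟨P, O, hPK, hOK, hPO, hP, hO, hc, hrel⟩ := exists_two_odd hK.1
    refine two_dvd_of_cent hK hPK hOK hPO hP hc hrel (a := ((e.symm a : S) : G)) (e.symm a).2 ?_ ?_
    · rw [Subgroup.orderOf_coe, MulEquiv.orderOf_eq, ha2]
    · intro y hy
      -- the automorphism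
      let α : MulAut X := (e.symm.trans (MulAut.conjNormal (H := S) y)).trans e
      have hα : ∀ x, α x = e (MulAut.conjNormal (H := S) y (e.symm x)) := fun x => rfl
      have hpow : ∀ k : ℕ, ∀ x, (α ^ k) x = e (MulAut.conjNormal (H := S) (y ^ k) (e.symm x)) := by
        intro k
        induction k with
        | zero => intro x; rw [pow_zero, pow_zero, map_one]; simp
        | succ k ih =>
          intro x
          rw [pow_succ, MulAut.mul_apply, ih, hα, e.symm_apply_apply, pow_succ, map_mul, MulAut.mul_apply]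
      have hyo : Odd (orderOf y) := by
        refine hO.of_dvd_nat ?_
        rw [← orderOf_mk y hy]
        exact orderOf_dvd_natCard _
      have hαo : Odd (orderOf α) := by
        refine hyo.of_dvd_nat (orderOf_dvd_of_pow_eq_one ?_)
        ext x
        rw [hpow, pow_orderOf_eq_one, map_one]
        simp
      have h1 : α (e ⟨z, hzS⟩) = e ⟨z, hzS⟩ := by
        rw [hα, e.symm_apply_apply]
        congr 1
        apply Subtype.ext
        rw [MulAut.conjNormal_apply]
        have h4 : y * z = z * y := mem_centralizer_singleton_iff.mp (hzc (hOK hy))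
        show y * z * y⁻¹ = z
        rw [h4, mul_inv_cancel_right]
      have h2 := ha α hαo h1
      rw [hα] at h2
      have h3 : MulAut.conjNormal (H := S) y (e.symm a) = e.symm a := by
        apply e.injective
        rw [h2, e.apply_symm_apply]
      have h4 := congrArg Subtype.val h3
      rw [MulAut.conjNormal_apply] at h4
      exact (mul_inv_eq_iff_eq_mul.1 h4).symm
  · push Not at hcase
    refine even_of_sylInv hF c e hr2 hY hK fun l hl hld => ?_
    by_contra hne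
    push Not at hne
    exact hne.2 (hcase l hl hld hne.1)

/-- **(C)** : no involution of `Z(K) ∩ S` is conjugate to `t₀`, the other ones form one class. -/
theorem cc_of_invCl (c : Ctx G S) {X : Type*} [Group X] (e : S ≃* X) {t0 : X} (hI : InvCl X t0)
    (heven : ∀ K : Subgroup G, IsCarter K → 2 ∣ Nat.card ↥(K ⊓ S))
    (hno : ∀ K : Subgroup G, IsCarter K → ∀ t (ht : t ∈ S), t ∈ K → K ≤ centralizer ({t} : Set G) → orderOf t = 2 →
      ¬ IsConj (e ⟨t, ht⟩) t0) : CC G := by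
  intro K H hK hH
  have : Fact (Nat.Prime 2) := ⟨Nat.prime_two⟩
  obtain ⟨z, hzS, hzK, hz2, hzc⟩ := exists_central (S := S) hK.1 (heven K hK)
  obtain ⟨w, hwS, hwH, hw2, hwc⟩ := exists_central (S := S) hH.1 (heven H hH)
  obtain ⟨g, hg⟩ := isConj_iff.1 (hI.2 (e ⟨z, hzS⟩) (e ⟨w, hwS⟩) (by rw [MulEquiv.orderOf_eq, orderOf_mk, hz2])
    (by rw [MulEquiv.orderOf_eq, orderOf_mk, hw2]) (hno K hK z hzS hzK hzc hz2) (hno H hH w hwS hwH hwc hw2))
  have h3 : ((e.symm g : S) : G) * z * ((e.symm g : S) : G)⁻¹ = w := by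
    have h4 := congrArg (fun y => ((e.symm y : S) : G)) hg
    simpa using h4
  refine c.conj_of_cent hK hH (z := z) ?_ hzc (g := ((e.symm g : S) : G)) ?_
  · rintro rfl
    rw [orderOf_one] at hz2
    exact absurd hz2 (by norm_num)
  · rw [h3]; exact hwc

end Cfsg.Agent.H381.Car
end

-- part: H381/Car/SylE6
section
set_option linter.all false
open scoped Cfsg.Agent.FastGrp

/-!
# Carter subgroups: `SylInv` for `E₆(q)`, `²E₆(q)` (task T11) (S3852, helper381)
-/

set_option autoImplicit false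
set_option linter.unusedSectionVars false

namespace Cfsg.Agent.H381.Car

open Subgroup
open Cfsg.Agent.Solvable.Carter Cfsg.Agent.H18.Carter

universe u

section Sign

open CoxeterSystem Cfsg.Agent.ChevalleyStructure.CoxeterGeom Cfsg.Agent.Tits.Roots Cfsg.Agent.Tits.Core
  Cfsg.Agent.Tits.RootComb Cfsg.Agent.Tits.Exchange Cfsg.Agent.Nodes.Reps Cfsg.Agent.Nodes.BNOf
  Cfsg.Agent.Nodes.Comb
  Cfsg.Agent.Nodes.StabComb Cfsg.Agent.Nodes.ZFam
  Cfsg.Agent.Nodes.Bruhat Cfsg.Agent.Nodes.OppDec Cfsg.Agent.Nodes.LeviDec Cfsg.Agent.Nodes.NormalForm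
  Cfsg.Agent.KFacts.RgdOpp Cfsg.Agent.KFacts.RgdAut Cfsg.Agent.KFacts.RgdDiag Cfsg.Agent.KFacts.RgdRigid
  Cfsg.Agent.H142.GmnPC Cfsg.Agent.H681.GmnRgd

variable {I W Y : Type*} [Fintype I] [DecidableEq I] [Group W] [Group Y] {M : CoxeterMatrix I}
  {cs : CoxeterSystem M W} {A : I → I → ℤ} {h : IsCartan M A} {p : ℕ} {T : Subgroup Y} {n : I → Y}
  {X : (I → ℤ) → Subgroup Y} [Finite W] [Finite Y] [hp : Fact p.Prime] (R : RGD cs h p T n X)

include R

/-- **`SylInv` from an involution of the torus acting by signs**, the signs are invariant under the diagram. -/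
theorem sylInv_of_sign' (hG1 : RGD.Sup X {x | IsRoot cs h x} = ⊤) (hZ : Subgroup.center Y = ⊥) {P : I → Prop}
    (hσ : ∀ (β : MulAut Y) (σ : Equiv.Perm I), Diag T X β σ → ∀ i, P (σ i) ↔ P i) {t : Y} (ht : t ∈ T) (ht1 : t ≠ 1)
    (hs : ∀ i, (P i ∧ ∀ x ∈ X (sr i), t * x * t⁻¹ = x) ∨ (¬ P i ∧ ∀ x ∈ X (sr i), t * x * t⁻¹ = x⁻¹)) : SylInv p Y := by
  have hG := GG_eq_top (T := T) hG1
  have ht2 : orderOf t = 2 := by
    refine orderOf_eq_prime ?_ ht1
    refine eq_one_of_cent R hG1 hZ (pow_mem ht 2) fun i x hx => ?_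
    have e : t ^ 2 * x * (t ^ 2)⁻¹ = t * (t * x * t⁻¹) * t⁻¹ := by
      rw [sq, mul_inv_rev]
      simp only [mul_assoc]
    rw [e]
    rcases hs i with ⟨-, h1⟩ | ⟨-, h1⟩
    · rw [h1 x hx, h1 x hx]
    · rw [h1 x hx, h1 _ (inv_mem hx), inv_inv]
  obtain ⟨Q, hQ⟩ := R.isPGroup_Upos.exists_le_sylow
  have hPU : (Q : Subgroup Y) = RGD.Sup X (RGD.Pos cs h) :=
    eq_U_of_isPGroup R Q.isPGroup' hQ (by rw [hG]; exact le_top)
  refine ⟨RGD.Sup X (RGD.Pos cs h), R.isPGroup_Upos, ?_, t, ht2, fun α hα => ?_⟩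
  · rw [← hPU]
    exact Q.not_dvd_index
  have hαF : Fix α (RGD.Sup X (RGD.Pos cs h)) := hα
  obtain ⟨u, hu, hFU, -, hFN, -⟩ := exists_frame R hG hαF
  obtain ⟨σ, D⟩ := exists_diag R hG hFU hFN
  have hP := hσ _ _ D
  set β := MulAut.conj u * α with hβ
  have hβt : β t ∈ T := (D.tor t).2 ht
  have key : ∀ i, ∀ x ∈ X (sr i), β t * x * (β t)⁻¹ = t * x * t⁻¹ := by
    intro i x hx
    obtain ⟨j, rfl⟩ := σ.surjective i
    have hx' : β⁻¹ x ∈ X (sr j) := by
      have := (D.pos j (β⁻¹ x)).1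
      rw [MulAut.apply_inv_self] at this
      exact this hx
    have e : β t * x * (β t)⁻¹ = β (t * β⁻¹ x * t⁻¹) := by
      rw [map_mul, map_mul, map_inv, MulAut.apply_inv_self]
    rw [e]
    rcases hs j with ⟨h0, h1⟩ | ⟨h0, h1⟩
    · rcases hs (σ j) with ⟨h2, h3⟩ | ⟨h2, h3⟩
      · rw [h1 _ hx', h3 _ hx, MulAut.apply_inv_self]
      · exact absurd ((hP j).2 h0) h2
    · rcases hs (σ j) with ⟨h2, h3⟩ | ⟨h2, h3⟩
      · exact absurd ((hP j).1 h2) h0
      · rw [h1 _ hx', h3 _ hx, map_inv, MulAut.apply_inv_self]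
  have h1 : t⁻¹ * β t = 1 := by
    refine eq_one_of_cent R hG1 hZ (mul_mem (inv_mem ht) hβt) fun i x hx => ?_
    have e : t⁻¹ * β t * x * (t⁻¹ * β t)⁻¹ = t⁻¹ * (β t * x * (β t)⁻¹) * t := by group
    rw [e, key i x hx]
    group
  rw [inv_mul_eq_one] at h1
  -- `α t = u⁻¹ t u`
  have h2 : u * α t * u⁻¹ = t := by
    have : β t = u * α t * u⁻¹ := by rw [hβ, MulAut.mul_apply, MulAut.conj_apply]
    rw [← this, ← h1]
  have h3 : t⁻¹ * α t = (t⁻¹ * u⁻¹ * t) * u := by
    have : α t = u⁻¹ * t * u := by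
      nth_rw 2 [← h2]
      group
    rw [this]; group
  rw [h3]
  refine mul_mem ?_ hu
  have h4 := (Subgroup.mem_normalizer_iff.1 (RGD.T_le_normalizer_U R (inv_mem ht)) u⁻¹).1 (inv_mem hu)
  rwa [inv_inv] at h4

end Sign

section E6

open Cfsg Cfsg.Lie CoxeterSystem Cfsg.Agent.Nodes Cfsg.Agent.Nodes.RGDChev
open Cfsg.Agent.Nodes.Comb Cfsg.Agent.Nodes.Reps Cfsg.Agent.Tits.Roots
open Cfsg.Agent.Nodes.BNOf Cfsg.Agent.KFacts.RgdField Cfsg.Agent.ChevalleyStructure
  Cfsg.Agent.ChevalleyStructure.CoxeterGeom Cfsg.Agent.KFacts.RgdDiag Cfsg.Agent.KFacts.RgdNodes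

/-- the node `3` of the diagram `E₆` is fixed -/
theorem perm_E6 (σ : Equiv.Perm (Fin 6)) (hσ : ∀ a b, CoxeterMatrix.E₆ (σ a) (σ b) = CoxeterMatrix.E₆ a b) : σ 3 = 3 := by
  have h1 : ∀ i, ![1, 1, 2, 3, 2, 1] (σ i) = ![1, 1, 2, 3, 2, 1] i :=
    H681.GmnTypes.inv_step hσ (g := fun _ => 1) (fun _ => rfl) (by decide)
  have h2 : ∀ a : Fin 6, ![1, 1, 2, 3, 2, 1] a = 3 → a = 3 := by decide
  exact h2 _ (h1 3)

/-- **T11 for `E₆(q)`.** -/
theorem sylInv_e6 {K : Type*} [Field K] [Finite K] {p : ℕ} [CharP K p] (hp2 : p ≠ 2)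
    (hZ : Subgroup.center ↥(chevE6.group K) = ⊥) : SylInv p ↥(chevE6.group K) := by
  have hp : Fact p.Prime := ⟨CharP.char_is_prime K p⟩
  have hT : IsType chevE6 6 CoxeterMatrix.E₆ := by simp [IsType, typeList]
  set cs := CoxeterMatrix.E₆.toCoxeterSystem with hcs
  have := RGDChev.finite_W hT cs
  have R := RGDChev.rgd (K := K) hT cs p
  have H := ChevCls.exists_inv (K := K) hT cs 3
  have hpar : ∀ i : Fin 6, Odd (Coroot.cpr cs hT.isCartan (sr i) (sr 3)) ↔ CoxeterMatrix.E₆ 3 i = 3 := by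
    intro i
    rw [Coroot.cpr_sr, ZFam.pairing_sr']
    revert i
    decide +kernel
  have h1 : Odd (Coroot.cpr cs hT.isCartan (sr 1) (sr 3)) := (hpar 1).2 (by decide)
  refine sylInv_of_sign' R (RGDChev.G1_eq_top hT cs) hZ
    (P := fun i => Even (Coroot.cpr cs hT.isCartan (sr i) (sr 3))) (fun β σ D i => ?_) H.mem
    (H681.GmnRankTwo.ne_one_of_inverts hp2 R (H.odd _ (isRoot_sr cs _ 1) h1)) fun i => ?_
  · have h3 := perm_E6 σ fun a b => D.matrix R a b
    rw [← not_iff_not, Int.not_even_iff_odd, Int.not_even_iff_odd, hpar, hpar]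
    have h4 := D.matrix R 3 i
    rw [h3] at h4
    rw [h4]
  · rcases Int.even_or_odd (Coroot.cpr cs hT.isCartan (sr i) (sr 3)) with h2 | h2
    · exact Or.inl ⟨h2, H.even _ (isRoot_sr cs _ i) h2⟩
    · exact Or.inr ⟨Int.not_even_iff_odd.2 h2, H.odd _ (isRoot_sr cs _ i) h2⟩

end E6

section TwE6

open Cfsg Cfsg.Lie CoxeterSystem Cfsg.Agent.Nodes
open Cfsg.Agent.Nodes.Comb Cfsg.Agent.Nodes.Reps Cfsg.Agent.Tits.Roots
open Cfsg.Agent.Nodes.BNOf Cfsg.Agent.Nodes.RGDTwE6 Cfsg.Agent.Nodes.RGDTwCoord Cfsg.Agent.Nodes.RGDTwCoordE6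
  Cfsg.Agent.KFacts.RgdField Cfsg.Agent.ChevalleyStructure
  Cfsg.Agent.ChevalleyStructure.CoxeterGeom Cfsg.Agent.KFacts.RgdDiag Cfsg.Agent.KFacts.RgdNodes
open Cfsg.Agent.Nodes.RGDTwActE6 (hh OkN sc conj_hh coe_hh mem_X x_add x_zero)

/-- **T11 for `²E₆(q)`.** -/
theorem sylInv_twE6 {K : Type*} [Field K] [Fintype K] {q : ℕ} (hq : IsPrimePow q) (hK : Fintype.card K = q ^ 2)
    {p : ℕ} [CharP K p] (hp2 : p ≠ 2) (hZ : Subgroup.center ↥(twistedE6 K q) = ⊥) :
    SylInv p ↥(twistedE6 K q) := by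
  have hp : Fact p.Prime := ⟨CharP.char_is_prime K p⟩
  obtain ⟨φ, hφ, hqq⟩ := TwE6Basic.exists_frob hq hK
  set cs := CoxeterMatrix.F₄.toCoxeterSystem with hcs
  have hfin := RGDFold.finite_W (hp := RGDTwE6.hp) cs RGDTwE6.isCartan RGDTwE6.foldData
  have R := RGDTwE6.rgd cs hφ hqq p
  have h0 : (-1 : K) ≠ 0 := neg_ne_zero.2 one_ne_zero
  have hok : OkN φ 0 (-1 : K) := Or.inr (by rw [map_neg, map_one])
  obtain ⟨-, ht⟩ := coe_hh (q := q) hφ hqq h0 hok
  have hsc : ∀ i : Fin 4, sc φ 0 (sr i) (-1 : K) = if i = 1 then -1 else 1 := by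
    intro i
    have e : sc φ 0 (sr i) (-1 : K) = (-1 : K) ^ (RGDTwE6.A 0 i) := by
      unfold sc
      rw [if_pos (by decide), ZFam.pairing_sr']
    rw [e]
    have hA : ∀ i : Fin 4, RGDTwE6.A 0 i = if i = 0 then 2 else if i = 1 then -1 else 0 := by decide
    rw [hA]
    fin_cases i
    · show (-1 : K) ^ (2 : ℤ) = 1
      norm_num
    · show (-1 : K) ^ (-1 : ℤ) = -1
      norm_num
    · show (-1 : K) ^ (0 : ℤ) = 1
      norm_num
    · show (-1 : K) ^ (0 : ℤ) = 1
      norm_num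
  have hinv : ∀ x ∈ X φ q (sr 1), hh φ q 0 (-1) * x * (hh φ q 0 (-1))⁻¹ = x⁻¹ := by
    intro y hy
    have hr := isRoot_sr cs RGDTwE6.isCartan 1
    obtain ⟨a, ha, rfl⟩ := (mem_X (cs := cs) hφ hqq hr y).1 hy
    obtain ⟨h2, h3⟩ := conj_hh (cs := cs) hφ hqq hr h0 hok ha
    rw [hsc, if_pos rfl] at h2 h3
    rw [h3, eq_inv_iff_mul_eq_one, ← x_add (cs := cs) hφ hqq hr (Ok.mul h2 ha) ha]
    have e : (-1 : K) * a + a = 0 := by ring
    rw [e]
    exact x_zero (cs := cs) hφ hqq hr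
  refine sylInv_of_sign R (RGDTwE6.G1_eq_top cs hφ hqq) hZ (fun β σ D => ?_) ht
    (H681.GmnRankTwo.ne_one_of_inverts hp2 R hinv) fun i => ?_
  · apply KFacts.TwESix.OutTwo.perm_F4 σ (D.matrix R)
    intro h3
    have h4 := Diag.card_eq D 0
    rw [h3] at h4
    exact KFacts.TwESix.OutTwo.card_ne hφ hqq hK hq.one_lt h4
  · by_cases hi : i = 1
    · subst hi; exact Or.inr hinv
    · left
      intro y hy
      have hr := isRoot_sr cs RGDTwE6.isCartan i
      obtain ⟨a, ha, rfl⟩ := (mem_X (cs := cs) hφ hqq hr y).1 hy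
      obtain ⟨h2, h3⟩ := conj_hh (cs := cs) hφ hqq hr h0 hok ha
      rw [h3, hsc, if_neg hi, one_mul]

end TwE6

end Cfsg.Agent.H381.Car
end

-- part: H607/Car/E6Inst
section
set_option linter.all false
open scoped Cfsg.Agent.FastGrp

/-!
# `E₆(q)`, `²E₆(q)`: the embeddings into the algebraic group (S3852, helper607)
-/

set_option autoImplicit false
set_option linter.unusedSectionVars false

namespace Cfsg.Agent.H607.Car

open CoxeterSystem Subgroup Cfsg Cfsg.Lie Cfsg.Lie.ChevalleyDatum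
open Cfsg.Agent.ChevalleyStructure Cfsg.Agent.ChevalleyStructure.Elts Cfsg.Agent.ChevalleyStructure.CoxeterGeom
  Cfsg.Agent.ChevalleyStructure.CoxeterGeomTypes Cfsg.Agent.ChevalleyStructure.NPerm
open Cfsg.Agent.Tits.Roots Cfsg.Agent.Tits.Core Cfsg.Agent.Nodes Cfsg.Agent.Nodes.Reps Cfsg.Agent.Nodes.BNOf
  Cfsg.Agent.Nodes.RGDChev Cfsg.Agent.Nodes.Bruhat
open Cfsg.Agent.KFacts.RgdField Cfsg.Agent.KFacts.RgdChevCoord
open Cfsg.Agent.BpExc Cfsg.Agent.BpExc.TorCent Cfsg.Agent.BpExc.TorChev Cfsg.Agent.BpExc.Tow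
open Cfsg.Agent.BpExc.TowChev Cfsg.Agent.BpExc.Fr Cfsg.Agent.BpExc.LangFr
open Cfsg.Agent.BpExc.FamUntw Cfsg.Agent.BpExc.FamInst Cfsg.Agent.BpExc.RowsUntw
open Cfsg.Agent.GpExc.Field (glMap emb coe_emb glMap_xG emb_injective coe_glMap)
open Cfsg.Agent.H696.GmnToral Cfsg.Agent.H696.GmnUntw Cfsg.Agent.H696.GmnInv Cfsg.Agent.H696.GmnTwE6
  Cfsg.Agent.H720.TwFr

variable {r n : ℕ} [Fact r.Prime]

/-- `E₆(q)` -/
theorem six_untw {F : Type} [Field F] [Fintype F] (f : F →+* Kb r) (hn0 : 0 < n) (hF : Fintype.card F = r ^ n) :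
    Six r n 1 (emb hp6.inList f) (phi chevE6 (Kb r) r n) := by
  have hk : LocFin (Kb r) := locFin_of_isAlgebraic r (Kb r)
  have hZ : center (Yb r) = ⊥ := center_eq_bot_of_simple (S1054.result chevE6 (by simp))
  have : CharP F r := (RingHom.charP_iff_charP f r).2 inferInstance
  have hq1 : 1 ≤ r ^ n := Nat.one_le_pow _ _ (Fact.out : r.Prime).pos
  refine ⟨emb_injective _ f, hn0, Or.inl rfl, phi_isFrob r n, ⟨_, 1, phi_fr hp6 cs6 r hk n, fun a => ?_⟩,
    fun x => phi_emb' hp6 f r hF x, fun y hy => ?_, fun y hy x => ?_⟩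
  · show a = (1 : ℤ) • rep cs6 hp6.isCartan 1 a
    rw [one_smul, map_one, Module.End.one_apply]
  · have hg3 : Int.gcd 3 ((r : ℤ) ^ n - 1) ∣ 3 := Int.gcd_dvd_natAbs_left _ _
    rcases (Nat.dvd_prime Nat.prime_three).1 hg3 with h1 | h1
    · -- `3 ∤ q - 1`
      have hcop : Nat.Coprime (r ^ n - 1) 3 := by
        have e : ((r : ℤ) ^ n - 1) = ((r ^ n - 1 : ℕ) : ℤ) := by
          rw [Nat.cast_sub hq1]; push_cast; rfl
        rw [e] at h1
        have h2 : Int.gcd 3 ((r ^ n - 1 : ℕ) : ℤ) = Nat.gcd 3 (r ^ n - 1) := by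
          exact_mod_cast Int.gcd_natCast_natCast 3 (r ^ n - 1)
        rw [h2] at h1
        exact Nat.coprime_comm.1 h1
      have hy' : glMap chevE6 (frh (Kb r) r n) (y : GL chevE6.Idx (Kb r)) = y := by rw [← phi_glMap r n y, hy]
      obtain ⟨a, ha, t, ht, e⟩ := EmbSplit.untw_split hp6.inList (Emb.fix_iff_range (f := f) (frh_apply r hF)) y.2 hy'
      have hta : t ∈ chevE6.group (Kb r) := by
        have h1 : t = ((emb hp6.inList f ⟨a, ha⟩ : ↥(chevE6.group (Kb r))) : GL chevE6.Idx (Kb r))⁻¹ * y := by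
          rw [coe_emb]
          exact eq_inv_mul_of_mul_eq e.symm
        rw [h1]
        exact mul_mem (inv_mem (SetLike.coe_mem _)) y.2
      have e' : y = emb hp6.inList f ⟨a, ha⟩ * ⟨t, hta⟩ := Subtype.ext e
      have hσt : phi chevE6 (Kb r) r n ⟨t, hta⟩ = ⟨t, hta⟩ := by
        have h1 := hy
        rw [e', map_mul, phi_emb' hp6 f r hF] at h1
        exact mul_left_cancel h1
      have htT : (⟨t, hta⟩ : Yb r) ∈ TT chevE6 (Kb r) := Subgroup.mem_subgroupOf.2 ht
      obtain ⟨s, -, hs⟩ := torus_range hp6 hk f r cs6 inv_E6 three_ne_zero hZ hF htT hσt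
      have hpow : (⟨t, hta⟩ : Yb r) ^ (r ^ n - 1) = 1 := by
        refine eq_one_TT hp6 cs6 hk r hZ (pow_mem htT _) fun a ha => ?_
        have h2 := fr_ch hp6 cs6 hk (phi_isFrob r n) (phi_fr hp6 cs6 r hk n) ha htT
        rw [hσt] at h2
        have h3 : ch hp6 a (⟨t, hta⟩ : Yb r) ≠ 0 := ch_ne_zero hp6 cs6 hk r ha htT
        have h4 : ch hp6 a (⟨t, hta⟩ : Yb r) ^ (r ^ n) = ch hp6 a (⟨t, hta⟩ : Yb r) := h2.symm
        rw [ch_pow hp6 cs6 hk r ha htT]
        refine mul_right_cancel₀ h3 ?_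
        rw [one_mul, ← pow_succ, Nat.sub_add_cancel hq1, h4]
      have hm : (⟨t, hta⟩ : Yb r) ∈ (emb hp6.inList f).range := mem_of_pow hpow hcop ⟨s, hs⟩
      have h5 : y ∈ (emb hp6.inList f).range := by
        rw [e']; exact mul_mem ⟨_, rfl⟩ hm
      obtain ⟨x, hx⟩ := h5
      exact ⟨x, by rw [h1, pow_one]; exact hx⟩
    · rw [h1]
      exact pow_mem_range hp6 hk f r cs6 inv_E6 three_ne_zero hZ hF hy
  · exact H381.Car.fixed_conj_mem hp6 f hF hy ⟨x, rfl⟩

/-- `²E₆(q)` -/
theorem six_tw {q : ℕ} {K : Type} [Field K] [Fintype K] (f : K →+* Kb r) (hn0 : 0 < n) (hn : q = r ^ n)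
    (hK : Fintype.card K = q ^ 2) : Six r n (-1) (em6 q f) (sig6 (Kb r) r n) := by
  have hk : LocFin (Kb r) := locFin_of_isAlgebraic r (Kb r)
  have : CharP K r := (RingHom.charP_iff_charP f r).2 inferInstance
  refine ⟨BpExc.FamTw.Six.em_injective f, hn0, Or.inr rfl, isFrob_sig6 r n, ?_, em6_fix f r hn0 hn hK, fun y hy => ?_,
    fun y hy x => conj_mem f hn0 hn hK hy ⟨x, rfl⟩⟩
  · obtain ⟨v, hv⟩ := neg_graph hp6 cs6
    exact ⟨_, v, fr_sig6 hk r hp6 cs6 n, fun a => by rw [hv a, neg_smul, one_smul]⟩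
  · obtain ⟨x, hx⟩ := desc6 f r hk hn0 hn hK hy
    refine ⟨x, ?_⟩
    rw [hx]
    congr 1
    rw [hn, sub_neg_eq_add]
    have h2 : Int.gcd 3 ((r ^ n + 1 : ℕ) : ℤ) = Nat.gcd 3 (r ^ n + 1) := by
      exact_mod_cast Int.gcd_natCast_natCast 3 (r ^ n + 1)
    rw [← h2]; push_cast; rfl

end Cfsg.Agent.H607.Car
end

-- part: H381/Car/E6Aut
section
set_option linter.all false

/-!
# Carter subgroups, `E₆(q)`: automorphisms of odd order (task T7, split) (S3852, helper381)
-/

set_option autoImplicit false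
set_option linter.unusedSectionVars false

namespace Cfsg.Agent.H381.Car

open CoxeterSystem Subgroup Cfsg Cfsg.Lie Cfsg.Lie.ChevalleyDatum
open Cfsg.Agent.GpExc.Field (glMap emb coe_emb glMap_xG emb_injective coe_glMap)
open Cfsg.Agent.BpExc Cfsg.Agent.BpExc.FamUntw Cfsg.Agent.BpExc.FamInst Cfsg.Agent.BpExc.RowsUntw
open Cfsg.Agent.BpExc.Tow
open Cfsg.Agent.H607.Car

/-- **T7 for `E₆(q)`.** -/
theorem autSt_e6 (r : ℕ) [Fact r.Prime] {F : Type} [Field F] [Fintype F] [CharP F r] (f : F →+* Kb r) :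
    AutSt r (emb e6T.inList f) := by
  intro α hα
  obtain ⟨g, t, j, -, -, h⟩ := exists_form (r := r) (k := Kb r) (d := 3) e6T f CoxeterMatrix.E₆.toCoxeterSystem inv_E6
    three_ne_zero CpAut.RgdUntw.symTwo_E6 (S1054.result chevE6 (by simp)) hα (pow_orderOf_eq_one α)
  exact ⟨_, j, fun x => h x⟩

end Cfsg.Agent.H381.Car
end

-- part: H479/Car/ThreeTab
section
set_option linter.all false
open scoped Cfsg.Agent.FastGrp

/-!
# Table of the minimal lifts of the homomorphisms of the root lattice of type `E₆` modulo 3 (S3852, helper479)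
-/

set_option autoImplicit false

namespace Cfsg.Agent.H479.Car

/-- entries of the table: 18 bits for every `c : Fin 6 → ZMod 3` -/
def tab : ℕ := 0x4aa512a930000154a45528c0000552712a9b5544800005544ea52200002a523554680000a946d2ad25535000005538aa4e40000154da55370000000002a894aa24c00004a29128a300001289caa26d291200001291354c88000054c8d291a00001531baa34928d40000128e254b9000004a36928dc00000000055a51569300002a6a4a9a8c0000a9a71569ba9c480000a9c4d2722000012723a9c68000049c6d56d2a9b500000a9b8926e400002a6daa9b7000005154944ac0000144a55129000005156945590000000005145145130000145215148c000051471451b513a80000513ad44e20000144e35137400005136d489252250000050d89488c00001489aa6270000000001485450cac000050c91432300001485c5216d48d20000298d35232800005232e98da0000298db51a5546940000146a251a90000051a75469c00000000051c45471300001466451c2c000051c66971b51b48000051b4d46e20000296e351b68000051b6d3a92000013a934d58800004ea2d355a00001355b4d4a93a540000135224d4900000ad469351c00000000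04d3b134eb0000134e4ad38c0000ad372b4db4e25400004e24d38a20000138a34e26800004e26d39124e44400004e429386400001385d4e17000000000138d44e34c00004e33138cb0000138d94e36d37520000136ab4da9400004da8d369d00002b69b4dc4937140000137224dc8400004dc6937190000000004db52b6d30000136e44db8c00004db7136db8aa4800008aa4e2562000022a8b8956800008956e252a8a95000008948a252400000d51a8947000000000224ec893ac000089390d4e300000d4dc3536e28950000228938a28800008a28e289a00002289b8a44a291100002290a8a19000008a176285c0000000008a35228d30000228cc8a32c00008a36628db89d48000089aae26a50000226a389a74000035a6e271289c50000089c8a272100002271a89c6400000000226d435b4c000089b9226e30000226dc89b6c000086a521a930000244a49128c0000912721a9b9144800009144cc52200000c5239146800003146e1ad291350000091388c4e40000244da91370000000000c8943224c00008629218a300002189c3226e191200002191390c88000090c8e191a00002431b3234a18d40000218e290b9000008636a18dc00000000091a52469300000c6a431a8c000031a72469b31c48000031c4e172200002172331c680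00085c6e46d231b50000031b8a16e400000c6da31b7000008d54a34ac0000234a58d29000008d56a35590000000008d45235130000235218d48c00008d472351b8d3a800008d3ae34e20000234e38d37400008d36e38928e25000008cd8a388c00002389a2e27000000000238548ccac00008cc92332300002385c8e16e38d200000b8d38e32800008e32cb8da00000b8db8da5636940000236a28da9000008da76369c0000000008dc4637130000236648dc2c00008dc64b71b8db4800008db4e36e200000b6e38db6800008db6daa926aa50000069589aa8c00001aa9a75270000000001aa54694ac000069491a52300001aa5c6a96daad200001d4d36ab2800006ab2dd4da00001d4db6a255a89400001a8a26a29000006a275a89c0000000006a445a91300001a8646a42c00006a465d31b6a34800006a34da8e200001d2e36a36800006a36da75269ab0000069a95a6a400001a75a69d64000000001a71469c4c000069c85a72300001a71c69c6da6ea00001a6eb69b88000069b8da6dd00001a6db715480000712adc4a500001c4a371274000066a6dc51271450000071489c52100001c51a71464000000001c4d466b4c000071391c4e300001c4dc7136dc89200001c89370d8800007222dc35a00001c35b70ca9c85400001c32270c9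0000066469c31c00000000070bb1c2eb00001c2e46638c00006637198db71a54000071a4dc6a200001c6a371a68000071a6dc71271c44000071c29c66400001c65d71970000000001c6d471b4c000071b31c6cb00001c6d971b6c00006d2b1b55300001b5616ea2c00006d565b55b6d4a800006e94db52200001b5236d46800006d46db4ea6d3b000006d395b4e400001b4dd6d370000000001b8946e24c00006e231b36300001b89c6e26db85500001b32b6e42800006e18db85d00001b85b6e349b8d100001b8ca6e33000006e369b8d90000000006dd45b6ab00001b6a46da8c00006da71b69b6dc4800006dc4db66500001b70b6dc6800006dc6db6d56db5000006db89b6e100001b6da6db700000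

/-- number of `c` -/
def code (c : Fin 6 → ZMod 3) : ℕ :=
  (c 0).val + 3 * (c 1).val + 9 * (c 2).val + 27 * (c 3).val + 81 * (c 4).val + 243 * (c 5).val

/-- the lift of `c` -/
def lf (c : Fin 6 → ZMod 3) : Fin 6 → ℤ := fun i => ((tab >>> (18 * code c + 3 * (i : ℕ)) % 8 : ℕ) : ℤ) - 3

/-- Cartan matrix of type `E₆` -/
def ca : Fin 6 → Fin 6 → ℤ := ![![2, 0, -1, 0, 0, 0], ![0, 2, 0, -1, 0, 0], ![-1, 0, 2, -1, 0, 0],
  ![0, -1, -1, 2, -1, 0], ![0, 0, 0, -1, 2, -1], ![0, 0, 0, 0, -1, 2]]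

/-- the reflection on homomorphisms of the root lattice -/
def sc {A : Type*} [AddCommGroup A] (i : Fin 6) (c : Fin 6 → A) : Fin 6 → A := fun j => c j - ca i j • c i

/-- the class modulo the image of the coroot lattice -/
def cl (c : Fin 6 → ZMod 3) : ZMod 3 := c 0 + 2 * c 2 + c 4 + 2 * c 5

/-- the check of one entry -/
def chk (c : Fin 6 → ZMod 3) : Bool :=
  decide (cl c = 0) || (decide (∀ i : Fin 6, ((lf c i : ℤ) : ZMod 3) = c i) && decide (∃ i : Fin 6, (lf c i) % 2 = 1 ) &&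
    decide (∀ i : Fin 6, ∀ j : Fin 6, lf (sc i c) j = lf c j - ca i j * lf c i))

private def scF (i : Fin 6) (c : Fin 6 → ZMod 3) : Fin 6 → ZMod 3 := fun j => c j - (ca i j : ZMod 3) * c i

private theorem scF_eq : @sc (ZMod 3) _ = scF := by
  funext i c j
  exact congrArg (c j - ·) (zsmul_eq_mul _ _)

private def chkF (c : Fin 6 → ZMod 3) : Bool :=
  decide (cl c = 0) || (decide (∀ i : Fin 6, ((lf c i : ℤ) : ZMod 3) = c i) && decide (∃ i : Fin 6, (lf c i) % 2 = 1 ) &&
    decide (∀ i : Fin 6, ∀ j : Fin 6, lf (scF i c) j = lf c j - ca i j * lf c i))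

private noncomputable def _root_.Cfsg.Agent.LsF.fe7441d_0 : {f // @Cfsg.Agent.H479.Car.cl = f} := ⟨_, by first | (delta Cfsg.Agent.H479.Car.cl; rewrite [Cfsg.Agent.LsF.zadd_pat, Cfsg.Agent.LsF.zmul_pat]; exact rfl) | exact rfl⟩
private noncomputable def _root_.Cfsg.Agent.LsF.fe7441d_1 : {f // @Cfsg.Agent.H479.Car.code = f} := ⟨_, by first | (delta Cfsg.Agent.H479.Car.code; rewrite [Cfsg.Agent.LsF.nadd_pat, Cfsg.Agent.LsF.nmul_pat, Cfsg.Agent.LsF.zval_eq]; exact rfl) | exact rfl⟩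
private noncomputable def _root_.Cfsg.Agent.LsF.fe7441d_2 : {f // @Cfsg.Agent.H479.Car.lf = f} := ⟨_, by first | (delta Cfsg.Agent.H479.Car.lf; rewrite [Cfsg.Agent.LsF.fe7441d_1.2, Cfsg.Agent.LsF.nadd_pat, Cfsg.Agent.LsF.nmul_pat, Cfsg.Agent.LsF.nmod_pat, Cfsg.Agent.LsF.nshr_pat, Cfsg.Agent.LsF.isub_pat, Cfsg.Agent.LsF.icast_pat]; exact rfl) | exact rfl⟩
private noncomputable def _root_.Cfsg.Agent.LsF.fe7441d_3 : {f // @Cfsg.Agent.H479.Car.ca = f} := ⟨_, by first | (delta Cfsg.Agent.H479.Car.ca; rewrite [Cfsg.Agent.LsF.ineg_pat, Cfsg.Agent.LsF.vecCons_eq]; exact rfl) | exact rfl⟩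
private noncomputable def _root_.Cfsg.Agent.LsF.fe7441d_4 : {f // @Cfsg.Agent.H479.Car.scF = f} := ⟨_, by first | (delta Cfsg.Agent.H479.Car.scF; rewrite [Cfsg.Agent.LsF.fe7441d_3.2, Cfsg.Agent.LsF.zmul_pat, Cfsg.Agent.LsF.zsub_pat]; exact rfl) | exact rfl⟩
private noncomputable def _root_.Cfsg.Agent.LsF.fe7441d_5 : {f // @Cfsg.Agent.H479.Car.chkF = f} := ⟨_, by first | (delta Cfsg.Agent.H479.Car.chkF; rewrite [Cfsg.Agent.LsF.fe7441d_0.2, Cfsg.Agent.LsF.fe7441d_2.2, Cfsg.Agent.LsF.fe7441d_4.2, Cfsg.Agent.LsF.fe7441d_3.2, Cfsg.Agent.LsF.imul_pat, Cfsg.Agent.LsF.isub_pat, Cfsg.Agent.LsF.imod_pat, Cfsg.Agent.LsF.zdecEq_eq, Cfsg.Agent.LsF.and_eq, Cfsg.Agent.LsF.or_eq, Cfsg.Agent.LsF.instIDecEq_eq, Cfsg.Agent.LsF.dForallFin_eq, Cfsg.Agent.LsF.dExistsFin_eq, Cfsg.Agent.LsF.decide_eq]; exact rfl) | exact rfl⟩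
private theorem chkF_all : ∀ c0 c1 c2 c3 c4 c5 : ZMod 3, chkF ![c0, c1, c2, c3, c4, c5] = true := by (refine of_decide_eq_true ?_; (try (rewrite [Cfsg.Agent.LsF.fe7441d_5.2, Cfsg.Agent.LsF.vecCons_eq, Cfsg.Agent.LsF.zFintype_eq, Cfsg.Agent.LsF.dForall_eq, Cfsg.Agent.LsF.dBoolEq_eq, Cfsg.Agent.LsF.decide_eq])); decide +kernel)

theorem chk_all : ∀ c0 c1 c2 c3 c4 c5 : ZMod 3, chk ![c0, c1, c2, c3, c4, c5] = true := by
  delta chk
  rw [scF_eq]
  exact chkF_all

theorem chk_true (c : Fin 6 → ZMod 3) : chk c = true := by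
  have h : c = ![c 0, c 1, c 2, c 3, c 4, c 5] := by
    funext i; fin_cases i <;> rfl
  rw [h]; exact chk_all _ _ _ _ _ _

theorem cl_sc' : ∀ (i : Fin 6) (c0 c1 c2 c3 c4 c5 : ZMod 3),
    cl (sc i ![c0, c1, c2, c3, c4, c5]) = cl ![c0, c1, c2, c3, c4, c5] := by
  have h : ∀ i : Fin 6, (ca i 0 : ZMod 3) + 2 * ca i 2 + ca i 4 + 2 * ca i 5 = 0 := by decide +kernel
  intro i c0 c1 c2 c3 c4 c5
  generalize ![c0, c1, c2, c3, c4, c5] = c
  simp only [cl, sc, zsmul_eq_mul]
  linear_combination (-c i) * h i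

theorem cl_sc (i : Fin 6) (c : Fin 6 → ZMod 3) : cl (sc i c) = cl c := by
  have h : c = ![c 0, c 1, c 2, c 3, c 4, c 5] := by
    funext i; fin_cases i <;> rfl
  rw [h]; exact cl_sc' _ _ _ _ _ _ _

theorem lf_cast {c : Fin 6 → ZMod 3} (hc : cl c ≠ 0) (i : Fin 6) : ((lf c i : ℤ) : ZMod 3) = c i := by
  have h := chk_true c
  simp only [chk, Bool.or_eq_true, Bool.and_eq_true, decide_eq_true_eq] at h
  rcases h with h | ⟨⟨h, -⟩, -⟩
  · exact absurd h hc
  · exact h i

theorem lf_odd {c : Fin 6 → ZMod 3} (hc : cl c ≠ 0) : ∃ i, Odd (lf c i) := by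
  have h := chk_true c
  simp only [chk, Bool.or_eq_true, Bool.and_eq_true, decide_eq_true_eq] at h
  rcases h with h | ⟨⟨-, ⟨i, h⟩⟩, -⟩
  · exact absurd h hc
  · exact ⟨i, Int.odd_iff.2 h⟩

theorem lf_sc {c : Fin 6 → ZMod 3} (hc : cl c ≠ 0) (i : Fin 6) : lf (sc i c) = sc i (lf c) := by
  have h := chk_true c
  simp only [chk, Bool.or_eq_true, Bool.and_eq_true, decide_eq_true_eq] at h
  rcases h with h | ⟨-, h⟩
  · exact absurd h hc
  · funext j
    rw [h i j, sc, smul_eq_mul]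

end Cfsg.Agent.H479.Car

private theorem dce_3ff9dd9dfd89 : _root_.True := by
  try have : _root_.True := by simp only [_root_.Cfsg.Agent.H479.Car.sc.eq_1]
  try have : _root_.True := by simp only [_root_.Cfsg.Agent.H479.Car.chk.eq_1]
  exact _root_.True.intro
end

-- part: H479/Car/LiftThree
section
set_option linter.all false
open scoped Cfsg.Agent.FastGrp

/-!
# Homomorphisms of the root lattice of type `E₆` modulo 3 lift with their stabilisers (S3852, task T1', helper479)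
-/

set_option autoImplicit false

namespace Cfsg.Agent.H479.Car

open CoxeterSystem Cfsg Cfsg.Lie Cfsg.Lie.ChevalleyDatum
open Cfsg.Agent.ChevalleyStructure Cfsg.Agent.ChevalleyStructure.CoxeterGeom
  Cfsg.Agent.ChevalleyStructure.CoxeterGeomTypes Cfsg.Agent.Tits.Roots Cfsg.Agent.H607.Car
  Cfsg.Agent.H720.TwFr

theorem cartan_eq : ∀ i j : Fin 6, cartanOf chevE6 6 i j = ca i j := by decide +kernel

section

variable {A : Type*} [AddCommGroup A]

theorem val_add (c : Fin 6 → A) (a b : Fin 6 → ℤ) : val c (a + b) = val c a + val c b := by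
  simp only [val, Pi.add_apply, add_smul, Finset.sum_add_distrib]

theorem val_sr (c : Fin 6 → A) (i : Fin 6) : val c (sr i) = c i := by
  rw [val, Finset.sum_eq_single i]
  · simp [sr]
  · intro j _ hj
    simp [sr, Pi.single_eq_of_ne hj]
  · simp

/-- the action of the Weyl group on homomorphisms -/
def act (c : Fin 6 → A) (w : W6) : Fin 6 → A := fun j => val c (rp w (sr j))

theorem val_act (c : Fin 6 → A) (w : W6) (a : Fin 6 → ℤ) : val c (rp w a) = val (act c w) a := by
  have h1 : a = ∑ j, a j • sr j := by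
    funext k
    simp [sr, Finset.sum_apply, Pi.single_apply]
  have h2 : ∀ (s : Finset (Fin 6)), val c (∑ j ∈ s, a j • rp w (sr j)) = ∑ j ∈ s, a j • val c (rp w (sr j)) := by
    intro s
    classical
    induction s using Finset.induction_on with
    | empty => simp [val]
    | insert b s hb ih =>
      rw [Finset.sum_insert hb, Finset.sum_insert hb, val_add, ih]
      congr 1
      simp only [val, Pi.smul_apply, smul_eq_mul, mul_smul, Finset.smul_sum]
  conv_lhs => rw [h1]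
  rw [rp, map_sum]
  simp only [map_smul]
  exact h2 _

theorem act_mul (c : Fin 6 → A) (w w' : W6) : act c (w * w') = act (act c w) w' := by
  funext j
  rw [act, act, ← val_act]
  congr 1
  exact rep_mul_apply _ _ _ _ _

theorem act_one (c : Fin 6 → A) : act c 1 = c := by
  funext j
  rw [act, rp, map_one, Module.End.one_apply, val_sr]

theorem act_simple (c : Fin 6 → A) (i : Fin 6) : act c (cs6.simple i) = sc i c := by
  funext j
  have h : rp (cs6.simple i) (sr j) = sr j - Pi.single i (ca i j) := by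
    rw [rp, rep_simple, refl_apply, sr, pairing_single, mul_one, cartan_eq]
  rw [act, h, sc]
  have h1 : val c (Pi.single i (ca i j)) = ca i j • c i := by
    rw [val, Finset.sum_eq_single i]
    · simp
    · intro k _ hk
      simp [Pi.single_eq_of_ne hk]
    · simp
  have h2 := val_add c (sr j - Pi.single i (ca i j)) (Pi.single i (ca i j))
  rw [sub_add_cancel, val_sr, h1] at h2
  rw [h2, add_sub_cancel_right]

theorem fixW_iff (c : Fin 6 → A) (w : W6) : FixW c w ↔ act c w = c := by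
  constructor
  · intro h
    funext j
    rw [act, h, val_sr]
  · intro h a
    rw [val_act, h]

end

theorem act_lf (w : W6) : ∀ c : Fin 6 → ZMod 3, cl c ≠ 0 → cl (act c w) ≠ 0 ∧ lf (act c w) = act (lf c) w := by
  induction w using cs6.simple_induction_right with
  | one => intro c hc; rw [act_one, act_one]; exact ⟨hc, rfl⟩
  | mul_simple_right w i ih =>
    intro c hc
    obtain ⟨h1, h2⟩ := ih c hc
    rw [act_mul, act_mul, act_simple, act_simple, cl_sc, lf_sc h1, h2]
    exact ⟨h1, rfl⟩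

/-- **T1'.** -/
theorem liftThreeSt : LiftThreeSt := by
  intro c hc
  have hc' : cl c ≠ 0 := hc
  refine ⟨lf c, 1, isUnit_one, lf_odd hc', fun i => by rw [one_mul, lf_cast hc' i], fun w hw => ?_⟩
  rw [fixW_iff] at hw ⊢
  rw [← (act_lf w c hc').2, hw]

end Cfsg.Agent.H479.Car

private theorem dce_a6b5a18958e5 : _root_.True := by
  try have : _root_.True := by simp only [_root_.Cfsg.Agent.H479.Car.act.eq_1]
  try have : _root_.True := by simp only [_root_.Cfsg.Agent.H607.Car.val.eq_1]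
  try have : _root_.True := by simp only [_root_.Cfsg.Agent.H607.Car.rp.eq_1]
  exact _root_.True.intro
end

-- part: H18/Carter/Frame
section
set_option linter.all false
open scoped Cfsg.Agent.FastGrp

/-!
# S3852: the frame of the final assembly

* `Exc S` : `S` is `PSL₂(3^odd)` or a Ree group `²G₂(3^odd)`;
* `NrAll S` : every Carter subgroup of `G` normalises a Sylow `2`-subgroup of `S`;
* `Wt K S` : `K` normalises a `2`-subgroup `≠ 1` of `S`; `WtAll S` : this for all Carter subgroups `K`;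
* `IHr G` : `WtAll T` for all smaller almost simple `B` with socle `T` not exceptional;
* `frame` : conjugacy of Carter subgroups from the rows `WtAll ∧ CC` (not exceptional) and `CC` (exceptional).
-/

set_option autoImplicit false
set_option linter.unusedSectionVars false
set_option linter.unusedVariables false
set_option linter.style.haveILetI false

namespace Cfsg.Agent.H18.Carter

open Subgroup Pointwise
open Cfsg.Agent.Solvable.Carter

universe u

/-- the exceptional socles: `PSL₂(3^odd)` and `²G₂(3^odd)` -/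
def Exc (S : Type u) [Group S] : Prop :=
  (∃ (F : Type) (_ : Field F) (_ : Fintype F) (m : ℕ), Fintype.card F = 3 ^ (2 * m + 1) ∧
    Nonempty (S ≃* Matrix.ProjectiveSpecialLinearGroup (Fin 2) F)) ∨
  ∃ (F : Type) (_ : Field F) (_ : Fintype F) (m : ℕ), 1 ≤ m ∧ Fintype.card F = 3 ^ (2 * m + 1) ∧
    Nonempty (S ≃* Cfsg.Lie.twistedG2 F (3 ^ m))

section

variable {G : Type u} [Group G]

/-- every Carter subgroup of `G` normalises a Sylow `2`-subgroup of `S` -/
def NrAll (S : Subgroup G) : Prop := ∀ K : Subgroup G, IsCarter K → Nrm 2 K S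

/-- `K` normalises a `2`-subgroup `≠ 1` of `S` -/
def Wt (K S : Subgroup G) : Prop := ∃ Y : Subgroup G, Y ≤ S ∧ Y ≠ ⊥ ∧ IsPGroup 2 Y ∧ K ≤ normalizer (Y : Set G)

/-- every Carter subgroup of `G` normalises a `2`-subgroup `≠ 1` of `S` -/
def WtAll (S : Subgroup G) : Prop := ∀ K : Subgroup G, IsCarter K → Wt K S

end

/-- the induction hypothesis -/
def IHr (G : Type u) [Group G] : Prop :=
  ∀ (B : Type u) [Group B] [Finite B] (T : Subgroup B) [T.Normal], Ctx B T → Nat.card B < Nat.card G → ¬ Exc ↥T →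
    WtAll T

section

variable {G : Type u} [Group G] [Finite G] {S : Subgroup G} [S.Normal]

/-- `K ∩ S` is a `2`-group for all `K` -/
theorem nrAll_of_two (hF : H381.Car.Fpf.{u}) (c : Ctx G S) (h : ∀ K : Subgroup G, IsCarter K → IsPGroup 2 ↥(K ⊓ S)) :
    NrAll S := by
  haveI : Fact (Nat.Prime 2) := ⟨Nat.prime_two⟩
  intro K hK
  exact H381.Car.lemma_x hF c.min S hK (h K hK)

/-- elements of odd prime order are conjugate in `G` to other powers -/
theorem two_of_real (c : Ctx G S)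
    (h : ∀ z ∈ S, (orderOf z).Prime → orderOf z ≠ 2 → ∃ g : G, g * z * g⁻¹ ≠ z ∧ g * z * g⁻¹ ∈ zpowers z) {K : Subgroup G}
    (hK : IsCarter K) : IsPGroup 2 ↥(K ⊓ S) := by
  rw [IsPGroup.iff_card]
  refine ⟨_, Nat.eq_prime_pow_of_unique_prime_dvd Nat.card_pos.ne' ?_⟩
  intro r hr hd
  by_contra hne
  haveI : Fact r.Prime := ⟨hr⟩
  refine H381.Car.not_dvd_of_power c (r := r) ?_ hK hd
  intro z hz ho
  exact h z hz (ho ▸ hr) (ho ▸ hne)

theorem nrAll_of_real (hF : H381.Car.Fpf.{u}) (c : Ctx G S)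
    (h : ∀ z ∈ S, (orderOf z).Prime → orderOf z ≠ 2 → ∃ g : G, g * z * g⁻¹ ≠ z ∧ g * z * g⁻¹ ∈ zpowers z) : NrAll S :=
  nrAll_of_two hF c fun _ hK => two_of_real c h hK

theorem nrAll_of_powConj (hF : H381.Car.Fpf.{u}) (c : Ctx G S) (h : PowConj ↥S) : NrAll S := by
  refine nrAll_of_real hF c fun z hz ho ho2 => ?_
  have e : orderOf (⟨z, hz⟩ : S) = orderOf z := Subgroup.orderOf_mk z hz
  obtain ⟨g, h1, h2⟩ := h ⟨z, hz⟩ (by rw [e]; exact ho) (by rw [e]; exact ho2)
  refine ⟨g, fun h3 => h1 (Subtype.ext h3), ?_⟩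
  obtain ⟨k, hk⟩ := mem_zpowers_iff.1 h2
  exact mem_zpowers_iff.2 ⟨k, congrArg Subtype.val hk⟩

/-- **conjugacy from `NrAll`** -/
theorem NrAll.cc (c : Ctx G S) (h2 : 2 ∣ Nat.card S) (h : NrAll S) : CC G := by
  intro K H hK hH
  obtain ⟨P, hPS, hPp, hPl, hPK⟩ := h K hK
  obtain ⟨R, hRS, hRp, hRl, hRH⟩ := h H hH
  haveI : Fact (Nat.Prime 2) := ⟨Nat.prime_two⟩
  have hp1 : IsPGroup 2 (P.subgroupOf S) := hPp.comap_of_injective S.subtype S.subtype_injective
  have hp2 : IsPGroup 2 (R.subgroupOf S) := hRp.comap_of_injective S.subtype S.subtype_injective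
  obtain ⟨s, hs⟩ := MulAction.exists_smul_eq S (hp1.toSylow hPl) (hp2.toSylow hRl)
  have hs' : MulAut.conj s • P.subgroupOf S = R.subgroupOf S :=
    congrArg (fun Q : Sylow 2 S => (Q : Subgroup S)) hs
  have hPR : MulAut.conj (s : G) • P = R := by
    rw [conj_smul_subgroupOf hPS, subgroupOf_inj] at hs'
    rwa [inf_eq_left.mpr hRS, inf_eq_left.mpr (conj_smul_le_of_le hPS s)] at hs'
  refine c.conj_of_le (M := normalizer (R : Set G)) ?_ (K := MulAut.conj (s : G) • K) (hK.conj _) hH ?_ hRH |>.imp' (fun g => g * s) ?_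
  · have hRb : R ≠ ⊥ := by
      rintro rfl
      rw [relIndex_bot_left] at hRl
      exact hRl h2
    have : Group.IsNilpotent R := hRp.isNilpotent
    exact c.norm_ne_top hRb inferInstance
  · intro x hx
    rw [mem_cj] at hx
    have h3 := hPK hx
    rw [← hPR, mem_normalizer_conj_smul]
    exact h3
  · rintro g ⟨_, hg⟩
    rw [map_mul, mul_smul]
    exact hg

theorem NrAll.wt (h2 : 2 ∣ Nat.card S) (h : NrAll S) : WtAll S := by
  intro K hK
  obtain ⟨P, hPS, hPp, hPl, hPK⟩ := h K hK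
  refine ⟨P, hPS, ?_, hPp, hPK⟩
  rintro rfl
  rw [relIndex_bot_left] at hPl
  exact hPl h2

/-- `|K ∩ S|` even for all `K` -/
theorem wtAll_of_even (h : ∀ K : Subgroup G, IsCarter K → 2 ∣ Nat.card ↥(K ⊓ S)) : WtAll S := by
  intro K hK
  haveI : Fact (Nat.Prime 2) := ⟨Nat.prime_two⟩
  obtain ⟨t, htS, htK, hto, htc⟩ := H381.Car.exists_central (S := S) hK.1 (h K hK)
  refine ⟨zpowers t, (zpowers_le).2 htS, ?_, ?_, ?_⟩
  · intro h0
    rw [zpowers_eq_bot] at h0
    rw [h0, orderOf_one] at hto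
    omega
  · rw [IsPGroup.iff_card]
    exact ⟨1, by rw [Nat.card_zpowers, hto, pow_one]⟩
  · intro k hk
    have h1 : Commute k t := mem_centralizer_singleton_iff.1 (htc hk)
    have e : ∀ i : ℤ, k * t ^ i * k⁻¹ = t ^ i := fun i => by
      rw [(h1.zpow_right i).eq, mul_inv_cancel_right]
    rw [mem_normalizer_iff]
    intro y
    constructor
    · intro hy
      obtain ⟨i, rfl⟩ := mem_zpowers_iff.1 hy
      rw [e]
      exact zpow_mem (mem_zpowers t) i
    · intro hy
      obtain ⟨i, hi⟩ := mem_zpowers_iff.1 hy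
      have h2 : y = t ^ i := by
        have h3 := e i
        rw [hi] at h3 ⊢
        have h4 : k * (k * y * k⁻¹) * k⁻¹ = k * y * k⁻¹ := h3
        have h5 : k * (k * y * k⁻¹) * k⁻¹ = k * (y) * k⁻¹ := h4
        exact (mul_left_cancel (mul_right_cancel h5)).symm
      rw [h2]
      exact zpow_mem (mem_zpowers t) i

/-- what a row has to give -/
def Row (G : Type u) [Group G] (S : Subgroup G) : Prop := WtAll S ∧ CC G

theorem NrAll.row (c : Ctx G S) (h2 : 2 ∣ Nat.card S) (h : NrAll S) : Row G S := ⟨h.wt h2, h.cc c h2⟩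

end

/-- **the frame** -/
theorem frame
    (exc : ∀ (G : Type u) [Group G] [Finite G] (S : Subgroup G) [S.Normal], Ctx G S → Exc ↥S → CC G)
    (rows : ∀ (G : Type u) [Group G] [Finite G] (S : Subgroup G) [S.Normal], Ctx G S → IHr G → ¬ Exc ↥S → Row G S) :
    ∀ (G : Type u) [Group G] [Finite G] (S : Subgroup G) [S.Normal], Ctx G S → CC G := by
  have key : ∀ (n : ℕ) (G : Type u) [Group G] [Finite G] (S : Subgroup G) [S.Normal], Nat.card G = n → Ctx G S →
      ¬ Exc ↥S → Row G S := by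
    intro n
    induction n using Nat.strong_induction_on with
    | _ n IH =>
    intro G _ _ S _ hn c hS
    refine rows G S c ?_ hS
    intro B _ _ T _ cT hB hT
    exact (IH _ (hn ▸ hB) B T rfl cT hT).1
  intro G _ _ S _ c
  by_cases hS : Exc ↥S
  · exact exc G S c hS
  · exact (key _ G S rfl c hS).2

end Cfsg.Agent.H18.Carter
end

-- part: H460/Car/Bridge_mg
section
prune_inst 0x464000240092202000000800020001e628a000000000804000c21030006808c400d020860a82000115822000c00300068020000000000000000200000011801800000000400000008020008000080000000000000000000000000000000000000000000000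
set_option linter.all false
open scoped Cfsg.Agent.FastGrp

-- part: H460/Car/Even
section
/-!
# Carter subgroups and groups of Lie type of characteristic two: theorem [U] (S3852, helper460)

* `exists_of_cen` : `z ∈ Z(K) ∩ S` of odd prime order, `|C_S(z)|` even: `K` normalises a `2`-subgroup `≠ 1` of `S`;
* `nrm_even` : **[U]**: if this is the case for all `z ∈ Z(K) ∩ S` of odd prime order then `K` normalises a Sylow
  `2`-subgroup of `S`.
-/

set_option autoImplicit false
set_option linter.unusedSectionVars false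
set_option linter.unusedVariables false

namespace Cfsg.Agent.H460.Car

open Subgroup Pointwise
open Cfsg Cfsg.Agent.Solvable.Carter Cfsg.Agent.H18.Carter Cfsg.Agent.H381.Car
open Cfsg.Agent.FixBN (Split HasSplit)
open Cfsg.Agent.SignalizersComponents Cfsg.Agent.Lib
open Cfsg.Agent.KFacts.RgdFilt (HasFilt)
open scoped commutatorElement

universe u

variable {G : Type u} [Group G] [Finite G] {S K : Subgroup G}

theorem exists_of_cen (c : AS G S K) (hS : HasSplit 2 ↥S) (hFT : FT.{u}) (IH : IHt.{u} (Nat.card G)) {r : ℕ}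
    (hr : r.Prime) (hr2 : r ≠ 2) {z : G} (hzS : z ∈ S) (hz : orderOf z = r) (hKz : K ≤ centralizer ({z} : Set G))
    (he : 2 ∣ Nat.card ↥(S ⊓ centralizer ({z} : Set G) : Subgroup G)) :
    ∃ Y : Subgroup G, Y ≤ S ∧ Y ≠ ⊥ ∧ IsPGroup 2 Y ∧ K ≤ normalizer (Y : Set G) := by
  have hSn := c.normal
  have hf : Fact (Nat.Prime 2) := ⟨Nat.prime_two⟩
  have hfr : Fact r.Prime := ⟨hr⟩
  have hz1 : z ≠ 1 := by
    rintro rfl
    rw [orderOf_one] at hz
    exact hr.one_lt.ne hz
  set Γ : Subgroup G := centralizer ({z} : Set G) with hΓ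
  have hx : (act S z : MulAut ↥S) ^ r = 1 := by
    have h1 : (MulAut.conjNormal z : MulAut ↥S) ^ r = 1 := by
      rw [← map_pow, ← hz, pow_orderOf_eq_one, map_one]
    exact h1
  obtain ⟨Pa, d, hG, hI, hopp⟩ := Cfsg.Agent.FixOdd.Inst.gate (p := 2) (r := r) hr2 hS (act S z : MulAut ↥S) hx
  have hmem : ∀ x : ↥S, x ∈ fixedSubgroup (act S z) ↔ (x : G) ∈ Γ := by
    intro x
    have h1 : x ∈ fixedSubgroup (act S z) ↔ act S z x = x := Iff.rfl
    rw [h1, Subtype.ext_iff, act_coe, hΓ, mem_centralizer_singleton_iff, mul_inv_eq_iff_eq_mul]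
    exact eq_comm
  let H : Subgroup ↥Γ := S.subgroupOf Γ
  have hHn : H.Normal := inferInstance
  let ι : ↥(fixedSubgroup (act S z)) ≃* ↥H :=
    { toFun := fun x => ⟨⟨((x : ↥S) : G), (hmem x).1 x.2⟩, (x : ↥S).2⟩
      invFun := fun y => ⟨⟨((y : ↥Γ) : G), y.2⟩, (hmem _).2 (y : ↥Γ).2⟩
      left_inv := fun x => rfl
      right_inv := fun y => rfl
      map_mul' := fun x y => rfl }
  have hcard : Nat.card ↥Γ < Nat.card G := by
    refine Cfsg.Agent.Lib.SolvableNormalP.card_lt_of_ne_top fun h => hz1 ?_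
    have h1 : z ∈ centralizer (S : Set G) := by
      rw [mem_centralizer_iff]
      intro s _
      have h2 : s ∈ Γ := by rw [h]; trivial
      exact mem_centralizer_singleton_iff.1 h2
    rwa [c.cen, mem_bot] at h1
  have h2H : 2 ∣ Nat.card ↥(fixedSubgroup (act S z)) := by
    have e1 : Nat.card ↥(S ⊓ Γ : Subgroup G) = Nat.card ↥H := by
      refine Nat.card_congr ⟨fun x => ⟨⟨x, x.2.2⟩, x.2.1⟩, fun y => ⟨((y : ↥Γ) : G), y.2, (y : ↥Γ).2⟩, fun x => rfl,
        fun y => rfl⟩
    rw [Nat.card_congr ι.toEquiv, ← e1]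
    exact he
  obtain ⟨Y, hYH, hY1, hYp, hKY⟩ := exists_two' (Γ := ↥Γ) (H := H) hG hI hopp ι (c.carter.subgroupOf hKz)
    (fun B _ _ hB => c.min B (hB.trans_lt hcard)) hFT
    (fun B _ _ T R hB hAS hE => IH B T R (hB.trans_lt hcard) hAS hE) h2H
  refine ⟨Y.map Γ.subtype, ?_, ?_, hYp.map _, ?_⟩
  · rintro _ ⟨y, hy, rfl⟩
    exact hYH hy
  · intro h
    apply hY1
    rw [Subgroup.map_eq_bot_iff_of_injective _ Γ.subtype_injective] at h
    exact h
  · intro k hk
    have h1 : (⟨k, hKz hk⟩ : ↥Γ) ∈ normalizer (Y : Set ↥Γ) := hKY hk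
    exact Subgroup.le_normalizer_map Γ.subtype ⟨_, h1, rfl⟩

/-- **[U]** -/
theorem nrm_even (c : AS G S K) (hF : HasFilt 2 ↥S) (hFp : Fpf.{u}) (hFT : FT.{u}) (IH : IHt.{u} (Nat.card G))
    (hOC : ∀ r : ℕ, r.Prime → r ≠ 2 → ∀ z ∈ S, z ∈ K → orderOf z = r → K ≤ centralizer ({z} : Set G) →
      2 ∣ Nat.card ↥(S ⊓ centralizer ({z} : Set G) : Subgroup G) ∨
      ∃ Y : Subgroup G, Y ≤ S ∧ Y ≠ ⊥ ∧ IsPGroup 2 Y ∧ K ≤ normalizer (Y : Set G)) : Nrm 2 K S := by
  have hSn := c.normal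
  have hf : Fact (Nat.Prime 2) := ⟨Nat.prime_two⟩
  by_cases h2 : IsPGroup 2 (K ⊓ S : Subgroup G)
  · exact lemma_x hFp c.min S c.carter h2
  · obtain ⟨r, hr, hr2, hd⟩ : ∃ r : ℕ, r.Prime ∧ r ≠ 2 ∧ r ∣ Nat.card (K ⊓ S : Subgroup G) := by
      by_contra hcon
      push Not at hcon
      apply h2
      rw [IsPGroup.iff_card]
      refine ⟨(Nat.card (K ⊓ S : Subgroup G)).primeFactorsList.length, ?_⟩
      refine Nat.eq_prime_pow_of_unique_prime_dvd Nat.card_pos.ne' fun {q} hq hqd => ?_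
      by_contra hne
      exact hcon q hq hne hqd
    have hfr : Fact r.Prime := ⟨hr⟩
    obtain ⟨z, hzS, hzK, hz, hc⟩ := exists_central (S := S) c.carter.1 hd
    refine nrm_of_two c hF hFT IH ?_
    rcases hOC r hr hr2 z hzS hzK hz hc with h | h
    · have hSs := c.simple
      have hna : ∃ a b : ↥S, a * b ≠ b * a := by
        have := c.na
        push Not at this
        exact this
      obtain ⟨P, U, hne, hS, -⟩ := exists_bt hF hna
      exact exists_of_cen c ⟨P, U, hne, hS⟩ hFT IH hr hr2 hzS hz hc h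
    · exact h

end Cfsg.Agent.H460.Car
end

-- part: H460/Car/Bridge
section
/-!
# Theorem [U] in the form of the frame of the assembly (S3852, helper460)

`ExcOk` : the socles `PSL₂(3^odd)`, `²G₂(3^odd)` have the properties `H460.Car.Exc` (proved in `H460.Car.ExcOk`).
-/

set_option autoImplicit false
set_option linter.unusedSectionVars false
set_option linter.unusedVariables false

namespace Cfsg.Agent.H460.Car

open Subgroup Pointwise
open Cfsg Cfsg.Agent.Solvable.Carter Cfsg.Agent.H381.Car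
open Cfsg.Agent.H18.Carter (Ctx Ctx.of_carter NrAll IHr Nrm)
open Cfsg.Agent.SignalizersComponents
open Cfsg.Agent.KFacts.RgdFilt (HasFilt)

universe u

/-- the exceptional socles have the properties `H460.Car.Exc` -/
def ExcOk : Prop := ∀ (T : Type u) [Group T] [Finite T], IsSimpleGroup T → H18.Carter.Exc T → Exc T

variable {G : Type u} [Group G] [Finite G] {S : Subgroup G} [S.Normal]

theorem AS.of_ctx (c : Ctx G S) {K : Subgroup G} (hK : IsCarter K) : AS G S K :=
  ⟨inferInstance, c.simple, c.na, c.cen, c.min, hK, c.prod K hK⟩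

theorem even_of_ctx (hFT : FT.{u}) (c : Ctx G S) : 2 ∣ Nat.card S := by
  by_contra h
  rw [← even_iff_two_dvd, Nat.not_even_iff_odd] at h
  have h1 := hFT ↥S h
  have := c.simple
  exact c.na (IsSimpleGroup.comm_iff_isSolvable.2 h1)

theorem iht_of_ihr (hE : ExcOk.{u}) (IH : IHr G) : IHt.{u} (Nat.card G) := by
  intro B _ _ T R hB h hT
  have := h.normal
  have := h.simple
  exact IH B T (Ctx.of_carter h.simple h.na h.cen h.min h.carter h.prod) hB (fun h1 => hT (hE ↥T h.simple h1)) R h.carter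

/-- **[U]** -/
theorem nrAll_even (hFp : Fpf.{u}) (hFT : FT.{u}) (hE : ExcOk.{u}) (c : Ctx G S) (IH : IHr G) (hF : HasFilt 2 ↥S)
    (hOC : ∀ K : Subgroup G, IsCarter K → ∀ r : ℕ, r.Prime → r ≠ 2 → ∀ z ∈ S, z ∈ K → orderOf z = r →
      K ≤ centralizer ({z} : Set G) →
      2 ∣ Nat.card ↥(S ⊓ centralizer ({z} : Set G) : Subgroup G) ∨
      ∃ Y : Subgroup G, Y ≤ S ∧ Y ≠ ⊥ ∧ IsPGroup 2 Y ∧ K ≤ normalizer (Y : Set G)) : NrAll S := by
  intro K hK
  exact nrm_even (AS.of_ctx c hK) hF hFp hFT (iht_of_ihr hE IH) (hOC K hK)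

/-- **[U]**, with invariant `2`-subgroups for all Carter subgroups -/
theorem nrAll_of_inv (hFT : FT.{u}) (hE : ExcOk.{u}) (c : Ctx G S) (IH : IHr G) (hF : HasFilt 2 ↥S)
    (hY : ∀ K : Subgroup G, IsCarter K →
      ∃ Y : Subgroup G, Y ≤ S ∧ Y ≠ ⊥ ∧ IsPGroup 2 Y ∧ K ≤ normalizer (Y : Set G)) : NrAll S := by
  intro K hK
  exact nrm_of_two (AS.of_ctx c hK) hF hFT (iht_of_ihr hE IH) (hY K hK)

end Cfsg.Agent.H460.Car
end

-- part: H310/Car/OCFrame
section
/-!
# Orthogonal groups in characteristic 2: semisimple isometries without fixed vectors (helper310, for S3852)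

`Fr Q g m` : a frame of `V` (of dimension `2m`) for an isometry `g` with `g + g⁻¹` diagonalisable: orthogonal planes
`⟨v i, g (v i)⟩`.

* `exists_involution` : two equal eigenvalues of `g + g⁻¹`: `g` commutes with an involution of `E Q`;
* `normalizer_not_solvable` : distinct eigenvalues, `m ≥ 5`, `C = C_{E Q}(g)` of odd order: `N_{E Q}(C)` is not solvable.
-/

set_option autoImplicit false

namespace Cfsg.Agent.H310.OC

open QuadraticMap Module Cfsg.Agent.LieClassical.OrthCore Cfsg.Agent.LieClassical.OrthTrans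

universe u w

variable {F : Type u} {V : Type w} [Field F] [AddCommGroup V] [Module F V] {Q : QuadraticForm F V}

/-- a frame for `g` -/
structure Fr (Q : QuadraticForm F V) (g : V ≃ₗ[F] V) (m : ℕ) where
  v : Fin m → V
  t : Fin m → F
  Qv : ∀ i, Q (v i) = 1
  t0 : ∀ i, t i ≠ 0
  pol : ∀ i, polar Q (v i) (g (v i)) = t i
  eg : ∀ i, g (g (v i)) = t i • g (v i) - v i
  o1 : ∀ i j, i ≠ j → polar Q (v i) (v j) = 0
  o2 : ∀ i j, i ≠ j → polar Q (v i) (g (v j)) = 0
  span : ∀ x, ∃ a b : Fin m → F, x = ∑ i, (a i • v i + b i • g (v i))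

section Basic

variable {g : V ≃ₗ[F] V} {m : ℕ} (f : Fr Q g m)

theorem Fr.o3 (hg : g ∈ O Q) {i j : Fin m} (h : i ≠ j) : polar Q (g (f.v i)) (g (f.v j)) = 0 := by
  rw [polar_map hg, f.o1 i j h]

theorem Fr.o2' {i j : Fin m} (h : i ≠ j) : polar Q (g (f.v i)) (f.v j) = 0 := by
  rw [polar_comm, f.o2 j i h.symm]

theorem Fr.pol' (i : Fin m) : polar Q (g (f.v i)) (f.v i) = f.t i := by
  rw [polar_comm, f.pol]

theorem two_zero_polar (h2 : (2 : F) = 0) (x : V) : polar Q x x = 0 := by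
  rw [polar_self', h2, zero_mul]

theorem Fr.Qgv (hg : g ∈ O Q) (i : Fin m) : Q (g (f.v i)) = 1 := by
  rw [mem_O.1 hg, f.Qv]

/-- **Equal eigenvalues.** -/
theorem exists_involution (h2 : (2 : F) = 0) (hg : g ∈ O Q) {i j : Fin m} (hij : i ≠ j) (ht : f.t i = f.t j) :
    ∃ s ∈ E Q, s * s = 1 ∧ s ≠ 1 ∧ g * s = s * g := by
  have hneg : ∀ x : V, -x = x := fun x => by
    have h3 : (2 : F) • x = 0 := by rw [h2, zero_smul]
    rw [two_smul] at h3
    exact neg_eq_of_add_eq_zero_left h3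
  have hsub : ∀ x y : V, x - y = x + y := fun x y => by rw [sub_eq_add_neg, hneg]
  have hxx : ∀ x : V, x + x = 0 := fun x => by
    have h3 := sub_self x
    rwa [hsub] at h3
  obtain ⟨u, hu⟩ : ∃ u, u = f.v i + f.v j := ⟨_, rfl⟩
  have hgu : g u = g (f.v i) + g (f.v j) := by rw [hu, map_add]
  have hQu : Q u = 0 := by
    rw [hu, Q_add, f.Qv, f.Qv, f.o1 i j hij, add_zero]
    rw [← h2]; norm_num
  have hp : polar Q u (g u) = 0 := by
    rw [hgu, hu, polar_add_left, polar_add_right, polar_add_right, f.pol, f.o2 i j hij, f.o2 j i hij.symm, f.pol, ht,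
      add_zero, zero_add, ← two_mul, h2, zero_mul]
  have hQgu : Q (g u) = 0 := by rw [mem_O.1 hg, hQu]
  have hggu : g (g u) = f.t i • g u + u := by
    rw [hgu, map_add, f.eg, f.eg, ← ht, hsub, hsub, hu]
    simp only [smul_add]
    abel
  have hgp : polar Q (g u) (g (g u)) = 0 := by rw [polar_map hg, hp]
  refine ⟨siegel Q u (g u) hQu hp, siegel_mem_E hQu hp, ?_, ?_, ?_⟩
  · rw [siegel_mul hQu hp hp (by rw [hxx, polar_zero_right])]
    ext x
    rw [siegel_apply, hxx, smul_zero, polar_zero_left, QuadraticMap.map_zero]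
    simp
  · intro h
    have h3 : siegel Q u (g u) hQu hp (f.v i) = f.v i := by rw [h]; rfl
    rw [siegel_apply, hQgu, zero_mul, zero_smul, sub_zero] at h3
    have h4 : polar Q u (f.v i) = 0 := by
      rw [hu, polar_add_left, two_zero_polar h2, f.o1 j i hij.symm, add_zero]
    have h5 : polar Q (g u) (f.v i) = f.t i := by
      rw [hgu, polar_add_left, f.pol', f.o2' hij.symm, add_zero]
    rw [h4, h5, zero_smul, add_zero] at h3
    have h6 : f.t i • u = 0 := by
      have h7 := congrArg (fun y => f.v i - y) h3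
      simpa only [_root_.smul_eq_zero, _root_.sub_sub_cancel, _root_.sub_self] using h7
    rcases smul_eq_zero.1 h6 with h7 | h7
    · exact f.t0 i h7
    · have h8 : polar Q u (g (f.v i)) = f.t i := by
        rw [hu, polar_add_left, f.pol, f.o2 j i hij.symm, add_zero]
      rw [h7, polar_zero_left] at h8
      exact f.t0 i h8.symm
  · have h3 := siegel_conj hg hQu hp hQgu hgp
    have h4 : siegel Q (g u) (g (g u)) hQgu hgp = siegel Q u (g u) hQu hp := by
      ext x
      have h5 : Q (g (g u)) = 0 := by rw [mem_O.1 hg, hQgu]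
      rw [siegel_apply, siegel_apply, h5, hQgu, hggu, polar_add_left, polar_smul_left]
      simp only [zero_mul, zero_smul, add_zero, hsub, smul_add, smul_smul, add_smul, smul_eq_mul]
      have h6 : (polar Q (g u) x * f.t i) • g u + (f.t i * polar Q (g u) x) • g u = 0 := by
        rw [mul_comm, hxx]
      calc x + ((polar Q (g u) x * f.t i) • g u + polar Q (g u) x • u) +
            ((f.t i * polar Q (g u) x) • g u + polar Q u x • g u)
          = x + ((polar Q (g u) x * f.t i) • g u + (f.t i * polar Q (g u) x) • g u) +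
            (polar Q (g u) x • u + polar Q u x • g u) := by abel
        _ = x + polar Q u x • g u + polar Q (g u) x • u := by rw [h6]; abel
    rw [h4] at h3
    rw [mul_inv_eq_iff_eq_mul] at h3
    exact h3

/-- the plane -/
def Fr.P (i : Fin m) : Submodule F V := Submodule.span F {f.v i, g (f.v i)}

theorem Fr.mem_P {i : Fin m} {x : V} : x ∈ f.P i ↔ ∃ a b : F, a • f.v i + b • g (f.v i) = x :=
  Submodule.mem_span_pair

theorem Fr.v_mem (i : Fin m) : f.v i ∈ f.P i := Submodule.subset_span (Set.mem_insert _ _)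

theorem Fr.g_mem {i : Fin m} {x : V} (hx : x ∈ f.P i) : g x ∈ f.P i := by
  obtain ⟨a, b, rfl⟩ := f.mem_P.1 hx
  refine f.mem_P.2 ⟨-b, a + b * f.t i, ?_⟩
  rw [map_add, map_smul, map_smul, f.eg]
  module

theorem Fr.gg {i : Fin m} {x : V} (hx : x ∈ f.P i) : g (g x) = f.t i • g x - x := by
  obtain ⟨a, b, rfl⟩ := f.mem_P.1 hx
  rw [map_add, map_add, map_smul, map_smul, map_smul, map_smul, f.eg, map_sub, map_smul, f.eg]
  module

/-- coordinates -/
theorem Fr.polar_sum_gv (h2 : (2 : F) = 0) (hg : g ∈ O Q) (a b : Fin m → F) (i : Fin m) :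
    polar Q (∑ j, (a j • f.v j + b j • g (f.v j))) (g (f.v i)) = a i * f.t i := by
  rw [QuadraticMap.polar_comm, ← polarBilin_apply_apply, map_sum, Finset.sum_eq_single i]
  · rw [polarBilin_apply_apply, polar_add_right, polar_smul_right, polar_smul_right, f.pol', two_zero_polar h2,
      smul_zero, add_zero, smul_eq_mul]
  · intro j _ hj
    rw [polarBilin_apply_apply, polar_add_right, polar_smul_right, polar_smul_right, f.o2' hj.symm,
      f.o3 hg hj.symm, smul_zero, smul_zero, add_zero]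
  · intro h; exact absurd (Finset.mem_univ _) h

theorem Fr.polar_sum_v (h2 : (2 : F) = 0) (a b : Fin m → F) (i : Fin m) :
    polar Q (∑ j, (a j • f.v j + b j • g (f.v j))) (f.v i) = b i * f.t i := by
  rw [QuadraticMap.polar_comm, ← polarBilin_apply_apply, map_sum, Finset.sum_eq_single i]
  · rw [polarBilin_apply_apply, polar_add_right, polar_smul_right, polar_smul_right, f.pol, two_zero_polar h2,
      smul_zero, zero_add, smul_eq_mul]
  · intro j _ hj
    rw [polarBilin_apply_apply, polar_add_right, polar_smul_right, polar_smul_right, f.o1 i j hj.symm,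
      f.o2 i j hj.symm, smul_zero, smul_zero, add_zero]
  · intro h; exact absurd (Finset.mem_univ _) h

/-- **The plane is an eigenspace.** -/
theorem Fr.mem_P_of (h2 : (2 : F) = 0) (hg : g ∈ O Q) (hinj : Function.Injective f.t) {i : Fin m} {x : V}
    (hx : g (g x) = f.t i • g x - x) : x ∈ f.P i := by
  have key : ∀ z : V, polar Q x (g (g z)) + polar Q x z = f.t i * polar Q x (g z) := by
    intro z
    have h1 : polar Q (g (g x)) (g (g z)) = polar Q x z := by rw [polar_map hg, polar_map hg]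
    rw [hx, polar_sub_left, polar_smul_left, polar_map hg, smul_eq_mul] at h1
    linear_combination -h1 - 2 * h2 * 0 + (polar Q x (g (g z))) * h2 * 0 + (polar Q x z) * 0
  have hj : ∀ j, j ≠ i → ∀ z ∈ f.P j, polar Q x (g z) = 0 := by
    intro j hji z hz
    have h1 := key z
    rw [f.gg hz, polar_sub_right, polar_smul_right, smul_eq_mul, sub_add_cancel] at h1
    have h3 : (f.t j - f.t i) * polar Q x (g z) = 0 := by rw [sub_mul, h1, sub_self]
    exact (mul_eq_zero.1 h3).resolve_left (sub_ne_zero.2 fun h => hji (hinj h))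
  have hj' : ∀ j, j ≠ i → polar Q x (f.v j) = 0 := by
    intro j hji
    have h1 := hj j hji (f.v j) (f.v_mem j)
    have h3 := hj j hji (g (f.v j)) (f.g_mem (f.v_mem j))
    rw [f.eg, polar_sub_right, polar_smul_right, h1, smul_zero, zero_sub, neg_eq_zero] at h3
    exact h3
  obtain ⟨a, b, hab⟩ := f.span x
  rw [hab]
  refine Submodule.sum_mem _ fun j _ => ?_
  by_cases hji : j = i
  · subst hji
    exact f.mem_P.2 ⟨_, _, rfl⟩
  · have h1 : a j * f.t j = 0 := by
      rw [← f.polar_sum_gv h2 hg a b j, ← hab]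
      exact hj j hji _ (f.v_mem j)
    have h3 : b j * f.t j = 0 := by
      rw [← f.polar_sum_v h2 a b j, ← hab]
      exact hj' j hji
    rw [(mul_eq_zero.1 h1).resolve_right (f.t0 j), (mul_eq_zero.1 h3).resolve_right (f.t0 j), zero_smul, zero_smul,
      add_zero]
    exact Submodule.zero_mem _

attribute [-instance] instNoNatZeroDivisorsOfIsAddTorsionFree instIsCharPOfIsLeftCancelAddOfCharP in
/-- **The plane lemma.** -/
theorem Fr.plane_comm (h2 : (2 : F) = 0) (hg : g ∈ O Q) {i : Fin m} {k : V ≃ₗ[F] V} (hk : k ∈ O Q)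
    (hP : ∀ x ∈ f.P i, k x ∈ f.P i) {N : ℕ} (hN : Odd N) (hkN : k ^ N = 1) :
    ∀ x ∈ f.P i, k (g x) = g (k x) := by
  have hadd : ∀ x : F, x + x = 0 := fun x => by rw [← two_mul, h2, zero_mul]
  have hQ : ∀ a b : F, Q (a • f.v i + b • g (f.v i)) = a ^ 2 + a * b * f.t i + b ^ 2 := by
    intro a b
    rw [Q_add, QuadraticMap.map_smul, QuadraticMap.map_smul, f.Qv, f.Qgv hg, polar_smul_left, polar_smul_right, f.pol]
    simp only [smul_eq_mul]
    ring
  have hB : ∀ a b c d : F, polar Q (a • f.v i + b • g (f.v i)) (c • f.v i + d • g (f.v i)) =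
      (a * d + b * c) * f.t i := by
    intro a b c d
    rw [polar_add_left, polar_smul_left, polar_smul_left, polar_add_right, polar_add_right, polar_smul_right,
      polar_smul_right, polar_smul_right, polar_smul_right, two_zero_polar h2, two_zero_polar h2, f.pol, f.pol']
    simp only [smul_eq_mul]
    ring
  obtain ⟨a, b, hab⟩ := f.mem_P.1 (hP _ (f.v_mem i))
  obtain ⟨c, d, hcd⟩ := f.mem_P.1 (hP _ (f.g_mem (f.v_mem i)))
  have q1 : a ^ 2 + a * b * f.t i + b ^ 2 = 1 := by rw [← hQ, hab, mem_O.1 hk, f.Qv]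
  have q2 : c ^ 2 + c * d * f.t i + d ^ 2 = 1 := by rw [← hQ, hcd, mem_O.1 hk, f.Qgv hg]
  have q3 : a * d + b * c = 1 := by
    have h3 : (a * d + b * c) * f.t i = f.t i := by rw [← hB, hab, hcd, polar_map hk, f.pol]
    exact mul_right_cancel₀ (f.t0 i) (by rw [h3, one_mul])
  obtain ⟨t, ht⟩ : ∃ t, t = f.t i := ⟨_, rfl⟩
  rw [← ht] at q1 q2
  obtain ⟨l, hl⟩ : ∃ l, l = c * (a + b * t) + d * b := ⟨_, rfl⟩
  have e1 : c = b + l * a := by
    rw [hl]; (clear * - h2 q3 q2 q1; grobner)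
  have e2 : d = a + b * t + l * b := by
    rw [hl]; (clear * - h2 q3 q2 q1 hl e1; grobner)
  have e3 : l * (l + t) = 0 := by
    (clear * - h2 q3 q2 hl e1 e2; grobner)
  rcases mul_eq_zero.1 e3 with h0 | h0
  · have hkgv : k (g (f.v i)) = g (k (f.v i)) := by
      rw [← hab, ← hcd, e1, e2, h0, map_add, map_smul, map_smul, f.eg, ← ht]
      have hb : b = -b := eq_neg_of_add_eq_zero_left (hadd b)
      nth_rewrite 1 [hb]
      module
    intro x hx
    obtain ⟨α, β, rfl⟩ := f.mem_P.1 hx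
    have h3 := f.gg (hP _ (f.v_mem i))
    simp only [map_add, map_smul, map_sub, hkgv, h3, f.eg]
  · exfalso
    have hkgv : k (g (f.v i)) = t • k (f.v i) - g (k (f.v i)) := by
      have hl' : l = t := by (clear * - h2 hl e2 h0; grobner)
      rw [← hab, ← hcd, e1, e2, hl', map_add, map_smul, map_smul, f.eg, ← ht]
      have hbt : (t * b) • g (f.v i) + (t * b) • g (f.v i) = 0 := by rw [← add_smul, hadd, zero_smul]
      have haa : a • g (f.v i) + a • g (f.v i) = 0 := by rw [← add_smul, hadd, zero_smul]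
      have h5 : (b + t * a) • f.v i + (a + b * t + t * b) • g (f.v i) =
          (b + t * a) • f.v i + a • g (f.v i) + ((t * b) • g (f.v i) + (t * b) • g (f.v i)) := by module
      have h6 : t • (a • f.v i + b • g (f.v i)) - (a • g (f.v i) + b • (t • g (f.v i) - f.v i)) =
          (b + t * a) • f.v i + a • g (f.v i) - (a • g (f.v i) + a • g (f.v i)) := by module
      rw [h5, h6, hbt, haa, add_zero, sub_zero]
    have hk1 : ∀ x ∈ f.P i, k (g x) = t • k x - g (k x) := by
      intro x hx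
      obtain ⟨α, β, rfl⟩ := f.mem_P.1 hx
      have h3 := f.gg (hP _ (f.v_mem i))
      simp only [map_add, map_smul, map_sub, hkgv, h3, f.eg, ← ht]
      module
    have hk2 : ∀ n : ℕ, ∀ x ∈ f.P i, (Even n → (k ^ n) (g x) = g ((k ^ n) x)) ∧
        (Odd n → (k ^ n) (g x) = t • (k ^ n) x - g ((k ^ n) x)) := by
      intro n
      induction n with
      | zero =>
        intro x _
        refine ⟨fun _ => ?_, fun h => ?_⟩
        · rw [pow_zero]; rfl
        · exact absurd h (by decide)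
      | succ n ih =>
        intro x hx
        have h3 := ih (k x) (hP x hx)
        have h4 : ∀ y : V, (k ^ (n + 1)) y = (k ^ n) (k y) := fun y => by rw [pow_succ]; rfl
        rw [h4, h4, hk1 x hx, map_sub, map_smul]
        constructor
        · intro h
          have h5 : Odd n := by
            rcases Nat.even_or_odd n with h6 | h6
            · exact absurd h (Nat.not_even_iff_odd.2 h6.add_one)
            · exact h6
          rw [h3.2 h5]
          abel
        · intro h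
          have h5 : Even n := by
            rcases Nat.even_or_odd n with h6 | h6
            · exact h6
            · exact absurd h (Nat.not_odd_iff_even.2 h6.add_one)
          rw [h3.1 h5]
    have h3 := (hk2 N (f.v i) (f.v_mem i)).2 hN
    rw [hkN] at h3
    have h4 : g (f.v i) = t • f.v i - g (f.v i) := h3
    have h5 : polar Q (g (f.v i)) (g (f.v i)) = polar Q (t • f.v i - g (f.v i)) (g (f.v i)) := by rw [← h4]
    rw [two_zero_polar h2, polar_sub_left, polar_smul_left, two_zero_polar h2, f.pol, sub_zero, smul_eq_mul, ← ht] at h5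
    exact f.t0 i (ht ▸ mul_self_eq_zero.1 h5.symm)

end Basic

section Perm

theorem Q_sum {ι : Type*} (s : Finset ι) (x : ι → V) (h : ∀ i j, i ≠ j → polar Q (x i) (x j) = 0) :
    Q (∑ i ∈ s, x i) = ∑ i ∈ s, Q (x i) := by
  classical
  induction s using Finset.induction_on with
  | empty => rw [Finset.sum_empty, Finset.sum_empty, QuadraticMap.map_zero]
  | insert a s ha ih =>
    have h1 : polar Q (x a) (∑ i ∈ s, x i) = 0 := by
      rw [← polarBilin_apply_apply, map_sum]
      refine Finset.sum_eq_zero fun j hj => ?_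
      exact h a j fun h => ha (h ▸ hj)
    rw [Finset.sum_insert ha, Finset.sum_insert ha, Q_add, ih, h1, add_zero]

/-- **Permutations of isometric planes.** -/
theorem exists_perm (h2 : (2 : F) = 0) {m : ℕ} {e f : Fin m → V} {τ : F} (hτ : τ ≠ 0) (he : ∀ i, Q (e i) = 1)
    (hf : ∀ i, Q (f i) = 1) (hef : ∀ i, polar Q (e i) (f i) = τ) (o1 : ∀ i j, i ≠ j → polar Q (e i) (e j) = 0)
    (o2 : ∀ i j, i ≠ j → polar Q (e i) (f j) = 0) (o3 : ∀ i j, i ≠ j → polar Q (f i) (f j) = 0)
    (span : ∀ x, ∃ a b : Fin m → F, x = ∑ i, (a i • e i + b i • f i)) :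
    ∃ P : Equiv.Perm (Fin m) →* (V ≃ₗ[F] V), (∀ σ, P σ ∈ O Q) ∧ (∀ σ i, P σ (e i) = e (σ i)) ∧
      (∀ σ i, P σ (f i) = f (σ i)) ∧ Function.Injective P := by
  classical
  let D0 : (Fin m → F × F) →ₗ[F] V :=
    { toFun := fun a => ∑ i, ((a i).1 • e i + (a i).2 • f i)
      map_add' := fun a b => by
        rw [← Finset.sum_add_distrib]
        refine Finset.sum_congr rfl fun i _ => ?_
        simp only [Pi.add_apply, Prod.fst_add, Prod.snd_add]
        module
      map_smul' := fun c a => by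
        rw [RingHom.id_apply, Finset.smul_sum]
        refine Finset.sum_congr rfl fun i _ => ?_
        simp only [Pi.smul_apply, Prod.smul_fst, Prod.smul_snd, smul_eq_mul]
        module }
  have hD0 : ∀ a, D0 a = ∑ i, ((a i).1 • e i + (a i).2 • f i) := fun _ => rfl
  have hsurj : Function.Surjective D0 := by
    intro x
    obtain ⟨a, b, hab⟩ := span x
    exact ⟨fun i => (a i, b i), hab.symm⟩
  have c1 : ∀ a i, polar Q (f i) (D0 a) = (a i).1 * τ := by
    intro a i
    rw [hD0, ← polarBilin_apply_apply, map_sum, Finset.sum_eq_single i]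
    · rw [polarBilin_apply_apply, polar_add_right, polar_smul_right, polar_smul_right, polar_comm _ (f i) (e i), hef,
        two_zero_polar h2, smul_zero, add_zero, smul_eq_mul]
    · intro j _ hj
      rw [polarBilin_apply_apply, polar_add_right, polar_smul_right, polar_smul_right, polar_comm _ (f i) (e j),
        o2 j i hj, o3 i j hj.symm, smul_zero, smul_zero, add_zero]
    · intro h; exact absurd (Finset.mem_univ _) h
  have c2 : ∀ a i, polar Q (e i) (D0 a) = (a i).2 * τ := by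
    intro a i
    rw [hD0, ← polarBilin_apply_apply, map_sum, Finset.sum_eq_single i]
    · rw [polarBilin_apply_apply, polar_add_right, polar_smul_right, polar_smul_right, hef,
        two_zero_polar h2, smul_zero, zero_add, smul_eq_mul]
    · intro j _ hj
      rw [polarBilin_apply_apply, polar_add_right, polar_smul_right, polar_smul_right, o1 i j hj.symm,
        o2 i j hj.symm, smul_zero, smul_zero, add_zero]
    · intro h; exact absurd (Finset.mem_univ _) h
  have hinj : Function.Injective D0 := by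
    intro a b hab
    funext i
    refine Prod.ext ?_ ?_
    · exact mul_right_cancel₀ hτ (by rw [← c1, ← c1, hab])
    · exact mul_right_cancel₀ hτ (by rw [← c2, ← c2, hab])
  let D : (Fin m → F × F) ≃ₗ[F] V := LinearEquiv.ofBijective D0 ⟨hinj, hsurj⟩
  have hD : ∀ a, D a = D0 a := fun _ => rfl
  have hQD : ∀ a, Q (D a) = ∑ i, ((a i).1 ^ 2 + τ * (a i).1 * (a i).2 + (a i).2 ^ 2) := by
    intro a
    rw [hD, hD0, Q_sum]
    · refine Finset.sum_congr rfl fun i _ => ?_
      rw [Q_add, QuadraticMap.map_smul, QuadraticMap.map_smul, he, hf, polar_smul_left, polar_smul_right, hef]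
      simp only [smul_eq_mul]
      ring
    · intro i j hij
      rw [polar_add_left, polar_smul_left, polar_smul_left, polar_add_right, polar_add_right, polar_smul_right,
        polar_smul_right, polar_smul_right, polar_smul_right, o1 i j hij, o2 i j hij, o3 i j hij,
        polar_comm _ (f i) (e j), o2 j i hij.symm]
      simp
  let R : Equiv.Perm (Fin m) → ((Fin m → F × F) ≃ₗ[F] (Fin m → F × F)) := fun σ =>
    LinearEquiv.funCongrLeft F (F × F) σ⁻¹
  have hR : ∀ σ a i, R σ a i = a (σ⁻¹ i) := fun _ _ _ => rfl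
  let P : Equiv.Perm (Fin m) →* (V ≃ₗ[F] V) :=
    { toFun := fun σ => D.symm.trans ((R σ).trans D)
      map_one' := by
        ext x
        change D (R 1 (D.symm x)) = x
        have h3 : R 1 (D.symm x) = D.symm x := by
          funext i; rw [hR]; simp
        rw [h3, LinearEquiv.apply_symm_apply]
      map_mul' := fun σ ρ => by
        ext x
        change D (R (σ * ρ) (D.symm x)) = D (R σ (D.symm (D (R ρ (D.symm x)))))
        rw [LinearEquiv.symm_apply_apply]
        congr 1 }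
  have hP : ∀ σ a, P σ (D a) = D (R σ a) := by
    intro σ a
    change D (R σ (D.symm (D a))) = _
    rw [LinearEquiv.symm_apply_apply]
  have he' : ∀ i, D (Pi.single i (1, 0)) = e i := by
    intro i
    rw [hD, hD0, Finset.sum_eq_single i]
    · simp
    · intro j _ hj
      rw [Pi.single_eq_of_ne hj]
      simp
    · intro h; exact absurd (Finset.mem_univ _) h
  have hf' : ∀ i, D (Pi.single i (0, 1)) = f i := by
    intro i
    rw [hD, hD0, Finset.sum_eq_single i]
    · simp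
    · intro j _ hj
      rw [Pi.single_eq_of_ne hj]
      simp
    · intro h; exact absurd (Finset.mem_univ _) h
  have hRs : ∀ σ i (c : F × F), R σ (Pi.single i c) = Pi.single (σ i) c := by
    intro σ i c
    funext j
    rw [hR]
    by_cases h : j = σ i
    · subst h
      rw [show σ⁻¹ (σ i) = i from σ.symm_apply_apply i, Pi.single_eq_same, Pi.single_eq_same]
    · rw [Pi.single_eq_of_ne h, Pi.single_eq_of_ne]
      intro h'
      apply h
      rw [← h', show σ (σ⁻¹ j) = j from σ.apply_symm_apply j]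
  have hPe : ∀ σ i, P σ (e i) = e (σ i) := by
    intro σ i
    rw [← he', hP, hRs, he']
  refine ⟨P, ?_, hPe, ?_, ?_⟩
  · intro σ x
    obtain ⟨a, rfl⟩ := D.surjective x
    rw [hP, hQD, hQD]
    have h3 := Equiv.sum_comp (σ⁻¹) fun i => ((a i).1 ^ 2 + τ * (a i).1 * (a i).2 + (a i).2 ^ 2)
    rw [← h3]
    exact Finset.sum_congr rfl fun i _ => by rw [hR]
  · intro σ i
    rw [← hf', hP, hRs, hf']
  · rw [injective_iff_map_eq_one]
    intro σ hσ
    ext1 i
    by_contra hne
    have hne : σ i ≠ i := hne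
    have h3 : e (σ i) = e i := by rw [← hPe, hσ]; rfl
    have h4 := hef i
    rw [← h3, o2 _ _ hne] at h4
    exact hτ h4.symm

end Perm

section Main

open Subgroup

variable {g : V ≃ₗ[F] V} {m : ℕ} (f : Fr Q g m)

/-- a normalised frame gives permutations acting on the planes -/
theorem Fr.exists_perm_planes (h2 : (2 : F) = 0) (hg : g ∈ O Q) (hm : 0 < m)
    (hy : ∀ i j, ∃ y : F, y ^ 2 + y = ((f.t i)⁻¹) ^ 2 + ((f.t j)⁻¹) ^ 2) :
    ∃ P : Equiv.Perm (Fin m) →* (V ≃ₗ[F] V), (∀ σ, P σ ∈ O Q) ∧ (∀ σ i, ∀ x ∈ f.P i, P σ x ∈ f.P (σ i)) ∧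
      Function.Injective P := by
  obtain ⟨τ, hτ⟩ : ∃ τ, τ = f.t ⟨0, hm⟩ := ⟨_, rfl⟩
  have hτ0 : τ ≠ 0 := hτ ▸ f.t0 _
  have hy' : ∀ i, ∃ y : F, y ^ 2 + y = (τ⁻¹) ^ 2 + ((f.t i)⁻¹) ^ 2 := fun i => by rw [hτ]; exact hy _ i
  choose y hy' using hy'
  have hβ : ∀ i, τ * (f.t i)⁻¹ ≠ 0 := fun i => mul_ne_zero hτ0 (inv_ne_zero (f.t0 i))
  obtain ⟨e', he'⟩ : ∃ e' : Fin m → V, ∀ i, e' i = (τ * y i) • f.v i + (τ * (f.t i)⁻¹) • g (f.v i) := ⟨_, fun _ => rfl⟩
  have hv : ∀ i, g (f.v i) = (τ * (f.t i)⁻¹)⁻¹ • (e' i - (τ * y i) • f.v i) := by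
    intro i
    rw [he', add_sub_cancel_left, smul_smul, inv_mul_cancel₀ (hβ i), one_smul]
  obtain ⟨P, h1, h3, h4, h5⟩ : ∃ P : Equiv.Perm (Fin m) →* (V ≃ₗ[F] V), (∀ σ, P σ ∈ O Q) ∧
      (∀ σ i, P σ (f.v i) = f.v (σ i)) ∧ (∀ σ i, P σ (e' i) = e' (σ i)) ∧ Function.Injective P := by
    refine exists_perm (Q := Q) h2 (e := f.v) (f := e') (τ := τ) hτ0 f.Qv ?_ ?_ f.o1 ?_ ?_ ?_
    · intro i
      have ht := f.t0 i
      rw [he', Q_add, QuadraticMap.map_smul, QuadraticMap.map_smul, f.Qv, f.Qgv hg, polar_smul_left, polar_smul_right,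
        f.pol]
      simp only [smul_eq_mul]
      have h6 := hy' i
      have h7 : τ * y i * (τ * y i) * 1 + τ * (f.t i)⁻¹ * (τ * (f.t i)⁻¹) * 1 + τ * y i * (τ * (f.t i)⁻¹ * f.t i) =
          τ ^ 2 * (y i ^ 2 + y i) + τ ^ 2 * ((f.t i)⁻¹) ^ 2 := by
        rw [mul_assoc τ (f.t i)⁻¹ (f.t i), inv_mul_cancel₀ ht]
        ring
      rw [h7, h6]
      have h8 : τ ^ 2 * (τ⁻¹) ^ 2 = 1 := by rw [← mul_pow, mul_inv_cancel₀ hτ0, one_pow]
      linear_combination h8 + τ ^ 2 * (f.t i)⁻¹ ^ 2 * h2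
    · intro i
      rw [he', polar_add_right, polar_smul_right, polar_smul_right, two_zero_polar h2, f.pol, smul_zero, zero_add,
        smul_eq_mul, mul_assoc, inv_mul_cancel₀ (f.t0 i), mul_one]
    · intro i j hij
      rw [he', polar_add_right, polar_smul_right, polar_smul_right, f.o1 i j hij, f.o2 i j hij, smul_zero, smul_zero,
        add_zero]
    · intro i j hij
      rw [he', he', polar_add_left, polar_smul_left, polar_smul_left, polar_add_right, polar_add_right,
        polar_smul_right, polar_smul_right, polar_smul_right, polar_smul_right, f.o1 i j hij, f.o2 i j hij,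
        f.o2' hij, f.o3 hg hij]
      simp
    · intro x
      obtain ⟨a, b, hab⟩ := f.span x
      refine ⟨fun i => a i - b i * (τ * (f.t i)⁻¹)⁻¹ * (τ * y i), fun i => b i * (τ * (f.t i)⁻¹)⁻¹, ?_⟩
      rw [hab]
      refine Finset.sum_congr rfl fun i _ => ?_
      rw [he', smul_add, smul_smul, smul_smul, mul_assoc (b i) _ (τ * (f.t i)⁻¹), inv_mul_cancel₀ (hβ i), mul_one]
      module
  refine ⟨P, h1, ?_, h5⟩
  intro σ i x hx
  obtain ⟨a, b, rfl⟩ := f.mem_P.1 hx
  have h6 : e' (σ i) ∈ f.P (σ i) := by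
    rw [he']
    exact Submodule.add_mem _ (Submodule.smul_mem _ _ (f.v_mem _)) (Submodule.smul_mem _ _ (f.g_mem (f.v_mem _)))
  rw [hv i, map_add, map_smul, map_smul, map_smul, map_sub, map_smul, h3, h4]
  exact Submodule.add_mem _ (Submodule.smul_mem _ _ (f.v_mem _)) (Submodule.smul_mem _ _ (Submodule.smul_mem _ _
    (Submodule.sub_mem _ h6 (Submodule.smul_mem _ _ (f.v_mem _)))))

/-- **Distinct eigenvalues: the normaliser of the centraliser is not solvable.** -/
theorem Fr.normalizer_not_solvable (h2 : (2 : F) = 0) (hG : Good Q) (hg : g ∈ O Q) (hm : 5 ≤ m)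
    (hinj : Function.Injective f.t)
    (hy : ∀ i j, ∃ y : F, y ^ 2 + y = ((f.t i)⁻¹) ^ 2 + ((f.t j)⁻¹) ^ 2)
    (hodd : Odd (Nat.card ↥(E Q ⊓ centralizer ({g} : Set (V ≃ₗ[F] V)) : Subgroup (V ≃ₗ[F] V)))) :
    ¬ Group.IsSolvable ↥(E Q ⊓ normalizer ((E Q ⊓ centralizer ({g} : Set (V ≃ₗ[F] V)) : Subgroup (V ≃ₗ[F] V)) :
      Set (V ≃ₗ[F] V))) := by
  obtain ⟨P, hP1, hP2, hP3⟩ := f.exists_perm_planes h2 hg (by omega) hy
  obtain ⟨C, hC⟩ : ∃ C : Subgroup (V ≃ₗ[F] V), C = E Q ⊓ centralizer {g} := ⟨_, rfl⟩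
  have hCm : ∀ h, h ∈ C ↔ h ∈ E Q ∧ g * h = h * g := by
    intro h
    rw [hC, mem_inf, mem_centralizer_singleton_iff, eq_comm (a := g * h)]
  rw [← hC] at hodd ⊢
  have hcp : ∀ h ∈ C, ∀ x, g (h x) = h (g x) := by
    intro h hh x
    have h3 := ((hCm h).1 hh).2
    exact congrArg (fun k : V ≃ₗ[F] V => k x) h3
  have hpl : ∀ h ∈ C, ∀ i, ∀ x ∈ f.P i, h x ∈ f.P i := by
    intro h hh i x hx
    apply f.mem_P_of h2 hg hinj
    rw [hcp h hh, hcp h hh, f.gg hx, map_sub, map_smul]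
  have hσ : ∀ σ, ∀ h ∈ C, P σ * h * (P σ)⁻¹ ∈ C := by
    intro σ h hh
    have hE : P σ * h * (P σ)⁻¹ ∈ E Q := conj_mem_E (hP1 σ) ((hCm h).1 hh).1
    refine (hCm _).2 ⟨hE, ?_⟩
    have hN : (P σ * h * (P σ)⁻¹) ^ Nat.card C = 1 := by
      have h3 : h ^ Nat.card C = 1 := by
        have h4 := pow_card_eq_one' (x := (⟨h, hh⟩ : C))
        exact congrArg Subtype.val h4
      rw [conj_pow, h3, mul_one, mul_inv_cancel]
    have hpres : ∀ j, ∀ x ∈ f.P j, (P σ * h * (P σ)⁻¹) x ∈ f.P j := by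
      intro j x hx
      have h3 : (P σ)⁻¹ x ∈ f.P (σ⁻¹ j) := by
        rw [← map_inv]
        exact hP2 _ _ _ hx
      have h4 := hP2 σ _ _ (hpl h hh _ _ h3)
      rw [show σ (σ⁻¹ j) = j from σ.apply_symm_apply j] at h4
      exact h4
    have hc := fun j => f.plane_comm h2 hg (E_le_O hE) (hpres j) hodd hN
    ext x
    change g ((P σ * h * (P σ)⁻¹) x) = (P σ * h * (P σ)⁻¹) (g x)
    obtain ⟨a, b, hab⟩ := f.span x
    rw [hab, map_sum, map_sum, map_sum, map_sum]
    refine Finset.sum_congr rfl fun i _ => ?_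
    exact (hc i _ (f.mem_P.2 ⟨a i, b i, rfl⟩)).symm
  have hnorm : ∀ σ, P σ ∈ normalizer (C : Set (V ≃ₗ[F] V)) := by
    intro σ
    rw [mem_normalizer_iff]
    intro h
    refine ⟨fun hh => hσ σ h hh, fun hh => ?_⟩
    have h3 := hσ σ⁻¹ _ hh
    have h4 : P σ⁻¹ * (P σ * h * (P σ)⁻¹) * (P σ⁻¹)⁻¹ = h := by
      rw [map_inv]; group
    rwa [h4] at h3
  intro hs
  have hcomm : ∀ σ ∈ commutator (Equiv.Perm (Fin m)), P σ ∈ E Q := by
    intro σ hσ'
    have h3 : (_root_.commutator (Equiv.Perm (Fin m))).map P ≤ E Q := by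
      rw [_root_.commutator_def, Subgroup.map_commutator, ← hG.commutator_eq_E]
      apply Subgroup.commutator_mono
      · rintro _ ⟨x, -, rfl⟩; exact hP1 x
      · rintro _ ⟨x, -, rfl⟩; exact hP1 x
    exact h3 ⟨σ, hσ', rfl⟩
  let φ : ↥(_root_.commutator (Equiv.Perm (Fin m))) →* ↥(E Q ⊓ normalizer (C : Set (V ≃ₗ[F] V))) :=
    { toFun := fun x => ⟨P x, hcomm _ x.2, hnorm _⟩
      map_one' := Subtype.ext (map_one P)
      map_mul' := fun a b => Subtype.ext (map_mul P _ _) }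
  have hφ : Function.Injective φ := by
    intro a b hab
    exact Subtype.ext (hP3 (congrArg Subtype.val hab))
  haveI := hs
  haveI h6 : Group.IsSolvable ↥(_root_.commutator (Equiv.Perm (Fin m))) := Group.isSolvable_of_isSolvable_injective hφ
  have h7 : Group.IsSolvable (Equiv.Perm (Fin m)) := by
    refine Group.isSolvable_of_ker_le_range (_root_.commutator (Equiv.Perm (Fin m))).subtype
      (Abelianization.of (G := Equiv.Perm (Fin m))) ?_
    rw [Abelianization.ker_of, Subgroup.range_subtype]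
  exact Equiv.Perm.not_isSolvable (Fin m) (by simpa only [_root_.Cardinal.mk_fintype, _root_.Fintype.card_fin, _root_.Nat.ofNat_le_cast] using hm) h7

/-- **Distinct eigenvalues: the centraliser is commutative.** -/
theorem Fr.cent_comm (h2 : (2 : F) = 0) (hg : g ∈ O Q) (hinj : Function.Injective f.t) {h k : V ≃ₗ[F] V}
    (hh : g * h = h * g) (hk : g * k = k * g) : h * k = k * h := by
  have hcp : ∀ l : V ≃ₗ[F] V, g * l = l * g → ∀ x, g (l x) = l (g x) := by
    intro l hl x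
    exact congrArg (fun k : V ≃ₗ[F] V => k x) hl
  have hpl : ∀ l : V ≃ₗ[F] V, g * l = l * g → ∀ i, ∀ x ∈ f.P i, l x ∈ f.P i := by
    intro l hl i x hx
    apply f.mem_P_of h2 hg hinj
    rw [hcp l hl, hcp l hl, f.gg hx, map_sub, map_smul]
  have hform : ∀ l : V ≃ₗ[F] V, g * l = l * g → ∀ i, ∃ a b : F, ∀ x ∈ f.P i, l x = a • x + b • g x := by
    intro l hl i
    obtain ⟨a, b, hab⟩ := f.mem_P.1 (hpl l hl i _ (f.v_mem i))
    refine ⟨a, b, ?_⟩
    intro x hx
    obtain ⟨c, d, rfl⟩ := f.mem_P.1 hx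
    have h3 : l (g (f.v i)) = a • g (f.v i) + b • g (g (f.v i)) := by
      rw [← hcp l hl, ← hab, map_add, map_smul, map_smul]
    rw [map_add, map_smul, map_smul, h3, ← hab, map_add, map_smul, map_smul]
    module
  ext x
  change h (k x) = k (h x)
  obtain ⟨a, b, hab⟩ := f.span x
  rw [hab, map_sum, map_sum, map_sum, map_sum]
  refine Finset.sum_congr rfl fun i _ => ?_
  obtain ⟨y, hy⟩ : ∃ y, y = a i • f.v i + b i • g (f.v i) := ⟨_, rfl⟩
  have hyP : y ∈ f.P i := f.mem_P.2 ⟨a i, b i, hy.symm⟩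
  rw [← hy]
  obtain ⟨c, d, hcd⟩ := hform h hh i
  obtain ⟨c', d', hcd'⟩ := hform k hk i
  rw [hcd _ (hpl k hk i y hyP), hcd' _ (hpl h hh i y hyP), hcd y hyP, hcd' y hyP]
  simp only [map_add, map_smul]
  module

end Main

end Cfsg.Agent.H310.OC
end

-- part: H310/Car/OCExist
section
/-!
# Frames for isometries of odd prime order `p ∣ q² - 1` without fixed vectors, `q` even (helper310, for S3852)

* `exists_fr` : such an isometry has a frame;
* `artin` : the eigenvalues `t` satisfy the trace condition;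
* `even_or` : `|C|` is even or `N(C)` is not solvable, `C` the centraliser in `Ω`.
-/

set_option autoImplicit false
set_option linter.unusedSectionVars false

namespace Cfsg.Agent.H310.OC

open QuadraticMap Matrix Module Polynomial
open Cfsg.Agent.ClassicalGeometry.Reflection Cfsg.Agent.ClassicalGeometry.OrthCharTwo
  Cfsg.Agent.ClassicalGeometry.SpinorSign Cfsg.Agent.ClassicalGeometry.OmegaIndex
  Cfsg.Agent.ClassicalGeometry.OrthDickson
open Cfsg.Agent.H507.GmnOrth
open Cfsg.Agent.LieClassical.OrthCore hiding polar_self'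
open Cfsg.Agent.LieClassical.OrthTrans Cfsg.Agent.LieClassical.OrthFinite

variable {ι : Type} [Fintype ι] [DecidableEq ι] {F : Type*} [Field F] {Q : QuadraticForm F (ι → F)}

theorem exists_frame_sub [Fintype F] (h2 : (2 : F) = 0) {p : ℕ} (hp : p.Prime) (hp2 : p ≠ 2)
    (hq : p ∣ Fintype.card F ^ 2 - 1)
    {g : Cfsg.isometryGroup F (⇑Q)} (hg : g ^ p = 1) (n : ℕ) :
    ∀ U : Submodule F (ι → F), finrank F U = n → (∀ u ∈ U, act g u ∈ U) →
      (∀ x ∈ U, (∀ y ∈ U, polar Q x y = 0) → x = 0) → (∀ u ∈ U, act g u = u → u = 0) →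
      ∃ (m : ℕ) (v : Fin m → ι → F) (t : Fin m → F), n = 2 * m ∧ (∀ i, v i ∈ U) ∧ (∀ i, Q (v i) = 1) ∧
        (∀ i, Eg g (t i) (v i)) ∧ (∀ i j, i ≠ j → polar Q (v i) (v j) = 0) ∧
        (∀ i j, i ≠ j → polar Q (v i) (act g (v j)) = 0) ∧
        (∀ x ∈ U, ∃ a b : Fin m → F, x = ∑ i, (a i • v i + b i • act g (v i))) := by
  classical
  induction n using Nat.strong_induction_on with
  | _ n ih =>
  intro U hn hU hnd hfix
  by_cases hbot : U = ⊥
  · refine ⟨0, Fin.elim0, Fin.elim0, ?_, fun i => i.elim0, fun i => i.elim0, fun i => i.elim0, fun i => i.elim0,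
      fun i => i.elim0, ?_⟩
    · rw [← hn, hbot, finrank_bot]
    · intro x hx
      rw [hbot, Submodule.mem_bot] at hx
      exact ⟨Fin.elim0, Fin.elim0, by rw [hx]; simp⟩
  obtain ⟨w, hwU, hQw, t, ht⟩ := exists_eigen hp hq hg hU hnd hbot
  obtain ⟨c, hc⟩ : ∃ c : F, c ^ 2 = (Q w)⁻¹ := by
    obtain ⟨c, hc⟩ := FiniteField.isSquare_of_char_two (F := F) (CharP.ringChar_of_prime_eq_zero Nat.prime_two
      (by exact_mod_cast h2)) (Q w)⁻¹
    exact ⟨c, by rw [hc, pow_two]⟩
  obtain ⟨v, hv⟩ : ∃ v, v = c • w := ⟨_, rfl⟩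
  have hQv : Q v = 1 := by
    rw [hv, QuadraticMap.map_smul, smul_eq_mul, ← pow_two, hc, inv_mul_cancel₀ hQw]
  have hvU : v ∈ U := hv ▸ U.smul_mem c hwU
  have htv : act g v + act g⁻¹ v = t • v := by
    rw [hv, act_smul, act_smul, ← smul_add, ht, smul_comm]
  have e : Eg g t v := Eg.of hp hp2 hg hU hfix hvU (by rw [hQv]; exact one_ne_zero) htv
  have hcm := e.finrank_cmp hU hvU
  obtain ⟨m, v', t', h1, h3, h4, h5, h6, h7, h8⟩ := ih (finrank F (cmp g v U)) (by omega) (cmp g v U) rfl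
    (e.cmp_inv hU) (e.cmp_nondeg hU hvU hnd) (fun u hu => hfix u (cmp_le hu))
  refine ⟨m + 1, Fin.cons v v', Fin.cons t t', by omega, ?_, ?_, ?_, ?_, ?_, ?_⟩
  · intro i
    refine Fin.cases ?_ (fun i => ?_) i
    · exact hvU
    · rw [Fin.cons_succ]; exact cmp_le (h3 i)
  · intro i
    refine Fin.cases ?_ (fun i => ?_) i
    · exact hQv
    · rw [Fin.cons_succ]; exact h4 i
  · intro i
    refine Fin.cases ?_ (fun i => ?_) i
    · exact e
    · rw [Fin.cons_succ, Fin.cons_succ]; exact h5 i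
  · intro i j
    refine Fin.cases ?_ (fun i => ?_) i <;> refine Fin.cases ?_ (fun j => ?_) j
    · intro h; exact absurd rfl h
    · intro _
      rw [Fin.cons_zero, Fin.cons_succ]
      exact (h3 j).2.1
    · intro _
      rw [Fin.cons_zero, Fin.cons_succ, polar_comm]
      exact (h3 i).2.1
    · intro h
      rw [Fin.cons_succ, Fin.cons_succ]
      exact h6 i j fun h' => h (by rw [h'])
  · intro i j
    refine Fin.cases ?_ (fun i => ?_) i <;> refine Fin.cases ?_ (fun j => ?_) j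
    · intro h; exact absurd rfl h
    · intro _
      rw [Fin.cons_zero, Fin.cons_succ]
      exact (e.cmp_inv hU _ (h3 j)).2.1
    · intro _
      rw [Fin.cons_zero, Fin.cons_succ, polar_comm]
      exact (h3 i).2.2
    · intro h
      rw [Fin.cons_succ, Fin.cons_succ]
      exact h7 i j fun h' => h (by rw [h'])
  · intro x hx
    obtain ⟨a, b, hab⟩ := e.exists_sub hU hvU hx
    obtain ⟨a', b', hab'⟩ := h8 _ hab
    refine ⟨Fin.cons a a', Fin.cons b b', ?_⟩
    rw [Fin.sum_univ_succ]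
    simp only [Fin.cons_zero, Fin.cons_succ]
    rw [← hab']
    abel

/-- **Existence of frames.** -/
theorem exists_fr [Fintype F] (h2 : (2 : F) = 0) {p : ℕ} (hp : p.Prime) (hp2 : p ≠ 2)
    (hq : p ∣ Fintype.card F ^ 2 - 1) (hQ : (polarBilin Q).Nondegenerate)
    {g : Cfsg.isometryGroup F (⇑Q)} (hg : g ^ p = 1) (hfix : ∀ u, act g u = u → u = 0) :
    ∃ m : ℕ, Fintype.card ι = 2 * m ∧ Nonempty (Fr Q (isometryHom Q g) m) := by
  obtain ⟨m, v, t, h1, -, h4, h5, h6, h7, h8⟩ := exists_frame_sub h2 hp hp2 hq hg (finrank F (⊤ : Submodule F (ι → F)))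
    ⊤ rfl (fun _ _ => trivial) (fun x _ hx => hQ.1 x fun y => hx y trivial) (fun u _ => hfix u)
  refine ⟨m, ?_, ⟨⟨v, t, h4, ?_, ?_, ?_, h6, h7, fun x => h8 x trivial⟩⟩⟩
  · rw [← h1, finrank_top, finrank_fintype_fun_eq_card]
  · intro i h
    exact (h5 i).t1 (by rw [h, h2])
  · intro i
    have h9 := (h5 i).pol
    rw [h4, mul_one] at h9
    exact h9
  · intro i
    exact (h5 i).sq

/-- the sum of two elements in the same class modulo `℘(F)` -/
theorem artin_sum [Finite F] (h2 : (2 : F) = 0) {a b : F}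
    (h : (∃ y : F, y ^ 2 + y = a) ↔ (∃ y : F, y ^ 2 + y = b)) : ∃ y : F, y ^ 2 + y = a + b := by
  let φ : F →+ F :=
    { toFun := fun y => y ^ 2 + y
      map_zero' := by ring
      map_add' := fun x y => by linear_combination (x * y) * h2 }
  have hφ : ∀ y, φ y = y ^ 2 + y := fun _ => rfl
  have hk : Nat.card φ.ker = 2 := by
    rw [Nat.card_eq_two_iff]
    refine ⟨⟨0, φ.ker.zero_mem⟩, ⟨1, ?_⟩, ?_, ?_⟩
    · rw [AddMonoidHom.mem_ker, hφ, ← h2]; norm_num
    · intro h'
      exact zero_ne_one (congrArg Subtype.val h')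
    · rw [Set.eq_univ_iff_forall]
      rintro ⟨y, hy⟩
      rw [AddMonoidHom.mem_ker, hφ] at hy
      have h3 : y * (y + 1) = 0 := by linear_combination hy
      rcases mul_eq_zero.1 h3 with h4 | h4
      · left; exact Subtype.ext h4
      · right
        refine Subtype.ext ?_
        change y = 1
        linear_combination h4 - h2
  have h3 := φ.ker.card_mul_index
  have h4 := φ.range.card_mul_index
  rw [AddSubgroup.index_ker, hk, ← h4, mul_comm] at h3
  have h5 : φ.range.index = 2 := (Nat.eq_of_mul_eq_mul_left Nat.card_pos h3).symm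
  exact (AddSubgroup.add_mem_iff_of_index_two h5).2 h

/-- the quadratic factor -/
theorem Fr.poly_dvd {V : Type*} [AddCommGroup V] [Module F V] {Q : QuadraticForm F V} (h2 : (2 : F) = 0)
    {g : V ≃ₗ[F] V} (hgO : g ∈ O Q) {m : ℕ} (f : Fr Q g m) {p : ℕ} (hg : g ^ p = 1) (i : Fin m) :
    (X ^ 2 - C (f.t i) * X + 1 : F[X]) ∣ X ^ p - 1 := by
  obtain ⟨P, hP⟩ : ∃ P : F[X], P = X ^ 2 - C (f.t i) * X + 1 := ⟨_, rfl⟩
  rw [← hP]
  have hdeg : (X ^ 2 + (- C (f.t i) * X + 1) : F[X]).natDegree = 2 := by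
    compute_degree!
  have hPd : P.natDegree = 2 := by
    have h3 : P = X ^ 2 + (- C (f.t i) * X + 1) := by rw [hP]; ring
    rw [h3, hdeg]
  have hPm : P.Monic := by
    have h3 : P = X ^ 2 + (- C (f.t i) * X + C 1) := by rw [hP, C_1]; ring
    rw [h3]
    monicity!
  have hP1 : P ≠ 1 := by
    intro h
    rw [h, natDegree_one] at hPd
    exact absurd hPd (by norm_num)
  rw [← modByMonic_eq_zero_iff_dvd hPm]
  have hlt := natDegree_modByMonic_lt (X ^ p - 1 : F[X]) hPm hP1
  obtain ⟨a, b, hab⟩ := exists_eq_X_add_C_of_natDegree_le_one (p := (X ^ p - 1 : F[X]) %ₘ P) (by omega)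
  let γ : Module.End F V := (g : V →ₗ[F] V)
  have hγ : ∀ x, γ x = g x := fun _ => rfl
  have hγp : ∀ n x, (γ ^ n) x = (g ^ n) x := by
    intro n
    induction n with
    | zero => intro x; rfl
    | succ n ih => intro x; rw [pow_succ', pow_succ']; change γ ((γ ^ n) x) = g ((g ^ n) x); rw [ih, hγ]
  have hPv : aeval γ P (f.v i) = 0 := by
    rw [hP, map_add, map_sub, map_pow, map_mul, aeval_X, aeval_C, map_one]
    change (γ ^ 2) (f.v i) - f.t i • (γ (f.v i)) + f.v i = 0
    rw [hγp, pow_two]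
    change g (g (f.v i)) - f.t i • g (f.v i) + f.v i = 0
    rw [f.eg]; abel
  have hXv : aeval γ (X ^ p - 1 : F[X]) (f.v i) = 0 := by
    rw [map_sub, map_pow, aeval_X, map_one]
    change (γ ^ p) (f.v i) - f.v i = 0
    rw [hγp, hg]
    exact sub_self _
  have hRv : aeval γ ((X ^ p - 1 : F[X]) %ₘ P) (f.v i) = 0 := by
    have h3 := modByMonic_add_div (X ^ p - 1 : F[X]) P
    rw [← h3, mul_comm P, map_add, map_mul] at hXv
    change aeval γ ((X ^ p - 1 : F[X]) %ₘ P) (f.v i) + aeval γ ((X ^ p - 1 : F[X]) /ₘ P) (aeval γ P (f.v i)) = 0 at hXv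
    rw [hPv, map_zero, add_zero] at hXv
    exact hXv
  rw [hab, map_add, map_mul, aeval_C, aeval_C, aeval_X] at hRv
  have hRv : a • g (f.v i) + b • f.v i = 0 := hRv
  have ha : a = 0 := by
    have h3 := congrArg (polar Q (f.v i)) hRv
    rw [polar_add_right, polar_smul_right, polar_smul_right, f.pol, two_zero_polar h2, polar_zero_right, smul_zero,
      add_zero, smul_eq_mul] at h3
    exact (mul_eq_zero.1 h3).resolve_right (f.t0 i)
  have hb : b = 0 := by
    have h3 := congrArg (polar Q (g (f.v i))) hRv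
    rw [polar_add_right, polar_smul_right, polar_smul_right, f.pol', two_zero_polar h2, polar_zero_right, smul_zero,
      zero_add, smul_eq_mul] at h3
    exact (mul_eq_zero.1 h3).resolve_right (f.t0 i)
  rw [hab, ha, hb, C_0, zero_mul, add_zero]

theorem Fr.root_iff [Fintype F] {V : Type*} [AddCommGroup V] [Module F V] {Q : QuadraticForm F V} (h2 : (2 : F) = 0)
    {g : V ≃ₗ[F] V} (hgO : g ∈ O Q) {m : ℕ} (f : Fr Q g m) {p : ℕ} (hp : p.Prime) (hg : g ^ p = 1) (i : Fin m) :
    (∃ y : F, y ^ 2 + y = ((f.t i)⁻¹) ^ 2) ↔ p ∣ Fintype.card F - 1 := by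
  have hd := f.poly_dvd h2 hgO hg i
  have ht := f.t0 i
  have hroot : (∃ y : F, y ^ 2 + y = ((f.t i)⁻¹) ^ 2) ↔ ∃ ζ : F, ζ ^ 2 - f.t i * ζ + 1 = 0 := by
    constructor
    · rintro ⟨y, hy⟩
      refine ⟨f.t i * y, ?_⟩
      have h3 : (f.t i) ^ 2 * (y ^ 2 + y) = 1 := by
        rw [hy, ← mul_pow, mul_inv_cancel₀ ht, one_pow]
      linear_combination h3 + (1 - f.t i ^ 2 * y) * h2
    · rintro ⟨ζ, hζ⟩
      refine ⟨ζ * (f.t i)⁻¹, ?_⟩
      have h3 : ζ = ζ * (f.t i)⁻¹ * f.t i := by rw [mul_assoc, inv_mul_cancel₀ ht, mul_one]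
      have h4 : (ζ * (f.t i)⁻¹) ^ 2 + ζ * (f.t i)⁻¹ = (ζ ^ 2 + ζ * f.t i) * ((f.t i)⁻¹) ^ 2 := by
        have h5 : f.t i * ((f.t i)⁻¹) ^ 2 = (f.t i)⁻¹ := by
          rw [pow_two, ← mul_assoc, mul_inv_cancel₀ ht, one_mul]
        linear_combination (-ζ) * h5
      rw [h4]
      have h6 : ζ ^ 2 + ζ * f.t i = 1 := by linear_combination hζ + (ζ * f.t i - 1) * h2
      rw [h6, one_mul]
  rw [hroot]
  constructor
  · rintro ⟨ζ, hζ⟩
    have h3 : ζ ^ p = 1 := by
      obtain ⟨R, hR⟩ := hd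
      have h4 := congrArg (eval ζ) hR
      rw [eval_mul] at h4
      simp only [eval_sub, eval_pow, eval_X, eval_one, eval_add, eval_mul, eval_C] at h4
      rw [hζ, zero_mul, sub_eq_zero] at h4
      exact h4
    have h4 : ζ ≠ 0 := by
      rintro rfl
      rw [zero_pow hp.ne_zero] at h3
      exact zero_ne_one h3
    have h5 : ζ ≠ 1 := by
      rintro rfl
      apply ht
      linear_combination h2 - hζ
    haveI : Fact p.Prime := ⟨hp⟩
    have h6 : orderOf ζ = p := orderOf_eq_prime h3 h5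
    rw [← h6]
    exact orderOf_dvd_of_pow_eq_one (FiniteField.pow_card_sub_one_eq_one ζ h4)
  · intro hq
    have h1 : 1 < Fintype.card F := Fintype.one_lt_card
    have h3 : (X ^ 2 - C (f.t i) * X + 1 : F[X]) ∣ X ^ Fintype.card F - X := by
      have h4 : (X ^ p - 1 : F[X]) ∣ X ^ (Fintype.card F - 1) - 1 := by
        obtain ⟨c, hc⟩ := hq
        rw [hc, pow_mul]
        exact sub_one_dvd_pow_sub_one _ _
      have h5 : (X ^ Fintype.card F - X : F[X]) = (X ^ (Fintype.card F - 1) - 1) * X := by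
        rw [sub_mul, one_mul, ← pow_succ, Nat.sub_add_cancel h1.le]
      rw [h5]
      exact (hd.trans h4).mul_right _
    have h6 := (FiniteField.isSplittingField_sub F F).splits
    rw [Algebra.algebraMap_self, Polynomial.map_id] at h6
    have h7 := h6.of_dvd (FiniteField.X_pow_card_sub_X_ne_zero F h1) h3
    have hdeg : (X ^ 2 - C (f.t i) * X + 1 : F[X]).degree ≠ 0 := by
      have h8 : (X ^ 2 + (- C (f.t i) * X + 1) : F[X]).degree = 2 := by
        compute_degree!
      have h9 : (X ^ 2 - C (f.t i) * X + 1 : F[X]) = X ^ 2 + (- C (f.t i) * X + 1) := by ring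
      rw [h9, h8]
      decide
    obtain ⟨ζ, hζ⟩ := h7.exists_eval_eq_zero hdeg
    refine ⟨ζ, ?_⟩
    simpa only [eval_sub, eval_pow, eval_X, eval_one, eval_add, eval_mul, eval_C] using hζ

theorem Fr.artin [Fintype F] {V : Type*} [AddCommGroup V] [Module F V] {Q : QuadraticForm F V} (h2 : (2 : F) = 0)
    {g : V ≃ₗ[F] V} (hgO : g ∈ O Q) {m : ℕ} (f : Fr Q g m) {p : ℕ} (hp : p.Prime) (hg : g ^ p = 1) (i j : Fin m) :
    ∃ y : F, y ^ 2 + y = ((f.t i)⁻¹) ^ 2 + ((f.t j)⁻¹) ^ 2 :=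
  artin_sum h2 ((f.root_iff h2 hgO hp hg i).trans (f.root_iff h2 hgO hp hg j).symm)

open Subgroup in
/-- **`|C|` is even or `C` is solvable and `N(C)` is not solvable.** -/
theorem even_or [Fintype F] (h2 : (2 : F) = 0) {p : ℕ} (hp : p.Prime) (hp2 : p ≠ 2)
    (hq : p ∣ Fintype.card F ^ 2 - 1) (hQ : (polarBilin Q).Nondegenerate) (hcard : 10 ≤ Fintype.card ι)
    {g : Cfsg.isometryGroup F (⇑Q)} (hg : g ^ p = 1) (hfix : ∀ u, act g u = u → u = 0) :
    2 ∣ Nat.card ↥(E Q ⊓ centralizer ({isometryHom Q g} : Set ((ι → F) ≃ₗ[F] (ι → F))) :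
      Subgroup ((ι → F) ≃ₗ[F] (ι → F))) ∨
    (Group.IsSolvable ↥(E Q ⊓ centralizer ({isometryHom Q g} : Set ((ι → F) ≃ₗ[F] (ι → F))) :
      Subgroup ((ι → F) ≃ₗ[F] (ι → F))) ∧
    ¬ Group.IsSolvable ↥(E Q ⊓ normalizer ((E Q ⊓ centralizer ({isometryHom Q g} : Set ((ι → F) ≃ₗ[F] (ι → F))) :
      Subgroup ((ι → F) ≃ₗ[F] (ι → F))) : Set ((ι → F) ≃ₗ[F] (ι → F))) : Subgroup ((ι → F) ≃ₗ[F] (ι → F)))) := by
  obtain ⟨m, hm, ⟨f⟩⟩ := exists_fr h2 hp hp2 hq hQ hg hfix
  have hgO : isometryHom Q g ∈ O Q := by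
    rw [← isometryHom_range]; exact ⟨g, rfl⟩
  have hgp : (isometryHom Q g) ^ p = 1 := by rw [← map_pow, hg, map_one]
  have hG : Good Q := good_of_finite (nondeg_of_nondegenerate hQ) (by
    rw [finrank_fintype_fun_eq_card]; omega)
  haveI : Finite ((ι → F) ≃ₗ[F] (ι → F)) := Finite.of_injective (fun e => (e : (ι → F) → (ι → F)))
    (fun a b h => LinearEquiv.ext fun x => congrFun h x)
  by_cases hinj : Function.Injective f.t
  · rcases Nat.even_or_odd (Nat.card ↥(E Q ⊓ centralizer ({isometryHom Q g} : Set ((ι → F) ≃ₗ[F] (ι → F))) :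
      Subgroup ((ι → F) ≃ₗ[F] (ι → F)))) with h | h
    · exact Or.inl h.two_dvd
    · refine Or.inr ⟨?_, f.normalizer_not_solvable h2 hG hgO (by omega) hinj
        (f.artin h2 hgO hp hgp) h⟩
      refine Group.isSolvable_of_comm fun a b => Subtype.ext ?_
      exact f.cent_comm h2 hgO hinj (mem_centralizer_singleton_iff.1 a.2.2).symm
        (mem_centralizer_singleton_iff.1 b.2.2).symm
  · left
    simp only [Function.Injective, not_forall] at hinj
    obtain ⟨i, j, hij, hne⟩ := hinj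
    obtain ⟨s, hsE, hs2, hs1, hsg⟩ := exists_involution f h2 hgO hne hij
    have hsC : s ∈ E Q ⊓ centralizer ({isometryHom Q g} : Set ((ι → F) ≃ₗ[F] (ι → F))) :=
      ⟨hsE, mem_centralizer_singleton_iff.2 hsg.symm⟩
    have h3 : orderOf s = 2 := orderOf_eq_prime (by rw [pow_two]; exact hs2) hs1
    have h4 : orderOf (⟨s, hsC⟩ : ↥(E Q ⊓ centralizer ({isometryHom Q g} : Set ((ι → F) ≃ₗ[F] (ι → F))))) = 2 := by
      rw [← h3]; exact (orderOf_coe _).symm
    rw [← h4]
    exact _root_.orderOf_dvd_natCard _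

end Cfsg.Agent.H310.OC
end

-- part: H310/Car/Torus
section
/-!
# Carter subgroups (S3852): the torus argument (helper310)

* `solvable_of_inf_le` : `K` Carter, `C ⊴ N` both `K`-invariant, `K ∩ N ≤ C`, `C` solvable: `N` is solvable;
* `solvable_normalizer_cent` : `z` central in `K`, `C = C_S(z)` solvable: `N_S(C)` is solvable.
-/

set_option autoImplicit false

namespace Cfsg.Agent.H310.Car

open Cfsg Subgroup Pointwise Cfsg.Agent.Solvable.Carter Cfsg.Agent.H18.Carter Cfsg.Agent.H381.Car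

universe u

variable {G : Type u} [Group G] [Finite G]

/-- **The torus argument.** -/
theorem solvable_of_inf_le (hF : Fpf.{u}) (IH : ∀ (B : Type u) [Group B] [Finite B], Nat.card B < Nat.card G → CC B)
    {K C N : Subgroup G} (hK : IsCarter K) (hCN : C ≤ N) (hNC : N ≤ normalizer (C : Set G))
    (hKC : K ≤ normalizer (C : Set G)) (hKN : K ≤ normalizer (N : Set G)) (hinf : K ⊓ N ≤ C)
    (hC : Group.IsSolvable C) : Group.IsSolvable N := by
  set Y : Subgroup G := K ⊔ N with hY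
  have hKY : K ≤ Y := le_sup_left
  have hNY : N ≤ Y := le_sup_right
  have hCY : C ≤ Y := hCN.trans hNY
  have hYC : Y ≤ normalizer (C : Set G) := sup_le hKC hNC
  have hYN : Y ≤ normalizer (N : Set G) := sup_le hKN le_normalizer
  haveI hCn : (C.subgroupOf Y).Normal := normal_subgroupOf_of_le_normalizer hYC
  haveI hNn : (N.subgroupOf Y).Normal := normal_subgroupOf_of_le_normalizer hYN
  let f := QuotientGroup.mk' (C.subgroupOf Y)
  have hfs : Function.Surjective f := QuotientGroup.mk'_surjective _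
  have hKc : IsCarter ((K.subgroupOf Y).map f) := by
    refine IsCarter.map hfs ?_ (hK.subgroupOf hKY)
    intro H hH
    refine IH H ?_
    calc Nat.card H < Nat.card Y := by
          refine lt_of_le_of_ne (Nat.le_of_dvd Nat.card_pos (card_subgroup_dvd_card H)) fun h => hH ?_
          exact eq_top_of_card_eq H h
      _ ≤ Nat.card G := Nat.le_of_dvd Nat.card_pos (card_subgroup_dvd_card Y)
  set Kb := (K.subgroupOf Y).map f with hKb
  set Nb := (N.subgroupOf Y).map f with hNb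
  haveI hNbn : Nb.Normal := hNn.map f hfs
  have hinfb : Kb ⊓ Nb = ⊥ := by
    rw [eq_bot_iff]
    rintro z ⟨⟨k, hk, hkz⟩, ⟨n, hn, hnz⟩⟩
    rw [SetLike.mem_coe, mem_subgroupOf] at hk hn
    have h1 : k⁻¹ * n ∈ C.subgroupOf Y := by
      rw [← QuotientGroup.eq]
      exact hkz.trans hnz.symm
    rw [mem_subgroupOf] at h1
    have h2 : (k : G) ∈ N := by
      have h3 := N.mul_mem hn (N.inv_mem (hCN h1))
      simpa only [_root_.Subgroup.coe_mul, _root_.InvMemClass.coe_inv, _root_.mul_inv_rev, _root_.inv_inv, _root_.mul_inv_cancel_left] using h3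
    have h3 : (k : G) ∈ C := hinf ⟨hk, h2⟩
    rw [mem_bot, ← hkz]
    exact (QuotientGroup.eq_one_iff _).2 (mem_subgroupOf.2 h3)
  have hs : Group.IsSolvable Nb := by
    refine solvable_of_centralizer hF hKc.1 (_root_.Cfsg.Agent.H381.Car.le_normalizer_of_normal _ _) ?_
    intro n hn hc
    have h1 : n ∈ normalizer (Kb : Set _) := by
      rw [mem_normalizer_iff]
      intro x
      constructor
      · intro hx
        have h2 : n * x * n⁻¹ = x := by rw [← hc x hx, mul_inv_cancel_right]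
        rw [h2]; exact hx
      · intro hx
        have h2 := hc _ hx
        have h3 : x = n * x * n⁻¹ := by
          have h4 : n * x * n⁻¹ * n = n * (n * x * n⁻¹) := h2
          have h5 : n * x = n * (n * x * n⁻¹) := by rw [← h4]; group
          exact mul_left_cancel h5
        rw [h3]; exact hx
    rw [hKc.2] at h1
    have h2 : n ∈ Kb ⊓ Nb := ⟨h1, hn⟩
    rwa [hinfb, mem_bot] at h2
  -- `N → Nb` has kernel `C`
  let g : ↥N →* ↥Nb :=
    { toFun := fun x => ⟨f ⟨x, hNY x.2⟩, ⟨⟨x, hNY x.2⟩, mem_subgroupOf.2 x.2, rfl⟩⟩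
      map_one' := Subtype.ext (map_one f)
      map_mul' := fun a b => Subtype.ext (map_mul f ⟨a, hNY a.2⟩ ⟨b, hNY b.2⟩) }
  haveI := hC
  haveI := hs
  refine Group.isSolvable_of_ker_le_range (inclusion hCN) g ?_
  intro x hx
  have h1 : f ⟨x, hNY x.2⟩ = 1 := congrArg Subtype.val (MonoidHom.mem_ker.1 hx)
  have h2 : (x : G) ∈ C := by
    have h3 := (QuotientGroup.eq_one_iff (⟨x, hNY x.2⟩ : Y)).1 h1
    exact mem_subgroupOf.1 h3
  exact ⟨⟨x, h2⟩, rfl⟩

/-- `z` central in `K`, `C = C_S(z)` solvable: `N_S(C)` is solvable. -/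
theorem solvable_normalizer_cent (hF : Fpf.{u})
    (IH : ∀ (B : Type u) [Group B] [Finite B], Nat.card B < Nat.card G → CC B) {S K : Subgroup G} (hS : S.Normal)
    (hK : IsCarter K) {z : G} (hz : K ≤ centralizer ({z} : Set G))
    (hC : Group.IsSolvable ↥(S ⊓ centralizer ({z} : Set G))) :
    Group.IsSolvable ↥(S ⊓ normalizer ((S ⊓ centralizer ({z} : Set G) : Subgroup G) : Set G)) := by
  have h1 : K ≤ normalizer ((S ⊓ centralizer ({z} : Set G) : Subgroup G) : Set G) :=
    le_normalizer_inf (_root_.Cfsg.Agent.H381.Car.le_normalizer_of_normal _ _) (hz.trans le_normalizer)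
  refine solvable_of_inf_le hF IH hK (C := S ⊓ centralizer ({z} : Set G)) ?_ inf_le_right h1
    (le_normalizer_inf (_root_.Cfsg.Agent.H381.Car.le_normalizer_of_normal _ _) (h1.trans le_normalizer)) ?_ hC
  · exact le_inf inf_le_left le_normalizer
  · exact le_inf (inf_le_right.trans inf_le_left) (inf_le_left.trans hz)

end Cfsg.Agent.H310.Car
end

-- part: H310/Car/OCRow
section
/-!
# Centralisers of central elements of Carter subgroups in `PΩ`, `q` even (helper310, for S3852)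

`two_dvd` : `S ≃ PΩ(Q)`, `q` even, dimension at least 10, `z ∈ S` of odd prime order with `K ≤ C(z)`: `|C_S(z)|` is
even.  `two_dvd_plus`, `two_dvd_minus` : the rows.
-/

set_option autoImplicit false
set_option linter.unusedSectionVars false

namespace Cfsg.Agent.H310.OC

open Subgroup Cfsg.Agent.Solvable.Carter Cfsg.Agent.H18.Carter Cfsg.Agent.H381.Car Cfsg.Agent.H310.Car

universe u v

section Transport

variable {G : Type u} [Group G] {L : Type v} [Group L] {S : Subgroup G} {θ : ↥S →* L} {E : Subgroup L}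

theorem map_cent (hθ : Function.Injective θ) (hE : θ.range = E) {z : G} (hz : z ∈ S) :
    ((S ⊓ centralizer ({z} : Set G) : Subgroup G).subgroupOf S).map θ =
      E ⊓ centralizer ({θ ⟨z, hz⟩} : Set L) := by
  ext x
  constructor
  · rintro ⟨s, hs, rfl⟩
    refine ⟨hE ▸ ⟨s, rfl⟩, mem_centralizer_singleton_iff.2 ?_⟩
    have h1 := mem_centralizer_singleton_iff.1 (mem_subgroupOf.1 hs).2
    rw [← map_mul, ← map_mul]
    exact congrArg θ (Subtype.ext h1)
  · rintro ⟨hx, hc⟩
    rw [SetLike.mem_coe, ← hE] at hx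
    obtain ⟨s, rfl⟩ := hx
    refine ⟨s, mem_subgroupOf.2 ⟨s.2, mem_centralizer_singleton_iff.2 ?_⟩, rfl⟩
    have h1 := mem_centralizer_singleton_iff.1 hc
    rw [← map_mul, ← map_mul] at h1
    exact congrArg Subtype.val (hθ h1)

theorem card_map (hθ : Function.Injective θ) {A : Subgroup G} (hA : A ≤ S) :
    Nat.card ((A.subgroupOf S).map θ) = Nat.card A := by
  rw [card_map_of_injective hθ]
  exact Nat.card_congr (subgroupOfEquivOfLe hA).toEquiv

theorem solvable_map_iff (hθ : Function.Injective θ) {A : Subgroup G} (hA : A ≤ S) :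
    Group.IsSolvable ↥((A.subgroupOf S).map θ) ↔ Group.IsSolvable A := by
  have e1 := (A.subgroupOf S).equivMapOfInjective θ hθ
  have e2 := subgroupOfEquivOfLe hA
  have e := e1.symm.trans e2
  constructor
  · intro h
    exact Group.isSolvable_of_isSolvable_injective (f := e.symm.toMonoidHom) e.symm.injective
  · intro h
    exact Group.isSolvable_of_isSolvable_injective (f := e.toMonoidHom) e.injective

theorem map_normalizer_le (hθ : Function.Injective θ) (hE : θ.range = E) {A : Subgroup G} (hA : A ≤ S) :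
    E ⊓ normalizer (((A.subgroupOf S).map θ : Subgroup L) : Set L) ≤
      ((S ⊓ normalizer (A : Set G) : Subgroup G).subgroupOf S).map θ := by
  rintro x ⟨hx, hn⟩
  rw [SetLike.mem_coe, ← hE] at hx
  obtain ⟨s, rfl⟩ := hx
  refine ⟨s, mem_subgroupOf.2 ⟨s.2, ?_⟩, rfl⟩
  have hn : θ s ∈ normalizer (((A.subgroupOf S).map θ : Subgroup L) : Set L) := hn
  rw [mem_normalizer_iff] at hn
  have key : ∀ a : G, ∀ ha : a ∈ S, a ∈ A ↔ θ ⟨a, ha⟩ ∈ (A.subgroupOf S).map θ := by
    intro a ha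
    constructor
    · intro h; exact ⟨⟨a, ha⟩, mem_subgroupOf.2 h, rfl⟩
    · rintro ⟨b, hb, hab⟩
      have h1 := hθ hab
      have h2 : (b : G) = a := congrArg Subtype.val h1
      rw [← h2]; exact mem_subgroupOf.1 hb
  refine mem_normalizer_iff.2 fun a => ?_
  constructor
  · intro ha
    have h1 := (hn (θ ⟨a, hA ha⟩)).1 ((key a (hA ha)).1 ha)
    rw [← map_inv, ← map_mul, ← map_mul] at h1
    exact (key _ ((s * ⟨a, hA ha⟩ * s⁻¹ : S) :).2).2 h1
  · intro ha
    have haS : a ∈ S := by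
      have h1 : (s⁻¹ : G) * (s * a * (s : G)⁻¹) * s ∈ S := S.mul_mem (S.mul_mem (S.inv_mem s.2) (hA ha)) s.2
      have h2 : (s⁻¹ : G) * (s * a * (s : G)⁻¹) * s = a := by group
      rwa [h2] at h1
    refine (key a haS).2 ((hn _).2 ?_)
    rw [← map_inv, ← map_mul, ← map_mul]
    exact ((key _ ((s * ⟨a, haS⟩ * s⁻¹ : S) :).2).1 ha :)

/-- transport of the alternative of `even_or` -/
theorem two_dvd_of_alt [Finite G] [S.Normal] (hF : Fpf.{u})
    (IH : ∀ (B : Type u) [Group B] [Finite B], Nat.card B < Nat.card G → CC B) {K : Subgroup G} (hK : IsCarter K)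
    (hθ : Function.Injective θ) (hE : θ.range = E) {z : G} (hz : z ∈ S) (hzK : K ≤ centralizer ({z} : Set G))
    (h : 2 ∣ Nat.card ↥(E ⊓ centralizer ({θ ⟨z, hz⟩} : Set L) : Subgroup L) ∨
      (Group.IsSolvable ↥(E ⊓ centralizer ({θ ⟨z, hz⟩} : Set L) : Subgroup L) ∧
        ¬ Group.IsSolvable ↥(E ⊓ normalizer ((E ⊓ centralizer ({θ ⟨z, hz⟩} : Set L) : Subgroup L) : Set L) :
          Subgroup L))) :
    2 ∣ Nat.card ↥(S ⊓ centralizer ({z} : Set G)) := by
  have h1 := map_cent hθ hE hz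
  rcases h with h | ⟨h3, h4⟩
  · rw [← h1, card_map hθ inf_le_left] at h
    exact h
  · exfalso
    rw [← h1] at h3 h4
    rw [solvable_map_iff hθ inf_le_left] at h3
    have h5 := solvable_normalizer_cent hF IH (S := S) inferInstance hK hzK h3
    rw [← solvable_map_iff hθ inf_le_left] at h5
    apply h4
    haveI := h5
    exact Group.isSolvable_of_isSolvable_injective (f := inclusion (map_normalizer_le hθ hE inf_le_left))
      (inclusion_injective _)

end Transport

section Main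

open QuadraticMap Matrix Module
open Cfsg.Agent.ClassicalGeometry.Reflection Cfsg.Agent.ClassicalGeometry.OrthCharTwo
open Cfsg.Agent.H507.GmnOrth Cfsg.Agent.H507.GmnOrthRows
open Cfsg.Agent.LieClassical.OrthCore hiding polar_self'
open Cfsg.Agent.LieClassical.OrthTrans Cfsg.Agent.LieClassical.OrthFinite

variable {ι : Type} [Fintype ι] [DecidableEq ι] {F : Type} [Field F] {Q : QuadraticForm F (ι → F)}

/-- `Ω → PΩ` is injective in characteristic 2 -/
theorem mk_injective (h2 : (2 : F) = 0) (hQ : (polarBilin Q).Nondegenerate) (hn : 3 ≤ Fintype.card ι)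
    (hs : ∃ u : ι → F, u ≠ 0 ∧ Q u = 0) :
    Function.Injective (QuotientGroup.mk' (Subgroup.center (Cfsg.Omega F (⇑Q)))) := by
  rw [injective_iff_map_eq_one]
  intro x hx
  have h1 : x ∈ Subgroup.center (Cfsg.Omega F (⇑Q)) := (QuotientGroup.eq_one_iff x).1 hx
  apply Subtype.ext
  apply Subtype.ext
  apply Units.ext
  change (((x : Cfsg.isometryGroup F (⇑Q)) : Matrix.GeneralLinearGroup ι F) : Matrix ι ι F) = 1
  rcases (Cfsg.Agent.LieClassical.OrthCenter.mem_center_omega_iff hQ hn hs x).1 h1 with h3 | h3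
  · exact h3
  · rw [h3]
    ext i j
    have h4 : ∀ a : F, -a = a := fun a => by linear_combination (-a) * h2
    rw [Matrix.neg_apply, h4]

/-- **The centraliser has even order.** -/
theorem two_dvd {G : Type u} [Group G] [Finite G] {S : Subgroup G} [S.Normal] (hF : Fpf.{u}) (c : Ctx G S)
    [Fintype F] (h2 : (2 : F) = 0) (hQ : (polarBilin Q).Nondegenerate) (hcard : 10 ≤ Fintype.card ι)
    (e : S ≃* Cfsg.POmega F (⇑Q)) {K : Subgroup G} (hK : IsCarter K) {z : G} (hz : z ∈ S)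
    (hzK : K ≤ centralizer ({z} : Set G)) {p : ℕ} (hp : p.Prime) (hp2 : p ≠ 2) (ho : orderOf z = p) :
    2 ∣ Nat.card ↥(S ⊓ centralizer ({z} : Set G)) := by
  classical
  have hpF : (p : F) ≠ 0 := by
    obtain ⟨k, hk⟩ := hp.odd_of_ne_two hp2
    rw [hk]
    push_cast
    rw [h2, zero_mul, zero_add]
    exact one_ne_zero
  have hs : ∃ u : ι → F, u ≠ 0 ∧ Q u = 0 :=
    (good_of_finite (nondeg_of_nondegenerate hQ) (by rw [finrank_fintype_fun_eq_card]; omega)).sing
  have hmk := mk_injective h2 hQ (by omega) hs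
  let π : Cfsg.Omega F (⇑Q) ≃* Cfsg.POmega F (⇑Q) :=
    MulEquiv.ofBijective (QuotientGroup.mk' _) ⟨hmk, QuotientGroup.mk'_surjective _⟩
  let φ : S ≃* Cfsg.Omega F (⇑Q) := e.trans π.symm
  obtain ⟨x, hx⟩ : ∃ x, x = φ ⟨z, hz⟩ := ⟨_, rfl⟩
  have hzp : z ^ p = 1 := by rw [← ho]; exact pow_orderOf_eq_one z
  have hxp : x ^ p = 1 := by
    rw [hx, ← map_pow]
    have h3 : (⟨z, hz⟩ : S) ^ p = 1 := Subtype.ext hzp
    rw [h3, map_one]
  have hg : (x : Cfsg.isometryGroup F (⇑Q)) ^ p = 1 := by rw [← SubmonoidClass.coe_pow, hxp]; rfl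
  -- conjugate to a power: equal to the power
  have key : ∀ k : ℕ, (∃ h ∈ Cfsg.Omega F (⇑Q), h * (x : Cfsg.isometryGroup F (⇑Q)) * h⁻¹ = x ^ k) → k ≡ 1 [MOD p] := by
    rintro k ⟨h, hh, hc⟩
    have h3 : (⟨h, hh⟩ : Cfsg.Omega F (⇑Q)) * x * (⟨h, hh⟩ : Cfsg.Omega F (⇑Q))⁻¹ = x ^ k := Subtype.ext hc
    obtain ⟨s, hs⟩ := φ.surjective ⟨h, hh⟩
    rw [← hs, hx, ← map_inv, ← map_mul, ← map_mul, ← map_pow] at h3
    have h4 := congrArg Subtype.val (φ.injective h3)
    have h4 : (s : G) * z * (s : G)⁻¹ = z ^ k := h4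
    have h5 := c.eq_of_conj hK hzK (g := (s : G)) (by
      rw [h4]
      intro y hy
      have h6 := mem_centralizer_singleton_iff.1 (hzK hy)
      exact mem_centralizer_singleton_iff.2 (Commute.pow_right (show Commute y z from h6) k))
    rw [h4] at h5
    have h6 : z ^ k = z ^ 1 := by rw [h5, pow_one]
    rw [pow_eq_pow_iff_modEq, ho] at h6
    exact h6
  by_cases hq : p ∣ Fintype.card F ^ 2 - 1
  · by_cases hfix : ∃ u : ι → F, u ≠ 0 ∧ act (x : Cfsg.isometryGroup F (⇑Q)) u = u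
    · exfalso
      obtain ⟨h, hh, hc⟩ := real_omega hp hp2 hpF hq hQ (by omega) (Or.inr (by omega)) hg (Or.inl hfix)
      have h3 : (x : Cfsg.isometryGroup F (⇑Q))⁻¹ = (x : Cfsg.isometryGroup F (⇑Q)) ^ (p - 1) := by
        rw [inv_eq_iff_mul_eq_one, ← pow_succ', Nat.sub_add_cancel hp.one_le, hg]
      have h4 := key (p - 1) ⟨h, hh, by rw [hc, h3]⟩
      have hp1 := hp.two_le
      have h5 := (Nat.modEq_iff_dvd' (by omega : 1 ≤ p - 1)).1 h4.symm
      have h6 := Nat.le_of_dvd (by omega) h5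
      omega
    · push Not at hfix
      have hfix' : ∀ u, act (x : Cfsg.isometryGroup F (⇑Q)) u = u → u = 0 := by
        intro u hu
        by_contra h0
        exact hfix u h0 hu
      let θ : S →* ((ι → F) ≃ₗ[F] (ι → F)) :=
        (isometryHom Q).comp ((Cfsg.Omega F (⇑Q)).subtype.comp φ.toMonoidHom)
      have hθ : Function.Injective θ :=
        (isometryHom_injective Q).comp ((Subgroup.subtype_injective _).comp φ.injective)
      have hG : Good Q := good_of_finite (nondeg_of_nondegenerate hQ) (by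
        rw [finrank_fintype_fun_eq_card]; omega)
      have hE : θ.range = E Q := by
        rw [← hG.commutator_eq_E, ← map_Omega]
        ext y
        constructor
        · rintro ⟨s, rfl⟩
          exact ⟨(φ s : Cfsg.isometryGroup F (⇑Q)), (φ s).2, rfl⟩
        · rintro ⟨w, hw, rfl⟩
          obtain ⟨s, hs⟩ := φ.surjective ⟨w, hw⟩
          refine ⟨s, ?_⟩
          change isometryHom Q ((φ s : Cfsg.Omega F (⇑Q)) : Cfsg.isometryGroup F (⇑Q)) = _
          rw [hs]
      have hθz : θ ⟨z, hz⟩ = isometryHom Q (x : Cfsg.isometryGroup F (⇑Q)) := by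
        rw [hx]; rfl
      refine two_dvd_of_alt hF c.min hK hθ hE hz hzK ?_
      rw [hθz]
      exact even_or h2 hp hp2 hq hQ hcard hg hfix'
  · exfalso
    obtain ⟨h, hh⟩ := exists_conj_pow hQ hp hp2 hpF hg
    have h1 : h * h * (x : Cfsg.isometryGroup F (⇑Q)) * (h * h)⁻¹ =
        (x : Cfsg.isometryGroup F (⇑Q)) ^ (Fintype.card F ^ 2) := by
      calc h * h * (x : Cfsg.isometryGroup F (⇑Q)) * (h * h)⁻¹
          = h * (h * (x : Cfsg.isometryGroup F (⇑Q)) * h⁻¹) * h⁻¹ := by group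
        _ = _ := by rw [hh, ← conj_pow, hh, ← pow_mul, pow_two]
    have h3 := key _ ⟨h * h, sq_mem_omega hQ (by omega) (Or.inr (by omega)) h, h1⟩
    exact hq ((Nat.modEq_iff_dvd' (Nat.one_le_pow _ _ Fintype.card_pos)).1 h3.symm)

end Main

section Rows

open Cfsg.Agent.GenOrth Cfsg.Agent.LieClassical.OmegaReindex

variable {G : Type u} [Group G] [Finite G] {S : Subgroup G} [S.Normal]

/-- plus type -/
theorem two_dvd_plus (hF : Fpf.{u}) (c : Ctx G S) {F : Type} [Field F] [Fintype F] (h2 : (2 : F) = 0) {m : ℕ}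
    (hm : 5 ≤ m) (e : S ≃* Cfsg.POmega F (Cfsg.quadFormPlus m F)) {K : Subgroup G} (hK : IsCarter K) {z : G}
    (hz : z ∈ S) (hzK : K ≤ centralizer ({z} : Set G)) {p : ℕ} (hp : p.Prime) (hp2 : p ≠ 2) (ho : orderOf z = p) :
    2 ∣ Nat.card ↥(S ⊓ centralizer ({z} : Set G)) := by
  rw [← coe_quadPlus] at e
  refine two_dvd hF c h2 quadPlus_nondegenerate ?_ e hK hz hzK hp hp2 ho
  simp only [Fintype.card_sum, Fintype.card_fin]
  omega

/-- minus type -/
theorem two_dvd_minus (hF : Fpf.{u}) (c : Ctx G S) {F : Type} [Field F] [Fintype F] (h2 : (2 : F) = 0) {m : ℕ}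
    (hm : 5 ≤ m) {a b : F} (hab : ∀ z₁ z₂ : F, z₁ ^ 2 + a * z₁ * z₂ + b * z₂ ^ 2 = 0 → z₁ = 0 ∧ z₂ = 0)
    (e : S ≃* Cfsg.POmega F (Cfsg.quadFormMinus (m - 1) F a b)) {K : Subgroup G} (hK : IsCarter K) {z : G}
    (hz : z ∈ S) (hzK : K ≤ centralizer ({z} : Set G)) {p : ℕ} (hp : p.Prime) (hp2 : p ≠ 2) (ho : orderOf z = p) :
    2 ∣ Nat.card ↥(S ⊓ centralizer ({z} : Set G)) := by
  rw [← coe_quadMinus] at e
  refine two_dvd hF c h2 (quadMinus_nondegenerate hab) ?_ e hK hz hzK hp hp2 ho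
  simp only [Fintype.card_sum, Fintype.card_fin]
  omega

end Rows

end Cfsg.Agent.H310.OC
end
end

-- part: H18/Carter/NrLie
section
prune_inst 0x414002304000000000000051210201e028a0004b000080000c0800a400680ec000d820820bc2011020220000d003d0048100000100040000004000000011801800000000480088008020010000000000000000000000000000000000000000000000000000
set_option linter.all false
open scoped Cfsg.Agent.FastGrp

-- part: H64/Carter/SpE
section
/-!
# S3852, rows `PSp₂ₘ(q)`, `q = 3^odd`: from `PSp` to a group of semilinear isometries (helper64, task 5177 of helper18)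

* `exists_md` : `|G : S|` odd: a central extension of `G` by `⟨-1⟩` is a group of semilinear isometries;
* `exists_anti` : `|G : S|` even: every anti-isometry of `V` is induced by an element of `G`.
-/

set_option autoImplicit false
set_option linter.unusedSectionVars false
set_option linter.style.haveILetI false

namespace Cfsg.Agent.H64.CarterSp

open Cfsg Cfsg.Agent.H18.Carter
open Cfsg.Agent.ClassicalGeometry.SympBasic Cfsg.Agent.ClassicalGeometry.SympAutSemi
open Cfsg.Agent.ClassicalGeometry.SympGamma Cfsg.Agent.H458.B3Sp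

universe u

section semi

variable {F : Type*} [Field F] {m : ℕ}

theorem isSemi_one : IsSemi (1 : Equiv.Perm (Fin m ⊕ Fin m → F)) (RingEquiv.refl F) 1 :=
  ⟨fun _ _ => rfl, fun _ _ => rfl, fun _ _ => by rw [one_mul]; rfl⟩

theorem field_unique (hm : 1 ≤ m) {g : Equiv.Perm (Fin m ⊕ Fin m → F)} {φ ψ : F ≃+* F} {l k : F}
    (h1 : IsSemi g φ l) (h2 : IsSemi g ψ k) : φ = ψ := by
  have hv : (Pi.single (Sum.inl ⟨0, hm⟩) 1 : Fin m ⊕ Fin m → F) ≠ 0 := by
    intro h
    have := congrFun h (Sum.inl ⟨0, hm⟩)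
    simp at this
  have hgv : g (Pi.single (Sum.inl ⟨0, hm⟩) 1) ≠ 0 := fun h => hv (g.injective (h.trans (semi_zero h1).symm))
  ext a
  exact smul_left_injective F hgv ((h1.2.1 a _).symm.trans (h2.2.1 a _))

theorem mult_unique (hm : 1 ≤ m) {g : Equiv.Perm (Fin m ⊕ Fin m → F)} {φ ψ : F ≃+* F} {l k : F}
    (h1 : IsSemi g φ l) (h2 : IsSemi g ψ k) : l = k := by
  obtain rfl := field_unique hm h1 h2
  have h3 := (h1.2.2 (Pi.single (Sum.inr ⟨0, hm⟩) 1) (Pi.single (Sum.inl ⟨0, hm⟩) 1)).symm.trans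
    (h2.2.2 (Pi.single (Sum.inr ⟨0, hm⟩) 1) (Pi.single (Sum.inl ⟨0, hm⟩) 1))
  rw [sympForm_single_inr_left, Pi.single_eq_same, map_one, mul_one, mul_one] at h3
  exact h3

/-- the semisimilitudes with a square multiplier -/
def Qs (m : ℕ) (F : Type*) [Field F] : Subgroup (semiSim m F) where
  carrier := {g | ∃ (φ : F ≃+* F) (l : F), l ≠ 0 ∧ IsSquare l ∧ IsSemi g.1 φ l}
  mul_mem' := by
    rintro g h ⟨φ, l, hl, hs, hg⟩ ⟨ψ, k, hk, hs', hh⟩
    refine ⟨_, _, ?_, ?_, hg.mul hh⟩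
    · exact mul_ne_zero hl (by simpa using hk)
    · exact hs.mul (hs'.map φ)
  one_mem' := ⟨RingEquiv.refl F, 1, one_ne_zero, IsSquare.one, isSemi_one⟩
  inv_mem' := by
    rintro g ⟨φ, l, hl, hs, hg⟩
    refine ⟨_, _, ?_, ?_, hg.inv hl⟩
    · simpa using hl
    · exact (hs.inv).map φ.symm

theorem mul_mem_Qs [Finite F] {g h : semiSim m F} (hg : g ∉ Qs m F) (hh : h ∉ Qs m F) : g * h ∈ Qs m F := by
  obtain ⟨φ, l, hl, h1⟩ := g.2
  obtain ⟨ψ, k, hk, h2⟩ := h.2
  refine ⟨_, _, ?_, ?_, h1.mul h2⟩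
  · exact mul_ne_zero hl (by simpa using hk)
  · apply isSquare_mul
    · intro hs
      exact hg ⟨φ, l, hl, hs, h1⟩
    · intro hs
      apply hh
      refine ⟨ψ, k, hk, ?_, h2⟩
      have := hs.map φ.symm
      rwa [RingEquiv.symm_apply_apply] at this

theorem pow_notMem_Qs [Finite F] {g : semiSim m F} (hg : g ∉ Qs m F) {n : ℕ} (hn : Odd n) : g ^ n ∉ Qs m F := by
  obtain ⟨k, rfl⟩ := hn
  intro h
  have h1 : g * g ∈ Qs m F := mul_mem_Qs hg hg
  have h2 : (g * g) ^ k ∈ Qs m F := pow_mem h1 k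
  rw [pow_succ, pow_mul, pow_two] at h
  exact hg ((Subgroup.mul_mem_cancel_left _ h2).1 h)

/-- the semisimilitude of a symplectic matrix -/
def sr (A : Matrix.symplecticGroup (Fin m) F) : semiSim m F := ⟨rho m F A, _, _, one_ne_zero, isSemi_rho A⟩

theorem Psi_sr (A : Matrix.symplecticGroup (Fin m) F) :
    Psi m F (sr A) = MulAut.conj (QuotientGroup.mk A : PSp m F) := by
  ext x
  obtain ⟨B, rfl⟩ := QuotientGroup.mk_surjective x
  rw [MulAut.conj_apply, Psi_mk, ← QuotientGroup.mk_mul, ← QuotientGroup.mk_inv, ← QuotientGroup.mk_mul]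
  congr 1
  apply rho_injective
  rw [rho_conjHom, map_mul, map_mul, map_inv]
  rfl

/-- a semisimilitude inducing an inner automorphism -/
theorem semi_of_inn (hm : 1 ≤ m) {g : semiSim m F} {x : PSp m F} (h : Psi m F g = MulAut.conj x) :
    ∃ a : F, a ≠ 0 ∧ IsSemi g.1 (RingEquiv.refl F) (a * a) := by
  obtain ⟨A, rfl⟩ := QuotientGroup.mk_surjective x
  have h1 : Psi m F (g * (sr A)⁻¹) = 1 := by rw [map_mul, map_inv, Psi_sr, h, mul_inv_cancel]
  obtain ⟨a, ha⟩ := exists_scal_of_Psi_eq_one hm _ h1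
  refine ⟨a, a.ne_zero, ?_⟩
  have h2 : g.1 = scal m F a * rho m F A := by
    rw [← ha]
    show g.1 = g.1 * (rho m F A)⁻¹ * rho m F A
    rw [inv_mul_cancel_right]
  rw [h2]
  exact isSemi_congr ((isSemi_scal a).mul (isSemi_rho A)) rfl (by rw [map_one, mul_one])

theorem exists_Psi' [Finite F] (hm : 2 ≤ m) (h2 : (2 : F) ≠ 0) (x : MulAut (PSp m F)) :
    ∃ g : semiSim m F, Psi m F g = x :=
  Cfsg.Agent.ClassicalGeometry.SympAutExists.exists_semi hm x
    (Cfsg.Agent.ClassicalGeometry.SympAutRecog.recog_odd hm h2 x)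

end semi

section theta

variable {G : Type u} [Group G] (S : Subgroup G) [S.Normal] {F : Type} [Field F] {m : ℕ} (e : S ≃* PSp m F)

/-- the action of `G` on `S = PSp m F` -/
def theta : G →* MulAut (PSp m F) := (MulAut.congr e).toMonoidHom.comp MulAut.conjNormal

theorem theta_apply (g : G) : theta S e g = MulAut.congr e (MulAut.conjNormal g) := rfl

theorem theta_S (s : S) : theta S e (s : G) = MulAut.conj (e s) := by
  rw [theta_apply, MulAut.conjNormal_val]
  ext x
  show e (s * e.symm x * s⁻¹) = e s * x * (e s)⁻¹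
  rw [map_mul, map_mul, map_inv, e.apply_symm_apply]

theorem theta_inj (cen : Subgroup.centralizer (S : Set G) = ⊥) : Function.Injective (theta S e) := by
  rw [injective_iff_map_eq_one]
  intro g hg
  have h1 : MulAut.conjNormal (H := S) g = 1 := (MulAut.congr e).injective (hg.trans (map_one _).symm)
  rw [← Subgroup.mem_bot, ← cen, Subgroup.mem_centralizer_iff]
  intro s hs
  have h2 := congrArg (fun f : MulAut S => ((f ⟨s, hs⟩ : S) : G)) h1
  simp only [MulAut.conjNormal_apply, MulAut.one_apply] at h2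
  rw [mul_inv_eq_iff_eq_mul] at h2
  exact h2.symm

/-- an element of `G` inducing an inner automorphism lies in `S` -/
theorem mem_of_inn (cen : Subgroup.centralizer (S : Set G) = ⊥) {g : G}
    (h : theta S e g ∈ (MulAut.conj : PSp m F →* MulAut (PSp m F)).range) : g ∈ S := by
  obtain ⟨x, hx⟩ := h
  obtain ⟨s, rfl⟩ := e.surjective x
  rw [← theta_S] at hx
  rw [← theta_inj S e cen hx]
  exact s.2

variable (m F) in
/-- the pairs of an isometry and an element of `G` with the same action on `PSp` -/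
def Gam (Θ : G →* MulAut (PSp m F)) : Subgroup (semiSim m F × G) where
  carrier := {x | (∃ σ : F ≃+* F, IsSemi x.1.1 σ 1) ∧ Psi m F x.1 = Θ x.2}
  mul_mem' := by
    rintro x y ⟨⟨σ, h1⟩, h2⟩ ⟨⟨τ, h3⟩, h4⟩
    refine ⟨⟨_, isSemi_congr (h1.mul h3) rfl (by rw [map_one, one_mul])⟩, ?_⟩
    rw [Prod.fst_mul, Prod.snd_mul, map_mul, map_mul, h2, h4]
  one_mem' := ⟨⟨RingEquiv.refl F, isSemi_one⟩, by simp only [_root_.Prod.fst_one, _root_.map_one, _root_.Prod.snd_one]⟩
  inv_mem' := by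
    rintro x ⟨⟨σ, h1⟩, h2⟩
    refine ⟨⟨_, isSemi_congr (h1.inv one_ne_zero) rfl (by simp)⟩, ?_⟩
    rw [Prod.fst_inv, Prod.snd_inv, map_inv, map_inv, h2]

variable {Θ : G →* MulAut (PSp m F)}

/-- the field part -/
noncomputable def sg (hm : 1 ≤ m) (Θ : G →* MulAut (PSp m F)) : Gam F m Θ →* (F ≃+* F) where
  toFun x := x.2.1.choose
  map_one' := field_unique hm (1 : Gam F m Θ).2.1.choose_spec isSemi_one
  map_mul' x y := field_unique hm (x * y).2.1.choose_spec (x.2.1.choose_spec.mul y.2.1.choose_spec)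

theorem sg_spec (hm : 1 ≤ m) (x : Gam F m Θ) : IsSemi x.1.1.1 (sg hm Θ x) 1 := x.2.1.choose_spec

/-- the model -/
noncomputable def md (cen : Subgroup.centralizer (S : Set G) = ⊥) (hm : 1 ≤ m) :
    Md F (sympBilin m F) (Gam F m (theta S e)) where
  ρ := (semiSim m F).subtype.comp ((MonoidHom.fst _ _).comp (Gam F m (theta S e)).subtype)
  σ := sg hm (theta S e)
  inj := by
    rw [injective_iff_map_eq_one]
    intro x hx
    have h1 : x.1.1 = 1 := Subtype.ext hx
    have h2 := x.2.2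
    rw [h1, map_one] at h2
    have h3 : x.1.2 = 1 := theta_inj S e cen (h2.symm.trans (map_one _).symm)
    exact Subtype.ext (Prod.ext h1 h3)
  add g v w := (sg_spec hm g).1 v w
  smul g a v := (sg_spec hm g).2.1 a v
  form g v w := ((sg_spec hm g).2.2 v w).trans (one_mul _)
  sp x hx := by
    obtain ⟨A, hA⟩ := exists_rho_eq (m := m) x.toEquiv (fun u v => map_add x u v) (fun a v => map_smul x a v)
      (fun u v => hx u v)
    let s : S := e.symm (QuotientGroup.mk A)
    have hs : Psi m F (sr A) = theta S e (s : G) := by rw [theta_S, Psi_sr, e.apply_symm_apply]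
    refine ⟨⟨(sr A, (s : G)), ⟨RingEquiv.refl F, isSemi_rho A⟩, hs⟩, ?_, ?_⟩
    · exact field_unique hm (sg_spec hm _) (isSemi_rho A)
    · intro v
      show rho m F A v = x v
      rw [hA]
      rfl

theorem md_ρ (cen : Subgroup.centralizer (S : Set G) = ⊥) (hm : 1 ≤ m) (x : Gam F m (theta S e)) (v : Fin m ⊕ Fin m → F) :
    (md S e cen hm).ρ x v = x.1.1.1 v := rfl

end theta

theorem two_ne {F : Type} [Field F] [Fintype F] {f : ℕ} (hF : Fintype.card F = 3 ^ (2 * f + 1)) : (2 : F) ≠ 0 := by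
  have : Fact (Nat.Prime 3) := ⟨Nat.prime_three⟩
  have hc : CharP F 3 := by
    obtain ⟨q, hq⟩ := CharP.exists F
    obtain ⟨n, hqp, hn⟩ := FiniteField.card F q
    have h1 : q ∣ 3 ^ (2 * f + 1) := by
      rw [← hF, hn]
      exact dvd_pow_self q n.pos.ne'
    have h2 : q = 3 := (Nat.prime_dvd_prime_iff_eq hqp Nat.prime_three).1 (hqp.dvd_of_dvd_pow h1)
    rwa [← h2]
  intro h
  have h1 : ((2 : ℕ) : F) = 0 := by exact_mod_cast h
  rw [CharP.cast_eq_zero_iff F 3] at h1
  omega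

/-- `-1` is not a square -/
theorem not_square_neg_one {F : Type} [Field F] [Fintype F] {f : ℕ} (hF : Fintype.card F = 3 ^ (2 * f + 1)) : ¬ IsSquare (-1 : F) := by
  rw [FiniteField.isSquare_neg_one_iff]
  push Not
  rw [hF, pow_succ, pow_mul, Nat.mul_mod, Nat.pow_mod]
  simp

section main

variable {G : Type u} [Group G] [Finite G] (S : Subgroup G) [S.Normal] (cen : Subgroup.centralizer (S : Set G) = ⊥)
  {F : Type} [Field F] [Fintype F] {f m : ℕ} (hF : Fintype.card F = 3 ^ (2 * f + 1)) (hm : 2 ≤ m)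
  (e : S ≃* Cfsg.PSp m F)

include cen hF hm e

/-- an element of `G` is induced by an isometry if `|G : S|` is odd -/
theorem exists_iso (hi : ¬ 2 ∣ S.index) (g : G) : ∃ (h : semiSim m F) (σ : F ≃+* F), IsSemi h.1 σ 1 ∧
    Psi m F h = theta S e g := by
  have hm1 : 1 ≤ m := by omega
  obtain ⟨h0, hh0⟩ := exists_Psi' hm (two_ne hF) (theta S e g)
  by_cases hq : h0 ∈ Qs m F
  · obtain ⟨φ, l, hl, ⟨c, rfl⟩, hs⟩ := hq
    have hc : c ≠ 0 := by
      rintro rfl
      exact hl (mul_zero _)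
    let a : Fˣ := (Units.mk0 c hc)⁻¹
    have ha : (a : F) * c = 1 := by
      change (((Units.mk0 c hc)⁻¹ : Fˣ) : F) * c = 1
      rw [Units.val_inv_eq_inv_val, Units.val_mk0, inv_mul_cancel₀ hc]
    refine ⟨⟨scal m F a, mem_scal a⟩ * h0, φ, ?_, ?_⟩
    · refine isSemi_congr ((isSemi_scal (m := m) a).mul hs) rfl ?_
      rw [RingEquiv.refl_apply]
      calc (a : F) * a * (c * c) = ((a : F) * c) * (a * c) := by ring
        _ = 1 := by rw [ha, mul_one]
    · rw [map_mul, Psi_scal, one_mul, hh0]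
  · exfalso
    let n := orderOf (QuotientGroup.mk (s := S) g)
    have hn : Odd n := by
      rw [← Nat.not_even_iff_odd, even_iff_two_dvd]
      intro h2
      exact hi (h2.trans (orderOf_dvd_natCard _))
    have hgn : g ^ n ∈ S := by
      rw [← QuotientGroup.eq_one_iff, QuotientGroup.mk_pow]
      exact pow_orderOf_eq_one _
    have h1 : Psi m F (h0 ^ n) = MulAut.conj (e ⟨g ^ n, hgn⟩) := by
      rw [map_pow, hh0, ← map_pow, ← theta_S]
    obtain ⟨a, ha, hs⟩ := semi_of_inn hm1 h1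
    exact pow_notMem_Qs hq hn ⟨_, _, mul_ne_zero ha ha, ⟨a, rfl⟩, hs⟩

/-- **Odd index.** -/
theorem exists_md (hi : ¬ 2 ∣ S.index) :
    ∃ (V : Type) (_ : AddCommGroup V) (_ : Module F V) (_ : FiniteDimensional F V) (B : V →ₗ[F] V →ₗ[F] F)
      (_ : Alt F B) (Γ : Type u) (_ : Group Γ) (_ : Finite Γ) (T : Md F B Γ) (π : Γ →* G),
      Module.finrank F V = 2 * m ∧ Function.Surjective π ∧ (∀ g, π g = 1 ↔ g = 1 ∨ g = T.eps) ∧
      T.L.map π = S := by
  have hm1 : 1 ≤ m := by omega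
  refine ⟨Fin m ⊕ Fin m → F, inferInstance, inferInstance, inferInstance, sympBilin m F,
    ⟨fun v => sympForm_self v, fun v hv => eq_zero_of_forall_sympForm_right hv⟩, Gam F m (theta S e), inferInstance,
    inferInstance, md S e cen hm1, (MonoidHom.snd _ _).comp (Gam F m (theta S e)).subtype, ?_, ?_, ?_, ?_⟩
  · rw [Module.finrank_fintype_fun_eq_card, Fintype.card_sum, Fintype.card_fin, two_mul]
  · intro g
    obtain ⟨h, σ, h1, h2⟩ := exists_iso S cen hF hm e hi g
    exact ⟨⟨(h, g), ⟨σ, h1⟩, h2⟩, rfl⟩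
  · intro x
    constructor
    · intro hx
      have h1 : x.1.2 = 1 := hx
      have h2 := x.2.2
      rw [h1, map_one] at h2
      obtain ⟨a, ha⟩ := exists_scal_of_Psi_eq_one hm1 _ h2
      obtain ⟨σ, hσ⟩ := x.2.1
      rw [ha] at hσ
      have h3 : (a : F) * a = 1 := mult_unique hm1 (isSemi_scal a) hσ
      rcases mul_self_eq_one_iff.1 h3 with h4 | h4
      · left
        apply (md S e cen hm1).ext
        intro v
        rw [md_ρ, md_ρ, ha, scal_apply, h4, one_smul]
        rfl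
      · right
        apply (md S e cen hm1).ext
        intro v
        rw [Md.eps_apply, md_ρ, ha, scal_apply, h4, neg_smul, one_smul]
    · rintro (rfl | rfl)
      · exact map_one _
      · set ε := (md S e cen hm1).eps with hε
        have h1 : ε.1.1.1 = scal m F (-1) := by
          ext1 v
          have h2 := (md S e cen hm1).eps_apply v
          rw [← hε, md_ρ] at h2
          rw [h2, scal_apply, Units.val_neg, Units.val_one, neg_smul, one_smul]
        have h2 : ε.1.1 = ⟨scal m F (-1), mem_scal (-1)⟩ := Subtype.ext h1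
        have h3 := ε.2.2
        rw [h2, Psi_scal] at h3
        exact theta_inj S e cen (h3.symm.trans (map_one _).symm)
  · ext g
    constructor
    · rintro ⟨x, hx, rfl⟩
      have h1 : IsSemi x.1.1.1 (RingEquiv.refl F) 1 := by
        have h2 := sg_spec hm1 x
        have h3 : sg hm1 (theta S e) x = 1 := (md S e cen hm1).mem_L.1 hx
        rw [h3] at h2
        exact h2
      apply mem_of_inn S e cen
      have h4 := mem_inn_one h1
      rw [x.2.2] at h4
      exact h4
    · intro hg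
      obtain ⟨A, hA⟩ := QuotientGroup.mk_surjective (e ⟨g, hg⟩)
      have hs : Psi m F (sr A) = theta S e g := by
        have := theta_S S e ⟨g, hg⟩
        rw [this, ← hA, Psi_sr]
      refine ⟨⟨(sr A, g), ⟨RingEquiv.refl F, isSemi_rho A⟩, hs⟩, ?_, rfl⟩
      rw [SetLike.mem_coe, Md.mem_L]
      exact field_unique hm1 (sg_spec hm1 _) (isSemi_rho A)

/-- **Even index.** -/
theorem exists_anti (hi : 2 ∣ S.index) (h : semiSim m F) (hh : IsSemi h.1 (RingEquiv.refl F) (-1)) :
    ∃ g : G, MulAut.congr e (MulAut.conjNormal g) = Psi m F h := by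
  have hm1 : 1 ≤ m := by omega
  have : Fact (Nat.Prime 2) := ⟨Nat.prime_two⟩
  have : Fact (Nat.Prime 3) := ⟨Nat.prime_three⟩
  obtain ⟨x, hx⟩ := exists_prime_orderOf_dvd_card' (G := G ⧸ S) 2 hi
  obtain ⟨g1, rfl⟩ := QuotientGroup.mk_surjective x
  have hg1 : g1 ∉ S := by
    intro h
    rw [← QuotientGroup.eq_one_iff] at h
    rw [h, orderOf_one] at hx
    omega
  have hg2 : g1 ^ 2 ∈ S := by
    rw [← QuotientGroup.eq_one_iff, QuotientGroup.mk_pow, ← hx]
    exact pow_orderOf_eq_one _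
  obtain ⟨h1, hh1⟩ := exists_Psi' hm (two_ne hF) (theta S e g1)
  obtain ⟨φ, l, hl, hs⟩ := h1.2
  have h2 : Psi m F (h1 ^ 2) = MulAut.conj (e ⟨g1 ^ 2, hg2⟩) := by
    rw [map_pow, hh1, ← map_pow, ← theta_S]
  obtain ⟨a, ha, hs2⟩ := semi_of_inn hm1 h2
  have hφ : φ = 1 := by
    have h3 : φ.trans φ = RingEquiv.refl F := by
      refine field_unique hm1 (hs.mul hs) (l := _) (k := a * a) ?_
      have : (h1 ^ 2 : semiSim m F).1 = h1.1 * h1.1 := by rw [pow_two]; rfl
      rw [← this]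
      exact hs2
    have h4 : φ ^ 2 = 1 := by rw [pow_two]; exact h3
    have hcard : Nat.card (F ≃+* F) = 2 * f + 1 := Cfsg.Agent.Lib.FieldAutCard.card_ringAut (by omega) hF
    have h5 : φ ^ (2 * f + 1) = 1 := by rw [← hcard]; exact pow_card_eq_one'
    rw [pow_succ, pow_mul, h4, one_pow, one_mul] at h5
    exact h5
  subst hφ
  have hnl : ¬ IsSquare l := fun hsq => hg1 (mem_of_inn S e cen (by rw [← hh1]; exact mem_inn hl hsq hs))
  have hinn : Psi m F (h * h1⁻¹) ∈ (MulAut.conj : PSp m F →* MulAut (PSp m F)).range := by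
    refine mem_inn (l := (-1) * l⁻¹) (mul_ne_zero (neg_ne_zero.2 one_ne_zero) (inv_ne_zero hl)) ?_ ?_
    · refine isSquare_mul (not_square_neg_one hF) ?_
      intro hsq
      apply hnl
      have := hsq.inv
      rwa [inv_inv] at this
    · exact isSemi_congr (hh.mul (hs.inv hl)) rfl rfl
  obtain ⟨y, hy⟩ := hinn
  obtain ⟨s, rfl⟩ := e.surjective y
  refine ⟨s * g1, ?_⟩
  change theta S e (s * g1) = _
  rw [map_mul, theta_S, hy, ← hh1, ← map_mul, inv_mul_cancel_right]

end main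

end Cfsg.Agent.H64.CarterSp
end

-- part: H18/Carter/SpRow
section
/-!
# S3852, rows `PSp₂ₙ(q)`, `q` odd
-/

set_option autoImplicit false
set_option linter.unusedSectionVars false
set_option linter.unusedVariables false
set_option linter.style.haveILetI false

namespace Cfsg.Agent.H18.Carter

open Subgroup Pointwise Module Cfsg
open Cfsg.Agent.Solvable.Carter
open Cfsg.Agent.H18.Carter.Uni Cfsg.Agent.H721.FR
open Cfsg.Agent.ClassicalGeometry.SympBasic Cfsg.Agent.ClassicalGeometry.SympAutSemi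

universe u

section

variable {F : Type} [Field F] {m : ℕ}

/-- symplectic matrices as linear automorphisms -/
def spLin (m : ℕ) (F : Type) [Field F] :
    Matrix.symplecticGroup (Fin m) F →* ((Fin m ⊕ Fin m → F) ≃ₗ[F] (Fin m ⊕ Fin m → F)) where
  toFun A :=
    { rho m F A with
      map_add' := (isSemi_rho A).1
      map_smul' := (isSemi_rho A).2.1 }
  map_one' := LinearEquiv.ext fun v => by
    show rho m F 1 v = v
    rw [map_one]; rfl
  map_mul' A A' := LinearEquiv.ext fun v => by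
    show rho m F (A * A') v = rho m F A (rho m F A' v)
    rw [map_mul]; rfl

theorem spLin_apply (A : Matrix.symplecticGroup (Fin m) F) (v : Fin m ⊕ Fin m → F) : spLin m F A v = rho m F A v := rfl

theorem spLin_injective : Function.Injective (spLin m F) := by
  intro A A' h
  apply rho_injective
  ext1 v
  exact LinearEquiv.congr_fun h v

theorem spLin_isom (A : Matrix.symplecticGroup (Fin m) F) : spLin m F A ∈ Isom (sympBilin m F) :=
  mem_isom.2 fun x y => sympForm_rho A x y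

theorem exists_spLin {h : (Fin m ⊕ Fin m → F) ≃ₗ[F] (Fin m ⊕ Fin m → F)} (hh : h ∈ Isom (sympBilin m F)) :
    ∃ A, spLin m F A = h := by
  obtain ⟨A, hA⟩ := exists_rho_eq (h.toEquiv) (fun u v => map_add h u v) (fun a v => map_smul h a v)
    (fun u v => mem_isom.1 hh u v)
  exact ⟨A, LinearEquiv.ext fun v => by rw [spLin_apply, hA]; rfl⟩

/-- lifting elements of odd order -/
theorem exists_lift_sp {r : ℕ} (hr : r.Prime) (hr2 : r ≠ 2) {z : PSp m F} (hz : z ^ r = 1) :
    ∃ A : Matrix.symplecticGroup (Fin m) F, QuotientGroup.mk' (center (Matrix.symplecticGroup (Fin m) F)) A = z ∧ A ^ r = 1 := by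
  refine Cfsg.Agent.H507.GmnLinA.exists_lift (QuotientGroup.mk' _) (QuotientGroup.mk'_surjective _) (m := 2) (p := r) ?_
    ((Nat.coprime_primes Nat.prime_two hr).2 hr2.symm) hr.one_lt hz
  intro x hx
  have h1 : x ∈ Subgroup.center (Matrix.symplecticGroup (Fin m) F) := (QuotientGroup.eq_one_iff x).1 hx
  obtain ⟨a, ha⟩ := (Cfsg.Agent.LieClassical.SympCenter.mem_center_iff m x).1 h1
  apply Subtype.ext
  change ((x ^ 2 : Matrix.symplecticGroup (Fin m) F) : Matrix (Fin m ⊕ Fin m) (Fin m ⊕ Fin m) F) = 1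
  rcases Nat.eq_zero_or_pos m with rfl | hm
  · ext i
    rcases i with i | i <;> exact i.elim0
  · have ha2 : a * a = 1 := Cfsg.Agent.LieClassical.SympCenter.sq_eq_one_of_smul_mem hm (ha ▸ x.2)
    have ha' : (x : Matrix (Fin m ⊕ Fin m) (Fin m ⊕ Fin m) F) = a • 1 := ha
    rw [SubmonoidClass.coe_pow, ha', _root_.smul_pow, one_pow, pow_two, ha2, one_smul]

theorem sp_skew (x y : Fin m ⊕ Fin m → F) : sympBilin m F x y = (-1) * sympBilin m F y x := by
  rw [neg_one_mul]
  exact sympForm_swap x y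

theorem sp_nd (x : Fin m ⊕ Fin m → F) (h : ∀ y, sympBilin m F x y = 0) : x = 0 := eq_zero_of_forall_sympForm_right h

variable [Fintype F]

/-- **T1** -/
theorem psp_four {p : ℕ} (hp : p.Prime) (hp2 : p ≠ 2) (hpF : (p : F) = 0) {z : PSp m F} (hz : z ^ p = 1) :
    ∃ g : PSp m F, g * z * g⁻¹ = z ^ 4 := by
  obtain ⟨A, rfl, hA⟩ := exists_lift_sp hp hp2 hz
  have hrc : ringChar F = p := by
    have h1 : ringChar F ∣ p := (ringChar.spec F p).1 hpF
    have hne : ringChar F ≠ 1 := by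
      intro h
      have := (ringChar.spec F 1).2 (by rw [h])
      exact one_ne_zero (by exact_mod_cast this)
    rcases (Nat.dvd_prime hp).1 h1 with h | h
    · exact absurd h hne
    · exact h
  have h2 : (2 : F) ≠ 0 := by
    intro h
    have h1 : ringChar F ∣ 2 := (ringChar.spec F 2).1 (by exact_mod_cast h)
    rw [hrc] at h1
    exact hp2 ((Nat.prime_dvd_prime_iff_eq hp Nat.prime_two).1 h1)
  obtain ⟨h, hh, he⟩ := conj_four (B := sympBilin m F) (c := spLin m F A) (ε := -1) h2 (by ring) sp_skew sp_nd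
    (spLin_isom A) ⟨1, by rw [hrc, pow_one, ← map_pow, hA, map_one]⟩
  obtain ⟨g, rfl⟩ := exists_spLin hh
  rw [← map_inv, ← map_mul, ← map_mul, ← map_pow] at he
  have he' := spLin_injective he
  exact ⟨QuotientGroup.mk' _ g, by rw [← map_inv, ← map_mul, ← map_mul, he', map_pow]⟩

/-- **T2a** -/
theorem psp_three (h3 : (3 : F) = 0) (hsq : IsSquare (-1 : F)) {z : PSp m F} (hz : z ^ 3 = 1) :
    ∃ g : PSp m F, g * z * g⁻¹ = z⁻¹ := by
  obtain ⟨A, rfl, hA⟩ := exists_lift_sp Nat.prime_three (by norm_num) hz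
  obtain ⟨h, hh, he⟩ := real_of_even (B := sympBilin m F) (c := spLin m F A) h3 (fun x => sympForm_self x) sp_nd
    (spLin_isom A) (by rw [← map_pow, hA, map_one]) (Or.inr hsq)
  obtain ⟨g, rfl⟩ := exists_spLin hh
  rw [← map_inv, ← map_mul, ← map_mul, ← map_inv] at he
  have he' := spLin_injective he
  exact ⟨QuotientGroup.mk' _ g, by rw [← map_inv, ← map_mul, ← map_mul, he', map_inv]⟩

/-- **T2b** -/
theorem psp_anti (h3 : (3 : F) = 0) {z : PSp m F} (hz : z ^ 3 = 1) :
    ∃ h : semiSim m F, IsSemi h.1 (RingEquiv.refl F) (-1) ∧ Psi m F h z = z⁻¹ := by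
  obtain ⟨A, rfl, hA⟩ := exists_lift_sp Nat.prime_three (by norm_num) hz
  obtain ⟨h, hh, he⟩ := exists_anti_inv (B := sympBilin m F) (c := spLin m F A) h3 (fun x => sympForm_self x) sp_nd
    (spLin_isom A) (by rw [← map_pow, hA, map_one])
  have hs : IsSemi h.toEquiv (RingEquiv.refl F) (-1) := by
    refine ⟨fun u v => map_add h u v, fun a v => map_smul h a v, fun u v => ?_⟩
    have := hh u v
    rw [neg_one_mul]
    exact this
  refine ⟨⟨h.toEquiv, RingEquiv.refl F, -1, neg_ne_zero.2 one_ne_zero, hs⟩, hs, ?_⟩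
  set g : semiSim m F := ⟨h.toEquiv, RingEquiv.refl F, -1, neg_ne_zero.2 one_ne_zero, hs⟩ with hg
  have h1 : conjHom m F g A = A⁻¹ := by
    apply rho_injective
    rw [rho_conjHom]
    ext1 v
    have h4 := LinearEquiv.congr_fun he v
    rw [← map_inv, spLin_apply] at h4
    rw [← h4]
    rfl
  have h5 := Psi_mk g A
  rw [h1] at h5
  exact h5

/-- `PowConj` for `PSp`, `q` not an odd power of three -/
theorem psp_powConj (hodd : Odd (Fintype.card F)) (h : (3 : F) = 0 → IsSquare (-1 : F)) : PowConj (PSp m F) := by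
  intro z hz hz2
  have hzr := pow_orderOf_eq_one z
  by_cases hrF : ((orderOf z : ℕ) : F) = 0
  · by_cases h3 : orderOf z = 3
    · rw [h3] at hrF hzr
      obtain ⟨g, hg⟩ := psp_three (by exact_mod_cast hrF) (h (by exact_mod_cast hrF)) hzr
      exact ⟨g, by rw [hg]; exact ne_inv_of_odd hz hz2, by rw [hg]; exact inv_mem (mem_zpowers z)⟩
    · obtain ⟨g, hg⟩ := psp_four hz hz2 hrF hzr
      refine ⟨g, ?_, by rw [hg]; exact pow_mem (mem_zpowers z) 4⟩
      rw [hg]
      refine pow_ne_self hz (by norm_num) ?_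
      intro hd
      exact h3 ((Nat.prime_dvd_prime_iff_eq hz Nat.prime_three).1 hd)
  · obtain ⟨g, hg⟩ := Cfsg.Agent.H507.GmnSp.conj_inv hz hz2 hrF hzr
    exact ⟨g, by rw [hg]; exact ne_inv_of_odd hz hz2, by rw [hg]; exact inv_mem (mem_zpowers z)⟩

end

/-! ### the row -/

section

variable {G : Type u} [Group G] [Finite G] {S : Subgroup G} [S.Normal] {F : Type} [Field F] [Fintype F] {m f : ℕ}

/-- `q = 3^odd`, even index -/
theorem psp_real_even_index (c : Ctx G S) (hF : Fintype.card F = 3 ^ (2 * f + 1))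
    (h3 : (3 : F) = 0) (hm : 2 ≤ m) (e : S ≃* PSp m F) (hi : 2 ∣ S.index) :
    ∀ z ∈ S, (orderOf z).Prime → orderOf z ≠ 2 → ∃ g : G, g * z * g⁻¹ ≠ z ∧ g * z * g⁻¹ ∈ zpowers z := by
  intro z hz ho ho2
  set! y : S := ⟨z, hz⟩ with hy
  have hoy : orderOf (e y) = orderOf z := by
    rw [MulEquiv.orderOf_eq, hy, Subgroup.orderOf_mk]
  have hyr : (e y) ^ orderOf z = 1 := by rw [← hoy, pow_orderOf_eq_one]
  -- it is enough to find an element inverting `z`
  suffices h : ∃ g : G, g * z * g⁻¹ = z⁻¹ by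
    obtain ⟨g, hg⟩ := h
    exact ⟨g, by rw [hg]; exact ne_inv_of_odd ho ho2, by rw [hg]; exact inv_mem (mem_zpowers z)⟩
  by_cases hr3 : orderOf z = 3
  · rw [hr3] at hyr
    obtain ⟨h, hh, hP⟩ := psp_anti h3 hyr
    obtain ⟨g, hg⟩ := Cfsg.Agent.H64.CarterSp.exists_anti S c.cen hF hm e hi h hh
    refine ⟨g, ?_⟩
    have h1 : Psi m F h (e y) = e ((MulAut.conjNormal g) y) := by
      rw [← hg]
      show e ((MulAut.conjNormal g) (e.symm (e y))) = _
      rw [e.symm_apply_apply]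
    rw [hP, ← map_inv] at h1
    have h2 := congrArg Subtype.val (e.injective h1)
    exact h2.symm
  · have hrF : ((orderOf z : ℕ) : F) ≠ 0 := by
      intro h
      have h1 : ringChar F ∣ 3 := (ringChar.spec F 3).1 (by exact_mod_cast h3)
      have h2 : ringChar F ∣ orderOf z := (ringChar.spec F _).1 h
      have hne : ringChar F ≠ 1 := by
        intro h
        have := (ringChar.spec F 1).2 (by rw [h])
        exact one_ne_zero (by exact_mod_cast this)
      rcases (Nat.dvd_prime Nat.prime_three).1 h1 with h | h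
      · exact hne h
      · rw [h] at h2
        exact hr3 ((Nat.prime_dvd_prime_iff_eq Nat.prime_three ho).1 h2).symm
    obtain ⟨g, hg⟩ := Cfsg.Agent.H507.GmnSp.conj_inv ho ho2 hrF hyr
    refine ⟨((e.symm g : S) : G), ?_⟩
    have h1 : e.symm g * y * (e.symm g)⁻¹ = y⁻¹ := by
      apply e.injective
      rw [map_mul, map_mul, map_inv, map_inv, e.apply_symm_apply, hg]
    exact congrArg Subtype.val h1

/-- `q = 3^odd`, odd index -/
theorem psp_odd_index (hFp : Cfsg.Agent.H381.Car.Fpf.{u}) (c : Ctx G S) (hF : Fintype.card F = 3 ^ (2 * f + 1))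
    (hm : 2 ≤ m) (e : S ≃* PSp m F) (hi : ¬ 2 ∣ S.index) {K : Subgroup G} (hK : IsCarter K) : False := by
  obtain ⟨V, _, _, _, B, hB, Γ, _, _, T, π, hd, hπ, hker, hL⟩ := Cfsg.Agent.H64.CarterSp.exists_md S c.cen hF hm e hi
  have hkerle : π.ker ≤ center Γ := by
    intro g hg
    rcases (hker g).1 (MonoidHom.mem_ker.1 hg) with h | h
    · rw [h]; exact one_mem _
    · rw [h, mem_center_iff]; exact T.eps_comm
  -- the Carter subgroup of `Γ`
  have hK' : IsCarter (K.comap π) := by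
    refine ⟨?_, ?_⟩
    · have := hK.1
      refine Subgroup.isNilpotent_of_ker_le_center (π.subgroupComap K) ?_
      intro x hx
      rw [mem_center_iff]
      intro y
      have h1 : π x = 1 := congrArg Subtype.val (MonoidHom.mem_ker.1 hx)
      exact Subtype.ext (mem_center_iff.1 (hkerle (MonoidHom.mem_ker.2 h1)) y)
    · have h1 : (normalizer (K : Set G)).comap π = normalizer ((K.comap π : Subgroup Γ) : Set Γ) :=
        comap_normalizer_eq_of_surjective K hπ
      rw [← h1, hK.2]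
  have hKL : K.comap π ⊔ T.L = ⊤ := by
    have h1 : (K.comap π ⊔ T.L).map π = ⊤ := by
      rw [Subgroup.map_sup, map_comap_eq_self_of_surjective hπ, hL, c.prod K hK]
    rw [eq_top_iff]
    intro g _
    have h2 : π g ∈ (K.comap π ⊔ T.L).map π := by rw [h1]; trivial
    obtain ⟨y, hy, hyg⟩ := h2
    have h4 : y⁻¹ * g ∈ K.comap π := by
      rw [mem_comap, map_mul, map_inv, hyg, inv_mul_cancel]
      exact one_mem _
    have := mul_mem hy (mem_sup_left h4 : y⁻¹ * g ∈ K.comap π ⊔ T.L)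
    rwa [mul_inv_cancel_left] at this
  have sm : Sm2 Γ := by
    intro Y _ _ hY
    refine c.min Y ?_
    have h1 : Nat.card Γ = Nat.card (Γ ⧸ π.ker) * Nat.card π.ker := Subgroup.card_eq_card_quotient_mul_card_subgroup _
    have h2 : Nat.card (Γ ⧸ π.ker) = Nat.card G :=
      Nat.card_congr (QuotientGroup.quotientKerEquivOfSurjective π hπ).toEquiv
    have h4 : Nat.card π.ker ≤ 2 := by
      have h5 : Nat.card ↥({1, T.eps} : Set Γ) ≤ 2 := by
        rw [Nat.card_coe_set_eq]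
        refine (Set.ncard_insert_le _ _).trans ?_
        rw [Set.ncard_singleton]
      refine le_trans ?_ h5
      refine Nat.card_le_card_of_injective (fun x => (⟨x, (hker x).1 (MonoidHom.mem_ker.1 x.2)⟩ : ↥({1, T.eps} : Set Γ))) ?_
      intro a b hab
      exact Subtype.ext (congrArg (fun x : ↥({1, T.eps} : Set Γ) => (x : Γ)) hab)
    rw [h1, h2] at hY
    have h6 : Nat.card G * Nat.card π.ker ≤ Nat.card G * 2 := Nat.mul_le_mul_left _ h4
    omega
  exact sp_main hF hFp (finrank F V) V B hB Γ T sm _ hK' hKL rfl (by omega)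

omit [Finite G] in
theorem exists_three_odd (h3 : (3 : F) = 0) (hns : ¬ IsSquare (-1 : F)) : ∃ f, Fintype.card F = 3 ^ (2 * f + 1) := by
  obtain ⟨p, hp⟩ := CharP.exists F
  have hp' : p.Prime := CharP.char_is_prime F p
  have h1 : p = 3 := by
    have := (CharP.cast_eq_zero_iff F p 3).1 (by exact_mod_cast h3)
    exact (Nat.prime_dvd_prime_iff_eq hp' Nat.prime_three).1 this
  subst h1
  obtain ⟨n, -, hn⟩ := FiniteField.card F 3
  rcases Nat.even_or_odd' (n : ℕ) with ⟨k, hk | hk⟩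
  · exfalso
    apply hns
    rw [FiniteField.isSquare_neg_one_iff, hn, hk, pow_mul, Nat.pow_mod]
    norm_num
  · exact ⟨k, by rw [hn, hk]⟩

end

end Cfsg.Agent.H18.Carter
end

-- part: H18/Carter/PslTwoRow
section
/-!
# S3852: the rows `PSL₂(q)`, `q` odd
-/

set_option autoImplicit false
set_option linter.unusedSectionVars false
set_option linter.unusedVariables false
set_option linter.style.haveILetI false

namespace Cfsg.Agent.H18.Carter.PslTwo

open Subgroup Pointwise
open Cfsg.Agent.Solvable.Carter Cfsg.Agent.H381.Car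

universe u

section

variable {G : Type u} [Group G] [Finite G] {S : Subgroup G} [S.Normal] {F : Type} [Field F] [Fintype F]

theorem char_three {m : ℕ} (hF : Fintype.card F = 3 ^ (2 * m + 1)) : CharP F 3 := by
  obtain ⟨r, hr⟩ := CharP.exists F
  obtain ⟨n, hrp, h⟩ := FiniteField.card F r
  rw [hF] at h
  have : r = 3 := by
    have h1 : r ∣ 3 ^ (2 * m + 1) := by rw [h]; exact dvd_pow_self r n.2.ne'
    exact (Nat.prime_dvd_prime_iff_eq hrp Nat.prime_three).1 (hrp.dvd_of_dvd_pow h1)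
  rwa [this] at hr

/-- an element of `2`-power order commuting with an element of `S` of order `3` is trivial -/
theorem two_elt_eq_one (cen : centralizer (S : Set G) = ⊥) {m : ℕ} (hF : Fintype.card F = 3 ^ (2 * m + 1))
    (e : S ≃* Matrix.ProjectiveSpecialLinearGroup (Fin 2) F) {z t : G} (hzS : z ∈ S) (hz : orderOf z = 3)
    (htz : t * z = z * t) {k : ℕ} (ht : t ^ 2 ^ k = 1) : t = 1 := by
  haveI := char_three hF
  haveI : Fact (Nat.Prime 3) := ⟨Nat.prime_three⟩
  have hodd : Odd (Nat.card (F ≃+* F)) := by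
    rw [Cfsg.Agent.Lib.FieldAutCard.card_ringAut (by omega) hF]
    exact ⟨m, rfl⟩
  set! Φ : G →* MulAut (Matrix.ProjectiveSpecialLinearGroup (Fin 2) F) :=
    (MulAut.congr e).toMonoidHom.comp (MulAut.conjNormal (H := S)) with hΦ
  have hΦa : ∀ (g : G) (s : S), Φ g (e s) = e (MulAut.conjNormal g s) := by
    intro g s
    change e (MulAut.conjNormal g (e.symm (e s))) = _
    rw [e.symm_apply_apply]
  have h1 : Φ t = 1 := by
    refine eq_one_of_fix' hodd (k := k) (by rw [← map_pow, ht, map_one]) (x := e ⟨z, hzS⟩) ?_ ?_ ?_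
    · intro h
      rw [map_eq_one_iff e e.injective] at h
      have : z = 1 := congrArg Subtype.val h
      rw [this, orderOf_one] at hz
      exact absurd hz (by norm_num)
    · rw [← map_pow, map_eq_one_iff e e.injective]
      apply Subtype.ext
      change z ^ 3 = 1
      rw [← hz, pow_orderOf_eq_one]
    · rw [hΦa]
      congr 1
      apply Subtype.ext
      rw [MulAut.conjNormal_apply]
      change t * z * t⁻¹ = z
      rw [htz, mul_inv_cancel_right]
  have h2 : t ∈ centralizer (S : Set G) := by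
    intro s hs
    have h3 := hΦa t ⟨s, hs⟩
    rw [h1] at h3
    have h4 := congrArg Subtype.val (e.injective h3)
    rw [MulAut.conjNormal_apply] at h4
    have h5 : s = t * s * t⁻¹ := h4
    rw [eq_mul_inv_iff_mul_eq] at h5
    exact h5
  rw [cen] at h2
  exact mem_bot.1 h2

/-- if `3` divides `|K ∩ S|` then `|K|` is odd -/
theorem not_two_dvd (cen : centralizer (S : Set G) = ⊥) {m : ℕ} (hF : Fintype.card F = 3 ^ (2 * m + 1))
    (e : S ≃* Matrix.ProjectiveSpecialLinearGroup (Fin 2) F) {K : Subgroup G} (hK : Group.IsNilpotent K)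
    (h3 : 3 ∣ Nat.card ↥(K ⊓ S)) : ¬ 2 ∣ Nat.card K := by
  haveI : Fact (Nat.Prime 3) := ⟨Nat.prime_three⟩
  haveI : Fact (Nat.Prime 2) := ⟨Nat.prime_two⟩
  intro h2
  obtain ⟨z, hzS, -, hz, hc⟩ := exists_central (S := S) hK h3
  obtain ⟨t, ht⟩ := exists_prime_orderOf_dvd_card' 2 h2
  have h4 : (t : G) * z = z * t := mem_centralizer_singleton_iff.1 (hc t.2)
  have h5 : (t : G) ^ 2 ^ 1 = 1 := by
    rw [pow_one, ← ht, ← Subgroup.orderOf_coe, pow_orderOf_eq_one]
  have h6 := two_elt_eq_one cen hF e hzS hz h4 h5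
  have : t = 1 := Subtype.ext h6
  rw [this, orderOf_one] at ht
  exact absurd ht (by norm_num)

/-- odd primes `≠ 3` do not divide `|K ∩ S|` (`q = 3^odd`) -/
theorem not_dvd (c : Ctx G S) {m : ℕ} (hF : Fintype.card F = 3 ^ (2 * m + 1))
    (e : S ≃* Matrix.ProjectiveSpecialLinearGroup (Fin 2) F) {K : Subgroup G} (hK : IsCarter K) {r : ℕ}
    (hr : r.Prime) (hr2 : r ≠ 2) (hr3 : r ≠ 3) : ¬ r ∣ Nat.card ↥(K ⊓ S) := by
  haveI : Fact r.Prime := ⟨hr⟩
  haveI : Fact (Nat.Prime 3) := ⟨Nat.prime_three⟩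
  haveI := char_three hF
  refine not_dvd_of_power c (r := r) ?_ hK
  intro z hz ho
  have ho' : orderOf (e ⟨z, hz⟩) = r := by
    rw [MulEquiv.orderOf_eq, Subgroup.orderOf_mk, ho]
  rcases real_or 3 (e ⟨z, hz⟩) with ⟨y, hy⟩ | ⟨y, b, h⟩
  · have h1 : e (e.symm y * ⟨z, hz⟩ * (e.symm y)⁻¹) = e (⟨z, hz⟩⁻¹) := by
      rw [map_mul, map_mul, map_inv, map_inv, e.apply_symm_apply, hy]
    have h2 := congrArg Subtype.val (e.injective h1)
    refine ⟨(e.symm y : G), ?_, ?_⟩
    · have h3 : ((e.symm y : S) : G) * z * ((e.symm y : S) : G)⁻¹ = z⁻¹ := h2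
      rw [h3]
      exact ne_inv_of_odd (by rw [ho]; exact hr) (by rw [ho]; exact hr2)
    · have h3 : ((e.symm y : S) : G) * z * ((e.symm y : S) : G)⁻¹ = z⁻¹ := h2
      rw [h3]
      exact inv_mem (mem_zpowers z)
  · exfalso
    have h1 : (e ⟨z, hz⟩) ^ 3 = 1 := by
      have h2 : e ⟨z, hz⟩ = y⁻¹ * H906.unP F (Multiplicative.ofAdd b) * y := by rw [← h]; group
      have := (conj_pow (i := 3) (a := y⁻¹) (b := H906.unP F (Multiplicative.ofAdd b)) :)
      rw [inv_inv, ← h2, unP_pow_char] at this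
      rw [this]; group
    have h4 := orderOf_dvd_of_pow_eq_one h1
    rw [ho'] at h4
    exact hr3 ((Nat.prime_dvd_prime_iff_eq hr Nat.prime_three).1 h4)

/-- `K ∩ S` is a `2`-group or a `3`-group (`q = 3^odd`) -/
theorem two_or_three (c : Ctx G S) {m : ℕ} (hF : Fintype.card F = 3 ^ (2 * m + 1))
    (e : S ≃* Matrix.ProjectiveSpecialLinearGroup (Fin 2) F) {K : Subgroup G} (hK : IsCarter K) :
    (¬ 3 ∣ Nat.card ↥(K ⊓ S) ∧ IsPGroup 2 ↥(K ⊓ S)) ∨ (¬ 2 ∣ Nat.card K ∧ IsPGroup 3 ↥(K ⊓ S)) := by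
  by_cases h3 : 3 ∣ Nat.card ↥(K ⊓ S)
  · right
    have h2 := not_two_dvd c.cen hF e hK.1 h3
    refine ⟨h2, ?_⟩
    rw [IsPGroup.iff_card]
    refine ⟨_, Nat.eq_prime_pow_of_unique_prime_dvd Nat.card_pos.ne' ?_⟩
    intro r hr hdv
    by_contra hne
    by_cases hr2 : r = 2
    · subst hr2
      exact h2 (hdv.trans (card_dvd_of_le inf_le_left))
    · exact not_dvd c hF e hK hr hr2 hne hdv
  · left
    refine ⟨h3, ?_⟩
    rw [IsPGroup.iff_card]
    refine ⟨_, Nat.eq_prime_pow_of_unique_prime_dvd Nat.card_pos.ne' ?_⟩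
    intro r hr hdv
    by_contra hne
    by_cases hr3 : r = 3
    · subst hr3
      exact h3 hdv
    · exact not_dvd c hF e hK hr hne hr3 hdv

theorem card_mod {m : ℕ} (hF : Fintype.card F = 3 ^ (2 * m + 1))
    (e : S ≃* Matrix.ProjectiveSpecialLinearGroup (Fin 2) F) : Nat.card S % 8 = 4 := by
  have hodd : Odd (Fintype.card F) := by rw [hF]; exact Odd.pow (by decide)
  have h1 := Cfsg.Agent.ClassicalGeometry.PSL2Basic.card_PSL2_odd F hodd
  rw [← Nat.card_congr e.toEquiv] at h1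
  have h2 : Fintype.card F % 8 = 3 := by
    rw [hF, pow_succ, pow_mul, Nat.mul_mod, Nat.pow_mod]
    norm_num
  obtain ⟨a, ha⟩ : ∃ a, Fintype.card F = 8 * a + 3 := ⟨Fintype.card F / 8, by (clear * - h2; omega)⟩
  have h3 : Fintype.card F ^ 2 - 1 = 8 * (8 * a ^ 2 + 6 * a + 1) := by
    rw [ha]
    have : (8 * a + 3) ^ 2 = 8 * (8 * a ^ 2 + 6 * a + 1) + 1 := by ring
    (clear * - this; omega)
  rw [h3, ha] at h1
  have h4 : (8 * a + 3) * (8 * (8 * a ^ 2 + 6 * a + 1)) = 2 * (4 * (2 * (32 * a ^ 3 + 36 * a ^ 2 + 13 * a + 1) + 1)) := by ring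
  rw [h4] at h1
  (clear * - h1; solve | lia | omega)

/-- `K ∩ S` is not a `2`-group if `|G : S|` is odd, `q = 3^odd` -/
theorem not_two_group (hFp : Fpf.{u}) (c : Ctx G S) {m : ℕ} (hF : Fintype.card F = 3 ^ (2 * m + 1))
    (e : S ≃* Matrix.ProjectiveSpecialLinearGroup (Fin 2) F) (hi : ¬ 2 ∣ S.index) {K : Subgroup G} (hK : IsCarter K) :
    ¬ IsPGroup 2 ↥(K ⊓ S) := by
  haveI : Fact (Nat.Prime 2) := ⟨Nat.prime_two⟩
  intro h2
  obtain ⟨P, hPS, hPp, hPl, hPK⟩ := lemma_x hFp c.min S hK h2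
  have hmod := card_mod (S := S) hF e
  -- the order of `P`
  have hP4 : Nat.card P = 4 := by
    have h3 : Nat.card P * P.relIndex S = Nat.card S := by
      have := Subgroup.relIndex_mul_relIndex ⊥ P S bot_le hPS
      rwa [relIndex_bot_left, relIndex_bot_left] at this
    obtain ⟨n, hn⟩ := IsPGroup.iff_card.1 hPp
    rw [hn] at h3 ⊢
    obtain ⟨d, hd⟩ : Odd (P.relIndex S) := by rwa [← Nat.not_even_iff_odd, even_iff_two_dvd]
    rw [hd] at h3
    rcases n with _ | _ | _ | n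
    · omega
    · omega
    · norm_num
    · exfalso
      have : 2 ^ (n + 3) * (2 * d + 1) = 8 * (2 ^ n * (2 * d + 1)) := by ring
      rw [this] at h3
      omega
  -- `K ∩ S ≤ P`
  have hKP : K ⊓ S ≤ P := by
    have hX : IsPGroup 2 ↥((K ⊓ S) ⊔ P) := h2.to_sup_of_normal_right' hPp (inf_le_left.trans hPK)
    have hXS : (K ⊓ S) ⊔ P ≤ S := sup_le inf_le_right hPS
    have h3 := Subgroup.relIndex_mul_relIndex P ((K ⊓ S) ⊔ P) S le_sup_right hXS
    have h4 : P.relIndex ((K ⊓ S) ⊔ P) = 1 := by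
      obtain ⟨n, hn⟩ := hX.index (P.subgroupOf ((K ⊓ S) ⊔ P))
      change P.relIndex ((K ⊓ S) ⊔ P) = 2 ^ n at hn
      rcases n with _ | n
      · rw [hn, pow_zero]
      · exfalso
        apply hPl
        rw [← h3, hn]
        exact (dvd_pow_self 2 (Nat.succ_ne_zero n)).mul_right _
    exact le_sup_left.trans (relIndex_eq_one.1 h4)
  have hcomm : ∀ a ∈ P, ∀ b ∈ P, a * b = b * a := by
    have h5 : Nat.card P = 2 ^ 2 := by rw [hP4]; norm_num
    have h6 := IsPGroup.isMulCommutative_of_card_eq_prime_sq (p := 2) h5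
    intro a ha b hb
    exact congrArg Subtype.val (h6.is_comm.comm ⟨a, ha⟩ ⟨b, hb⟩)
  -- a central involution
  have h2d : 2 ∣ Nat.card ↥(K ⊓ S) := by
    obtain ⟨n, hn⟩ := IsPGroup.iff_card.1 h2
    rcases n with _ | n
    · exfalso
      rw [pow_zero] at hn
      exact inf_ne_bot hFp c hK (card_eq_one.1 hn)
    · rw [hn]
      exact dvd_pow_self 2 (Nat.succ_ne_zero n)
  obtain ⟨x, hxS, hxK, hx, hxc⟩ := exists_central (S := S) hK.1 h2d
  have hxP : x ∈ P := hKP ⟨hxK, hxS⟩
  have hx2 : x ^ 2 = 1 := by rw [← hx, pow_orderOf_eq_one]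
  have hXP : zpowers x ≤ P := by rw [zpowers_le]; exact hxP
  have hidx : (zpowers x).relIndex P = 2 := by
    have h6 := Subgroup.relIndex_mul_relIndex ⊥ (zpowers x) P bot_le hXP
    rw [relIndex_bot_left, relIndex_bot_left, Nat.card_zpowers, hx, hP4] at h6
    omega
  -- `K` centralises `P`
  have hKc : ∀ k ∈ K, ∀ w ∈ P, k * w = w * k := by
    intro k hk w hw
    have hkx : k * x = x * k := mem_centralizer_singleton_iff.1 (hxc hk)
    have hkw : k * w * k⁻¹ ∈ P := (mem_normalizer_iff.1 (hPK hk) w).1 hw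
    have h7 : k * w * k⁻¹ * w⁻¹ ∈ zpowers x := by
      by_cases hwx : w ∈ zpowers x
      · obtain ⟨i, rfl⟩ := mem_zpowers_iff.1 hwx
        have : k * x ^ i = x ^ i * k := ((show Commute k x from hkx).zpow_right i)
        rw [this, mul_inv_cancel_right, mul_inv_cancel]
        exact one_mem _
      · have h8 : k * w * k⁻¹ ∉ zpowers x := by
          intro h9
          obtain ⟨i, hi9⟩ := mem_zpowers_iff.1 h9
          apply hwx
          have : w = k⁻¹ * x ^ i * k := by rw [hi9]; group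
          rw [this]
          have h10 : k⁻¹ * x ^ i = x ^ i * k⁻¹ := (((show Commute k x from hkx).zpow_right i).inv_left)
          rw [h10, inv_mul_cancel_right]
          exact zpow_mem (mem_zpowers x) i
        have h11 := mul_mem_iff_of_index_two (H := (zpowers x).subgroupOf P) hidx (a := ⟨k * w * k⁻¹, hkw⟩) (b := ⟨w, hw⟩⁻¹)
        rw [mem_subgroupOf, mem_subgroupOf, inv_mem_iff, mem_subgroupOf] at h11
        exact h11.2 (iff_of_false h8 hwx)
    obtain ⟨i, hi7⟩ := mem_zpowers_iff.1 h7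
    -- `k w k⁻¹ = x^i w`
    have hn : ∀ n : ℕ, k ^ n * w = (x ^ i) ^ n * w * k ^ n := by
      intro n
      induction n with
      | zero => simp
      | succ n ih =>
        have h14 : k * w = x ^ i * w * k := by rw [hi7]; group
        have h15 : Commute (k ^ n) (x ^ i) := ((show Commute k x from hkx).zpow_right i).pow_left n
        rw [pow_succ, mul_assoc, h14, ← mul_assoc, ← mul_assoc, h15.eq, mul_assoc (x ^ i) (k ^ n) w, ih, pow_succ' (x ^ i)]
        group
    obtain ⟨N, hN⟩ : ∃ N, S.index = 2 * N + 1 := by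
      obtain ⟨N, hN⟩ : Odd S.index := by rwa [← Nat.not_even_iff_odd, even_iff_two_dvd]
      exact ⟨N, hN⟩
    have hkS : k ^ S.index ∈ S := by
      rw [← QuotientGroup.eq_one_iff (N := S), QuotientGroup.mk_pow]
      exact pow_card_eq_one'
    have hkN : k ^ S.index ∈ P := hKP ⟨pow_mem hk _, hkS⟩
    have h16 := hn S.index
    rw [hcomm _ hkN w hw] at h16
    have h17 : (x ^ i) ^ S.index = 1 := by
      have h18 : (x ^ i) ^ S.index * (w * k ^ S.index) = w * k ^ S.index := by rw [← mul_assoc]; exact h16.symm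
      exact mul_eq_right.1 h18
    have h19 : (x ^ i) ^ 2 = 1 := by rw [← zpow_natCast, ← zpow_mul, mul_comm, zpow_mul, zpow_natCast, hx2, one_zpow]
    have h20 : x ^ i = 1 := by
      rw [hN, pow_succ, pow_mul, h19, one_pow, one_mul] at h17
      exact h17
    rw [h20] at hi7
    have h21 := mul_inv_eq_one.1 hi7.symm
    exact mul_inv_eq_iff_eq_mul.1 h21
  have hPK' : P ≤ K := by
    intro w hw
    rw [← hK.2]
    refine centralizer_le_normalizer _ ?_
    intro k hk
    exact hKc k hk w hw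
  have h12 : normalizer (P : Set G) ≤ centralizer (P : Set G) := by
    have hPb : P ≠ ⊥ := by
      rintro rfl
      rw [Subgroup.card_bot] at hP4
      omega
    have h13 : P ≤ centralizer (P : Set G) := fun a ha b hb => hcomm b hb a ha
    refine (norm_le c hK hPb hPK' (le_sup_of_le_right fun k hk w hw => (hKc k hk w hw).symm)).trans (sup_le h13 le_rfl)
  haveI := c.simple
  have hp1 : IsPGroup 2 (P.subgroupOf S) := hPp.comap_of_injective S.subtype S.subtype_injective
  set! P' : Sylow 2 S := hp1.toSylow hPl with hP'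
  have hP'c : (P' : Subgroup S) = P.subgroupOf S := rfl
  have hN : normalizer (P' : Set S) ≤ centralizer (P' : Set S) := by
    intro s hs
    have h13 : (s : G) ∈ normalizer (P : Set G) := by
      rw [mem_normalizer_iff]
      intro w
      constructor
      · intro hw
        have h14 := (mem_normalizer_iff.1 hs ⟨w, hPS hw⟩).1 hw
        exact h14
      · intro hw
        have hwS : w ∈ S := by
          have := hPS hw
          have h15 := mul_mem (mul_mem (inv_mem s.2) this) s.2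
          have e : w = (s : G)⁻¹ * (s * w * (s : G)⁻¹) * s := by group
          rw [e]
          exact h15
        have h14 := (mem_normalizer_iff.1 hs ⟨w, hwS⟩).2 hw
        exact h14
    intro w hw
    apply Subtype.ext
    exact h12 h13 w hw
  have hnd := MonoidHom.not_dvd_card_ker_transferSylow P' hN
  have hcomp := MonoidHom.ker_transferSylow_isComplement' P' hN
  rcases IsSimpleGroup.eq_bot_or_eq_top_of_normal (MonoidHom.transferSylow P' hN).ker inferInstance with hk | hk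
  · have h16 : (P' : Subgroup S) = ⊤ := by
      have := hcomp.sup_eq_top
      rwa [hk, bot_sup_eq] at this
    apply c.na
    intro a b
    have ha : a ∈ P.subgroupOf S := by rw [← hP'c, h16]; trivial
    have hb : b ∈ P.subgroupOf S := by rw [← hP'c, h16]; trivial
    exact Subtype.ext (hcomm _ ha _ hb)
  · rw [hk, Subgroup.card_top] at hnd
    apply hnd
    omega

/-- **`PSL₂(q)`, `q` odd: what is known about `K ∩ S`.** -/
theorem psl2_field (c : Ctx G S) (ho : Odd (Fintype.card F)) (e : S ≃* Matrix.ProjectiveSpecialLinearGroup (Fin 2) F)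
    {K : Subgroup G} (hK : IsCarter K) :
    ((∀ m : ℕ, Fintype.card F ≠ 3 ^ (2 * m + 1)) → IsPGroup 2 ↥(K ⊓ S)) ∧
    ∀ m : ℕ, Fintype.card F = 3 ^ (2 * m + 1) →
      (¬ 3 ∣ Nat.card ↥(K ⊓ S) ∧ IsPGroup 2 ↥(K ⊓ S)) ∨ (¬ 2 ∣ Nat.card K ∧ IsPGroup 3 ↥(K ⊓ S)) := by
  refine ⟨fun h3 => ?_, fun m hF => two_or_three c hF e hK⟩
  rw [IsPGroup.iff_card]
  refine ⟨_, Nat.eq_prime_pow_of_unique_prime_dvd Nat.card_pos.ne' ?_⟩
  intro r hr hdv
  by_contra hne
  haveI : Fact r.Prime := ⟨hr⟩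
  refine not_dvd_of_power c (r := r) ?_ hK hdv
  intro z hz hzo
  have e1 : orderOf (⟨z, hz⟩ : S) = orderOf z := Subgroup.orderOf_mk z hz
  obtain ⟨g, h1, h2⟩ := (powConj ho h3).of_equiv e.symm ⟨z, hz⟩ (by rw [e1, hzo]; exact hr) (by rw [e1, hzo]; exact hne)
  refine ⟨g, fun h3 => h1 (Subtype.ext h3), ?_⟩
  obtain ⟨k, hk⟩ := mem_zpowers_iff.1 h2
  exact mem_zpowers_iff.2 ⟨k, congrArg Subtype.val hk⟩

/-- **The rows `PSL₂(q)`, `q` odd.** -/
theorem row_psl2_odd (hFp : Fpf.{u}) (c : Ctx G S) (ho : Odd (Fintype.card F))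
    (e : S ≃* Matrix.ProjectiveSpecialLinearGroup (Fin 2) F) : CC G := by
  haveI : Fact (Nat.Prime 2) := ⟨Nat.prime_two⟩
  haveI : Fact (Nat.Prime 3) := ⟨Nat.prime_three⟩
  by_cases h3 : ∀ m : ℕ, Fintype.card F ≠ 3 ^ (2 * m + 1)
  · exact cc_of_powConj hFp c ((powConj ho h3).of_equiv e.symm)
  · push Not at h3
    obtain ⟨m, hF⟩ := h3
    by_cases hi : 2 ∣ S.index
    · refine cc_of_l hFp c 2 fun K hK => ?_
      rcases two_or_three c hF e hK with h | ⟨h, -⟩
      · exact h.2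
      · exfalso
        apply h
        have h4 : S.relIndex K = S.index := by
          have h5 := Subgroup.relIndex_sup_right (H := K) (K := S)
          rw [c.prod K hK, relIndex_top_right] at h5
          exact h5.symm
        rw [← h4] at hi
        exact hi.trans (relIndex_dvd_card _ _)
    · refine cc_of_l hFp c 3 fun K hK => ?_
      rcases two_or_three c hF e hK with h | ⟨-, h⟩
      · exact absurd h.2 (not_two_group hFp c hF e hi hK)
      · exact h

/-- **The rows `PSL₂(q)`, `q` even.** -/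
theorem row_psl2_even (hFp : Fpf.{u}) (c : Ctx G S) (he : Even (Fintype.card F))
    (e : S ≃* Matrix.ProjectiveSpecialLinearGroup (Fin 2) F) : CC G := by
  refine cc_of_powConj hFp c (PowConj.of_equiv e.symm ?_)
  intro z hz hz2
  obtain ⟨r, hr⟩ := CharP.exists F
  obtain ⟨n, hrp, h⟩ := FiniteField.card F r
  have hr2 : r = 2 := by
    rw [h, even_iff_two_dvd] at he
    exact ((Nat.prime_dvd_prime_iff_eq Nat.prime_two hrp).1 (Nat.prime_two.dvd_of_dvd_pow he)).symm
  subst hr2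
  haveI : Fact (Nat.Prime 2) := ⟨Nat.prime_two⟩
  rcases H906.PSL2_real_or_unip 2 z with ⟨y, hy⟩ | h2
  · exact ⟨y, by rw [hy]; exact ne_inv_of_odd hz hz2, by rw [hy]; exact inv_mem (mem_zpowers z)⟩
  · exact absurd ((Nat.prime_dvd_prime_iff_eq hz Nat.prime_two).1 (orderOf_dvd_of_pow_eq_one h2)) hz2

/-- **The rows `PSL₂(q)`.** -/
theorem row_psl2 (hFp : Fpf.{u}) (c : Ctx G S) (e : S ≃* Matrix.ProjectiveSpecialLinearGroup (Fin 2) F) : CC G := by
  rcases Nat.even_or_odd (Fintype.card F) with h | h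
  · exact row_psl2_even hFp c h e
  · exact row_psl2_odd hFp c h e

end

end Cfsg.Agent.H18.Carter.PslTwo
end

-- part: H518/Carter/Even
section
/-!
# S3852: the rows in characteristic two with `-1` in the Weyl group, and the Suzuki groups

`PowConj X` (every element of odd prime order is conjugate to a proper power of itself) for
`PSp_{2m}(q)`, `PΩ^±_{2m}(q)` (`m` even), `G₂(q)`, `F₄(q)`, `E₇(q)`, `E₈(q)`, `³D₄(q)`, `²F₄(q)`, `q` even, and `Sz(q)`.
-/

set_option autoImplicit false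
set_option linter.unusedSectionVars false

namespace Cfsg.Agent.H518.Carter

open Cfsg Cfsg.Lie Subgroup Cfsg.Agent.H18.Carter
open Cfsg.Agent.ClassicalGeometry.OrthCharTwo Cfsg.Agent.ClassicalGeometry.OmegaIndex
  Cfsg.Agent.ClassicalGeometry.OrthDickson Cfsg.Agent.LieClassical.OrthCore Cfsg.Agent.GenOrth
  Cfsg.Agent.LieClassical.OmegaReindex Cfsg.Agent.BpExc.RowsUntw Cfsg.Agent.H507.GmnOrth

universe u

section Gen

/-- from real elements -/
theorem of_real {K : Type*} [Group K] (h : ∀ p : ℕ, p.Prime → p ≠ 2 → ∀ z : K, z ^ p = 1 → IsConj z z⁻¹) : PowConj K := by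
  intro z hz hz2
  obtain ⟨g, hg⟩ := isConj_iff.1 (h _ hz hz2 z (pow_orderOf_eq_one z))
  refine ⟨g, ?_, ?_⟩
  · rw [hg]; exact ne_inv_of_odd hz hz2
  · rw [hg]; exact inv_mem (mem_zpowers z)

/-- from conjugacy to a power `z ^ k`, `k` not `1` modulo `p` -/
theorem of_pow {K : Type*} [Group K]
    (h : ∀ p : ℕ, p.Prime → p ≠ 2 → ∀ z : K, z ^ p = 1 → ∃ k : ℕ, ¬ k ≡ 1 [MOD p] ∧ IsConj z (z ^ k)) : PowConj K := by
  intro z hz hz2
  obtain ⟨k, hk, hc⟩ := h _ hz hz2 z (pow_orderOf_eq_one z)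
  obtain ⟨g, hg⟩ := isConj_iff.1 hc
  refine ⟨g, ?_, ?_⟩
  · rw [hg]
    intro h1
    apply hk
    rw [← pow_eq_pow_iff_modEq, h1, pow_one]
  · rw [hg]; exact pow_mem (mem_zpowers z) k

/-- simple groups with cyclic Sylow subgroups for all odd primes -/
theorem of_cyclic {K : Type*} [Group K] [Finite K] [IsSimpleGroup K] (hna : ¬ ∀ x y : K, x * y = y * x)
    (h : ∀ p : ℕ, p.Prime → p ≠ 2 → ∀ Q : Sylow p K, IsCyclic (Q : Subgroup K)) : PowConj K := by
  intro z hz hz2
  have hfp : Fact (orderOf z).Prime := ⟨hz⟩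
  set p := orderOf z with hp
  have hzp : IsPGroup p (zpowers z) := IsPGroup.of_card (n := 1) (by rw [Nat.card_zpowers, pow_one])
  obtain ⟨Q, hQ⟩ := hzp.exists_le_sylow
  have hzQ : z ∈ Q := hQ (mem_zpowers z)
  have hcy := h p hz hz2 Q
  by_contra hcon
  push Not at hcon
  have hd : p ∣ Nat.card K := _root_.orderOf_dvd_natCard z
  have hzne : z ≠ 1 := fun h1 => hz.one_lt.ne' (by rw [hp, h1, orderOf_one])
  -- every element of order `p` in `Q` is a power of `z`
  have hom : ∀ x ∈ Q, x ^ p = 1 → x ∈ zpowers z := by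
    intro x hx hxp
    have h1 : (⟨x, hx⟩ : (Q : Subgroup K)) ∈ zpowers (⟨z, hzQ⟩ : (Q : Subgroup K)) := by
      classical
      let _ : Fintype (Q : Subgroup K) := Fintype.ofFinite _
      have h2 := IsCyclic.card_pow_eq_one_le (α := (Q : Subgroup K)) (n := p) hz.pos
      have h3 : (Finset.univ.filter fun a : (Q : Subgroup K) => a ∈ zpowers (⟨z, hzQ⟩ : (Q : Subgroup K))).card = p := by
        rw [← Fintype.card_subtype]
        have h4 : Fintype.card {a : (Q : Subgroup K) // a ∈ zpowers (⟨z, hzQ⟩ : (Q : Subgroup K))} =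
            Nat.card (zpowers (⟨z, hzQ⟩ : (Q : Subgroup K))) := by
          rw [Nat.card_eq_fintype_card]
        rw [h4, Nat.card_zpowers, Subgroup.orderOf_mk]
      have h5 : (Finset.univ.filter fun a : (Q : Subgroup K) => a ∈ zpowers (⟨z, hzQ⟩ : (Q : Subgroup K))) ⊆
          Finset.univ.filter fun a : (Q : Subgroup K) => a ^ p = 1 := by
        intro a ha
        rw [Finset.mem_filter] at ha ⊢
        refine ⟨Finset.mem_univ _, ?_⟩
        obtain ⟨n, rfl⟩ := mem_zpowers_iff.1 ha.2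
        have h6 : (⟨z, hzQ⟩ : (Q : Subgroup K)) ^ p = 1 := Subtype.ext (pow_orderOf_eq_one z)
        rw [← zpow_natCast, ← zpow_mul, mul_comm, zpow_mul, zpow_natCast, h6, one_zpow]
      have h6 := Finset.eq_of_subset_of_card_le h5 (by rw [h3]; exact h2)
      have h7 : (⟨x, hx⟩ : (Q : Subgroup K)) ∈ Finset.univ.filter fun a : (Q : Subgroup K) => a ^ p = 1 := by
        rw [Finset.mem_filter]
        exact ⟨Finset.mem_univ _, Subtype.ext hxp⟩
      rw [← h6, Finset.mem_filter] at h7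
      exact h7.2
    obtain ⟨n, hn⟩ := mem_zpowers_iff.1 h1
    exact mem_zpowers_iff.2 ⟨n, congrArg Subtype.val hn⟩
  refine H712.Gmn.not_normalizer_le_centralizer hna hd Q (H712.Gmn.centralizes_of_omega Q (fun x hx y hy => ?_) ?_)
  · have h1 : (⟨x, hx⟩ : (Q : Subgroup K)) * ⟨y, hy⟩ = ⟨y, hy⟩ * ⟨x, hx⟩ := by
      let _ : CommGroup (Q : Subgroup K) := IsCyclic.commGroup
      exact mul_comm _ _
    exact congrArg Subtype.val h1
  · intro s hs x hx hxp
    have h1 : s * z * s⁻¹ = z := by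
      by_contra h2
      refine hcon s h2 (hom _ ((mem_normalizer_iff.1 hs z).1 hzQ) ?_)
      rw [conj_pow, pow_orderOf_eq_one, mul_one, mul_inv_cancel]
    obtain ⟨n, rfl⟩ := mem_zpowers_iff.1 (hom x hx hxp)
    rw [← conj_zpow, h1]

end Gen

section Rows

variable {F : Type} [Field F] [Fintype F] [CharP F 2]

theorem cast_ne {p : ℕ} (hp : p.Prime) (hp2 : p ≠ 2) : (p : F) ≠ 0 := by
  intro h
  have h1 := (CharP.cast_eq_zero_iff F 2 p).1 h
  exact hp2 ((Nat.prime_dvd_prime_iff_eq Nat.prime_two hp).1 h1).symm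

theorem psp (m : ℕ) : PowConj (PSp m F) :=
  of_real fun _ hp hp2 _ hz => isConj_iff.2 (H507.GmnSp.conj_inv hp hp2 (cast_ne hp hp2) hz)

theorem g2 : PowConj ↥(chevG2.group F) := by
  have : Fact (Nat.Prime 2) := ⟨Nat.prime_two⟩
  refine of_real fun p hp hp2 z hz => ?_
  have : Fact p.Prime := ⟨hp⟩
  exact Cfsg.Agent.H696.GmnInv.isConj_inv_two g2T
    (Cfsg.Agent.H696.GmnUntw.center_eq_bot_of_simple (S1055.result (Cfsg.Agent.BpExc.FamInst.exists_ne_algClosed _)))
    (Cfsg.Agent.H696.GmnNeg.negG2 g2T _) hp hp2 hz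

theorem f4 : PowConj ↥(chevF4.group F) := by
  have : Fact (Nat.Prime 2) := ⟨Nat.prime_two⟩
  refine of_real fun p hp hp2 z hz => ?_
  exact Cfsg.Agent.H696.GmnInv.isConj_inv_two f4T
    (Cfsg.Agent.H696.GmnUntw.center_eq_bot_of_simple (S1054.result chevF4 (by simp)))
    (Cfsg.Agent.H696.GmnNeg.negF4 f4T _) hp hp2 hz

theorem e7 : PowConj ↥(chevE7.group F) := by
  have : Fact (Nat.Prime 2) := ⟨Nat.prime_two⟩
  refine of_real fun p hp hp2 z hz => ?_
  exact Cfsg.Agent.H696.GmnInv.isConj_inv_two e7T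
    (Cfsg.Agent.H696.GmnUntw.center_eq_bot_of_simple (S1054.result chevE7 (by simp)))
    (Cfsg.Agent.H696.GmnNeg.negE7 e7T _) hp hp2 hz

theorem e8 : PowConj ↥(chevE8.group F) := by
  have : Fact (Nat.Prime 2) := ⟨Nat.prime_two⟩
  refine of_real fun p hp hp2 z hz => ?_
  exact Cfsg.Agent.H696.GmnInv.isConj_inv_two e8T
    (Cfsg.Agent.H696.GmnUntw.center_eq_bot_of_simple (S1054.result chevE8 (by simp)))
    (Cfsg.Agent.H696.GmnNeg.negE8 e8T _) hp hp2 hz

/-- `³D₄(q)`, `q` even -/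
theorem d4 {q : ℕ} (hq : IsPrimePow q) (hK : Fintype.card F = q ^ 3) : PowConj ↥(twistedD4 F q) := by
  have : Fact (Nat.Prime 2) := ⟨Nat.prime_two⟩
  obtain ⟨r, n, hr, hn0, hn⟩ := (isPrimePow_nat_iff _).1 hq
  have hr2 : r = 2 := by
    obtain ⟨k, h2, h3⟩ := FiniteField.card F 2
    rw [hK] at h3
    have h4 : r ∣ 2 ^ (k : ℕ) := by
      rw [← h3, ← hn]
      exact dvd_pow (dvd_pow_self r hn0.ne') (by norm_num)
    exact (Nat.prime_dvd_prime_iff_eq hr Nat.prime_two).1 (hr.dvd_of_dvd_pow h4)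
  subst hr2
  refine of_real fun p hp hp2 z hz => ?_
  have : Fact p.Prime := ⟨hp⟩
  exact Cfsg.Agent.H696.GmnTwD4.isConj_inv_d4 (r := 2) hp2 hn0 hn.symm hK hz

/-- `PΩ⁺_{2m}(q)`, `m` and `q` even -/
theorem plus {m : ℕ} (hm : 3 ≤ m) (hev : Even m) : PowConj (POmega F (quadFormPlus m F)) := by
  have hcard : Fintype.card (Fin m ⊕ Fin m) = 2 * m := by
    simp only [Fintype.card_sum, Fintype.card_fin]
    omega
  have hs : ∃ u : Fin m ⊕ Fin m → F, u ≠ 0 ∧ quadPlus m F u = 0 := by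
    refine ⟨Pi.single (Sum.inl ⟨0, by omega⟩) 1, ?_, ?_⟩
    · intro h
      have := congrFun h (Sum.inl ⟨0, by omega⟩)
      rw [Pi.single_eq_same] at this
      exact one_ne_zero this
    · rw [coe_quadPlus, quadFormPlus]
      simp [Pi.single_apply]
  rw [← coe_quadPlus]
  refine of_pow fun p hp hp2 z hz => ?_
  refine H507.GmnOrthRows.powConj quadPlus_nondegenerate (by rw [hcard]; omega) hs (Or.inr (by rw [hcard]; omega)) hp hp2
    (cast_ne hp hp2) (fun _ _ _ => ?_) z hz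
  obtain ⟨c, hc⟩ := hev
  exact Or.inr (by rw [hcard]; omega)

/-- `PΩ⁻_{2m}(q)`, `m` and `q` even -/
theorem minus {m : ℕ} (hm : 3 ≤ m) (hev : Even m) {a b : F}
    (hab : ∀ z₁ z₂ : F, z₁ ^ 2 + a * z₁ * z₂ + b * z₂ ^ 2 = 0 → z₁ = 0 ∧ z₂ = 0) :
    PowConj (POmega F (quadFormMinus (m - 1) F a b)) := by
  have hcard : Fintype.card ((Fin (m - 1) ⊕ Fin (m - 1)) ⊕ Fin 2) = 2 * m := by
    simp only [Fintype.card_sum, Fintype.card_fin]
    omega
  have hs : ∃ u : (Fin (m - 1) ⊕ Fin (m - 1)) ⊕ Fin 2 → F, u ≠ 0 ∧ quadMinus (m - 1) F a b u = 0 := by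
    refine ⟨Pi.single (Sum.inl (Sum.inl ⟨0, by omega⟩)) 1, ?_, ?_⟩
    · intro h
      have := congrFun h (Sum.inl (Sum.inl ⟨0, by omega⟩))
      rw [Pi.single_eq_same] at this
      exact one_ne_zero this
    · rw [coe_quadMinus, quadFormMinus]
      simp [Pi.single_apply]
  rw [← coe_quadMinus]
  refine of_pow fun p hp hp2 z hz => ?_
  refine H507.GmnOrthRows.powConj (quadMinus_nondegenerate hab) (by rw [hcard]; omega) hs (Or.inr (by rw [hcard]; omega))
    hp hp2 (cast_ne hp hp2) (fun _ _ _ => ?_) z hz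
  obtain ⟨c, hc⟩ := hev
  exact Or.inr (by rw [hcard]; omega)

omit [CharP F 2] in
/-- `²F₄(q)` -/
theorem tw {m : ℕ} (hF : Fintype.card F = 2 ^ (2 * m + 1)) : PowConj ↥(twistedF4 F (2 ^ m)) := by
  intro z hz hz2
  obtain ⟨g, hg⟩ := isConj_iff.1 (H507.GmnTwF.isConj_inv hF z (hz.odd_of_ne_two hz2))
  refine ⟨g, ?_, ?_⟩
  · rw [hg]; exact ne_inv_of_odd hz hz2
  · rw [hg]; exact inv_mem (mem_zpowers z)

omit [CharP F 2] in
/-- `Sz(q)` -/
theorem sz {m : ℕ} (hm : 1 ≤ m) (hF : Fintype.card F = 2 ^ (2 * m + 1)) [IsSimpleGroup ↥(Lie.Sz F (2 ^ (m + 1)))]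
    (hna : ¬ ∀ x y : ↥(Lie.Sz F (2 ^ (m + 1))), x * y = y * x) : PowConj ↥(Lie.Sz F (2 ^ (m + 1))) := by
  refine of_cyclic hna fun p hp hp2 Q => ?_
  have : Fact p.Prime := ⟨hp⟩
  exact Cfsg.Agent.H67.SzOdd.sylow_cyclic hm hF hp2 Q

end Rows

section CC

variable {G : Type u} [Group G] [Finite G] {S : Subgroup G} [S.Normal] (hF : H381.Car.Fpf.{u}) (c : Ctx G S)
  {F : Type} [Field F] [Fintype F]

include hF c

end CC

end Cfsg.Agent.H518.Carter
end

-- part: H18/Carter/NrRows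
section
/-!
# S3852: the rows in the form `NrAll` (first part)
-/

set_option autoImplicit false
set_option linter.unusedSectionVars false
set_option linter.unusedVariables false
set_option linter.style.haveILetI false

namespace Cfsg.Agent.H18.Carter

open Subgroup Pointwise Module Cfsg Cfsg.Lie
open Cfsg.Agent.Solvable.Carter

universe u

variable {G : Type u} [Group G] [Finite G] {S : Subgroup G} [S.Normal] (hFp : Cfsg.Agent.H381.Car.Fpf.{u}) (c : Ctx G S)
  {F : Type} [Field F] [Fintype F]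

include hFp c

omit [Field F] [Fintype F] in
theorem nr_alt {n : ℕ} (h5 : 5 ≤ n) (e : ↥S ≃* ↥(alternatingGroup (Fin n))) : NrAll S :=
  nrAll_of_powConj hFp c ((alt_powConj h5).of_equiv e.symm)

/-- `PSL₂(q)` -/
theorem nr_psl2 (e : S ≃* Matrix.ProjectiveSpecialLinearGroup (Fin 2) F) (hex : ¬ Exc ↥S) : NrAll S := by
  rcases Nat.even_or_odd (Fintype.card F) with he | ho
  · refine nrAll_of_powConj hFp c (PowConj.of_equiv e.symm ?_)
    intro z hz hz2
    obtain ⟨r, hr⟩ := CharP.exists F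
    obtain ⟨n, hrp, h⟩ := FiniteField.card F r
    have hr2 : r = 2 := by
      rw [h, even_iff_two_dvd] at he
      exact ((Nat.prime_dvd_prime_iff_eq Nat.prime_two hrp).1 (Nat.prime_two.dvd_of_dvd_pow he)).symm
    subst hr2
    haveI : Fact (Nat.Prime 2) := ⟨Nat.prime_two⟩
    rcases H906.PSL2_real_or_unip 2 z with ⟨y, hy⟩ | h2
    · exact ⟨y, by rw [hy]; exact ne_inv_of_odd hz hz2, by rw [hy]; exact inv_mem (mem_zpowers z)⟩
    · exact absurd ((Nat.prime_dvd_prime_iff_eq hz Nat.prime_two).1 (orderOf_dvd_of_pow_eq_one h2)) hz2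
  · refine nrAll_of_two hFp c fun K hK => (PslTwo.psl2_field c ho e hK).1 fun m hm => hex (Or.inl ?_)
    exact ⟨F, inferInstance, inferInstance, m, hm, ⟨e⟩⟩

/-- `PSp_2m(q)`, `q` odd -/
theorem nr_psp_odd {m : ℕ} (hm : 2 ≤ m) (hq : Odd (Fintype.card F)) (e : S ≃* PSp m F) : NrAll S := by
  by_cases h : (3 : F) = 0 → IsSquare (-1 : F)
  · exact nrAll_of_powConj hFp c ((psp_powConj hq h).of_equiv e.symm)
  · rw [Classical.not_imp] at h
    obtain ⟨h3, hns⟩ := h
    obtain ⟨f, hF⟩ := exists_three_odd h3 hns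
    by_cases hi : 2 ∣ S.index
    · exact nrAll_of_real hFp c (psp_real_even_index c hF h3 hm e hi)
    · intro K hK
      exact (psp_odd_index hFp c hF hm e hi hK).elim

/-- `PSp_2m(q)`, `q` even -/
theorem nr_psp_even [CharP F 2] {m : ℕ} (e : ↥S ≃* PSp m F) : NrAll S :=
  nrAll_of_powConj hFp c ((Cfsg.Agent.H518.Carter.psp m).of_equiv e.symm)

/-- `PSp_2m(q)` -/
theorem nr_psp {m : ℕ} (hm : 2 ≤ m) (e : S ≃* PSp m F) : NrAll S := by
  rcases Nat.even_or_odd (Fintype.card F) with he | ho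
  · obtain ⟨r, hr⟩ := CharP.exists F
    obtain ⟨n, hrp, h⟩ := FiniteField.card F r
    have hr2 : r = 2 := by
      rw [h, even_iff_two_dvd] at he
      exact ((Nat.prime_dvd_prime_iff_eq Nat.prime_two hrp).1 (Nat.prime_two.dvd_of_dvd_pow he)).symm
    subst hr2
    exact nr_psp_even hFp c e
  · exact nr_psp_odd hFp c hm ho e

end Cfsg.Agent.H18.Carter
end

-- part: H18/Carter/TwD4Real
section
/-!
# S3852: the row `³D₄(q)`, `q` odd, in the form `NrAll`

`real_of_comm` : in a group of type `G₂`, `³D₄` of odd characteristic `r` the elements of order `r` commuting with an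
involution are real.
-/

set_option autoImplicit false
set_option linter.unusedSectionVars false
set_option linter.unusedVariables false
set_option linter.unusedSimpArgs false
set_option linter.style.haveILetI false

namespace Cfsg.Agent.H18.Carter.TwD4

open Cfsg.Agent.Cit.HexBase Cfsg.Agent.Lib.SL2Mat

universe u

/-- elements of order `r` of `SL₂` in characteristic `r` -/
theorem exists_conj_up {K : Type*} [Field K] {r : ℕ} [hr : Fact r.Prime] [CharP K r] {x : SL2 K} (hx : x ^ r = 1) :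
    ∃ (g : SL2 K) (a : K), x = g * up a * g⁻¹ := by
  have hdet : (x.1 - 1).det = 0 := by
    have h1 : (x.1 - 1) ^ r = 0 := by
      rw [sub_pow_char_of_commute _ (Commute.one_right x.1), one_pow]
      have h2 := congrArg Subtype.val hx
      have h3 : x.1 ^ r = 1 := h2
      rw [h3, sub_self]
    have h2 := congrArg Matrix.det h1
    rw [Matrix.det_pow, Matrix.det_zero] at h2
    exact (pow_eq_zero_iff hr.out.ne_zero).1 h2
  have hd := det_eq x
  have htr : ent x 0 0 + ent x 1 1 = 2 := by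
    rw [Matrix.det_fin_two] at hdet
    simp only [Matrix.sub_apply, Matrix.one_apply_eq, ne_eq, zero_ne_one, not_false_eq_true, Matrix.one_apply_ne,
      one_ne_zero, sub_zero] at hdet
    have e1 : (ent x 0 0 - 1) * (ent x 1 1 - 1) - ent x 0 1 * ent x 1 0 = 0 := hdet
    linear_combination hd - e1
  by_cases hc : ent x 1 0 = 0
  · have ha : ent x 0 0 = 1 := by
      have e1 : (ent x 0 0 - 1) * (ent x 0 0 - 1) = 0 := by
        rw [hc] at hd
        linear_combination ent x 0 0 * htr - hd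
      have := mul_self_eq_zero.1 e1
      linear_combination this
    have hd1 : ent x 1 1 = 1 := by linear_combination htr - ha
    refine ⟨1, ent x 0 1, ?_⟩
    rw [one_mul, inv_one, mul_one]
    exact ext_ent ha rfl hc hd1
  · refine ⟨mk (ent x 0 0 - 1) (-(ent x 1 0)⁻¹) (ent x 1 0) 0 (by field_simp; ring), -(ent x 1 0)⁻¹, ?_⟩
    rw [eq_mul_inv_iff_mul_eq]
    have hd' : ent x 1 1 = 2 - ent x 0 0 := by linear_combination htr
    refine ext_ent ?_ ?_ ?_ ?_
    · simp only [ent_mul, mk_00, mk_01, mk_10, mk_11, up_00, up_01, up_10, up_11]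
      rw [hd'] at hd
      linear_combination -hd
    · simp only [ent_mul, mk_00, mk_01, mk_10, mk_11, up_00, up_01, up_10, up_11]
      field_simp
      ring
    · simp only [ent_mul, mk_00, mk_01, mk_10, mk_11, up_00, up_01, up_10, up_11]
      rw [hd']
      ring
    · simp only [ent_mul, mk_00, mk_01, mk_10, mk_11, up_00, up_01, up_10, up_11]
      field_simp
      ring

end Cfsg.Agent.H18.Carter.TwD4

namespace Cfsg.Agent.Cit.HexBase.HexGrp

open Cfsg.Agent.Cit.HexBase Cfsg.Agent.Lib.SL2Mat Cfsg.Agent.H18.Carter.TwD4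

universe u

variable {E : Type*} [Field E] {σ : E ≃+* E} {L : Type u} [Group L] (c : HexGrp σ L)

/-- `K₁ K₄` -/
def K14 : Subgroup L where
  carrier := {g | ∃ x y, g = c.pb x * c.p4 y}
  mul_mem' := by
    rintro _ _ ⟨x, y, rfl⟩ ⟨x', y', rfl⟩
    refine ⟨x * x', y * y', ?_⟩
    have h := c.comm_pb_p4 x' y
    rw [map_mul, map_mul]
    calc c.pb x * c.p4 y * (c.pb x' * c.p4 y') = c.pb x * (c.p4 y * c.pb x') * c.p4 y' := by group
      _ = _ := by rw [← h]; group
  one_mem' := ⟨1, 1, by rw [map_one, map_one, one_mul]⟩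
  inv_mem' := by
    rintro _ ⟨x, y, rfl⟩
    refine ⟨x⁻¹, y⁻¹, ?_⟩
    have h := c.comm_pb_p4 x⁻¹ y⁻¹
    rw [h, map_inv, map_inv]
    group

theorem sq_mem_K14 [Finite E] (h2 : (2 : E) ≠ 0) {g : L} (hg : g * c.z = c.z * g) : g * g ∈ c.K14 := by
  obtain ⟨x, y, t, ht, rfl⟩ := c.mem_CZ_form h2 hg
  have hA := c.act_a t ht
  have ht' : (t : E) ≠ 0 := fun h => ht (Subtype.ext h)
  obtain ⟨τ, hτ⟩ : ∃ τ, τ = c.pa (dg t ht) := ⟨_, rfl⟩
  have e1 : τ * c.pb x * τ⁻¹ ∈ c.K14 := by rw [hτ, hA.pb]; exact ⟨_, 1, by rw [map_one c.p4, mul_one]⟩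
  have e4 : τ * c.p4 y * τ⁻¹ ∈ c.K14 := by rw [hτ, c.pa_dg_p4 h2]; exact ⟨1, _, by rw [map_one c.pb, one_mul]⟩
  have e0 : τ * τ ∈ c.K14 := by
    have h1 : τ * τ = (c.pb (dg (t : E) ht'))⁻¹ * c.p4 (dg t ht) := by
      rw [hτ, ← map_mul, ← c.pa_dg_sq t ht]
      congr 1
      refine ext_ent ?_ ?_ ?_ ?_ <;> simp only [ent_mul, _root_.Fin.isValue, _root_.Cfsg.Agent.Lib.SL2Mat.dg_00, _root_.Cfsg.Agent.Lib.SL2Mat.dg_01, _root_.Cfsg.Agent.Lib.SL2Mat.dg_10, _root_.MulZeroClass.mul_zero, _root_.add_zero, _root_.Cfsg.Agent.Lib.SL2Mat.dg_11, _root_.MulZeroClass.zero_mul, _root_.zero_add] <;> ring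
    rw [h1, ← map_inv]
    exact ⟨_, _, rfl⟩
  rw [← hτ]
  have e : c.pb x * c.p4 y * τ * (c.pb x * c.p4 y * τ) =
      (c.pb x * c.p4 y) * ((τ * c.pb x * τ⁻¹) * (τ * c.p4 y * τ⁻¹)) * (τ * τ) := by group
  rw [e]
  exact mul_mem (mul_mem ⟨x, y, rfl⟩ (mul_mem e1 e4)) e0

/-- **elements of order `r` commuting with `z` are real** -/
theorem real_of_comm_z (c : HexGrp σ L) [Finite E] (h2 : (2 : E) ≠ 0) {r : ℕ} [hr : Fact r.Prime] [CharP E r] (hr2 : r ≠ 2) {g : L}
    (hg : g * c.z = c.z * g) (hgr : g ^ r = 1) : ∃ k : L, k * g * k⁻¹ = g⁻¹ := by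
  have hchF : CharP ↥(fx σ) r := RingHom.charP (fx σ).subtype (fx σ).subtype_injective r
  obtain ⟨m, hm⟩ := (hr.out.odd_of_ne_two hr2)
  have hgK : g ∈ c.K14 := by
    have e : g = (g * g) ^ (m + 1) := by
      rw [← pow_two, ← pow_mul]
      have e1 : 2 * (m + 1) = r + 1 := by omega
      rw [e1, pow_succ, hgr, one_mul]
    rw [e]
    exact pow_mem (c.sq_mem_K14 h2 hg) _
  obtain ⟨x, y, rfl⟩ := hgK
  -- adjust the signs
  obtain ⟨x, y, hxy, hx, hy⟩ : ∃ (x' : SL2 E) (y' : SL2 ↥(fx σ)), c.pb x * c.p4 y = c.pb x' * c.p4 y' ∧ x' ^ r = 1 ∧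
      y' ^ r = 1 := by
    have hcom : Commute (c.pb x) (c.p4 y) := c.comm_pb_p4 x y
    rw [hcom.mul_pow, ← map_pow, ← map_pow] at hgr
    have h1 : c.pb (x ^ r) = c.p4 (y ^ r)⁻¹ := by
      rw [map_inv]
      exact eq_inv_of_mul_eq_one_left hgr
    have h3 := c.eq_of_pb_eq_p4 h1
    have h4 : c.p4 (y ^ r) = 1 ∨ c.p4 (y ^ r) = c.z := by
      rcases h3 with h | h
      · left
        rw [h, one_mul] at hgr
        exact hgr
      · right
        rw [h] at hgr
        rw [← c.z_inv]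
        exact eq_inv_of_mul_eq_one_right hgr
    have hme : ∀ {K : Type _} [Field K] (w : SL2 K), w ^ r = dg (-1) (neg_ne_zero.2 one_ne_zero) →
        (w * dg (-1) (neg_ne_zero.2 one_ne_zero)) ^ r = 1 := by
      intro K _ w hw
      have hc : Commute w (dg (-1 : K) (neg_ne_zero.2 one_ne_zero)) := by
        refine ext_ent ?_ ?_ ?_ ?_ <;> simp [ent_mul]
      have hsq : (dg (-1 : K) (neg_ne_zero.2 one_ne_zero)) * dg (-1 : K) (neg_ne_zero.2 one_ne_zero) = 1 := by
        refine ext_ent ?_ ?_ ?_ ?_ <;> simp [ent_mul]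
      rw [hc.mul_pow, hw, ← pow_succ', hm]
      have e1 : 2 * m + 1 + 1 = 2 * (m + 1) := by ring
      rw [e1, pow_mul, pow_two, hsq, one_pow]
    rcases h3 with h | h
    · have hx := c.pb_inj h2 (h.trans (map_one c.pb).symm)
      rw [h, one_mul] at hgr
      exact ⟨x, y, rfl, hx, c.p4_inj (hgr.trans (map_one c.p4).symm)⟩
    · have hx : x ^ r = dg (-1) (neg_ne_zero.2 one_ne_zero) := c.pb_inj h2 h
      have h5 : c.p4 (y ^ r) = c.z := by
        rw [h] at hgr
        rw [← c.z_inv]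
        exact eq_inv_of_mul_eq_one_right hgr
      have hy : y ^ r = dg (-1) (neg_ne_zero.2 one_ne_zero) := c.p4_inj (h5.trans c.z_eq_p4)
      refine ⟨x * dg (-1) (neg_ne_zero.2 one_ne_zero), y * dg (-1) (neg_ne_zero.2 one_ne_zero), ?_, hme x hx, hme y hy⟩
      rw [map_mul, map_mul, ← c.z_eq_p4]
      have h6 := c.z_p4 y
      have h7 : c.pb (dg (-1) (neg_ne_zero.2 one_ne_zero)) = c.z := rfl
      rw [h7]
      calc c.pb x * c.p4 y = c.pb x * (c.p4 y * (c.z * c.z)) := by rw [c.z_sq, mul_one]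
        _ = c.pb x * (c.p4 y * c.z) * c.z := by group
        _ = c.pb x * (c.z * c.p4 y) * c.z := by rw [h6]
        _ = _ := by group
  rw [hxy]
  obtain ⟨g1, a, rfl⟩ := exists_conj_up hx
  obtain ⟨g2, b, rfl⟩ := exists_conj_up hy
  -- conjugate into the root groups
  obtain ⟨P, hP⟩ : ∃ P, P = c.pb g1 * c.p4 g2 := ⟨_, rfl⟩
  have e1 : c.pb (g1 * up a * g1⁻¹) * c.p4 (g2 * up b * g2⁻¹) = P * (c.pb (up a) * c.p4 (up b)) * P⁻¹ := by
    have k1 := c.comm_pb_p4 (up a * g1⁻¹) g2
    have k2 := c.comm_pb_p4 g1⁻¹ (up b)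
    have k3 := c.comm_pb_p4 g1⁻¹ g2⁻¹
    have k4 := c.comm_pb_p4 (up a) g2
    simp only [map_mul, map_inv] at k1 k2 k3 k4 ⊢
    rw [hP]
    calc c.pb g1 * c.pb (up a) * (c.pb g1)⁻¹ * (c.p4 g2 * c.p4 (up b) * (c.p4 g2)⁻¹)
        = c.pb g1 * (c.pb (up a) * (c.pb g1)⁻¹ * c.p4 g2) * c.p4 (up b) * (c.p4 g2)⁻¹ := by group
      _ = c.pb g1 * c.p4 g2 * c.pb (up a) * ((c.pb g1)⁻¹ * c.p4 (up b)) * (c.p4 g2)⁻¹ := by rw [k1]; group
      _ = c.pb g1 * c.p4 g2 * c.pb (up a) * c.p4 (up b) * ((c.pb g1)⁻¹ * (c.p4 g2)⁻¹) := by rw [k2]; group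
      _ = c.pb g1 * c.p4 g2 * (c.pb (up a) * c.p4 (up b)) * (c.pb g1 * c.p4 g2)⁻¹ := by rw [k3]; group
  rw [e1]
  have hne : (-1 : ↥(fx σ)) ≠ 0 := neg_ne_zero.2 one_ne_zero
  obtain ⟨h0, hh0⟩ : ∃ h0, h0 = c.pa (dg (-1) hne) := ⟨_, rfl⟩
  have hA := c.act_a (-1) hne
  have f1 : h0 * c.pb (up a) * h0⁻¹ = c.pb (up (-a)) := by
    rw [hh0, hA.pb, conjGL_dgl_up]
    congr 2
    simp only [_root_.NegMemClass.coe_neg, _root_.OneMemClass.coe_one, _root_.inv_neg, _root_.inv_one, _root_.neg_mul, _root_.one_mul]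
  have f4 : h0 * c.p4 (up b) * h0⁻¹ = c.p4 (up (-b)) := by
    rw [hh0, c.pa_dg_p4 h2, conjGL_dgl_up]
    congr 2
    simp
  refine ⟨P * h0 * P⁻¹, ?_⟩
  have k5 := c.comm_pb_p4 (up a) (up b)
  calc P * h0 * P⁻¹ * (P * (c.pb (up a) * c.p4 (up b)) * P⁻¹) * (P * h0 * P⁻¹)⁻¹
      = P * ((h0 * c.pb (up a) * h0⁻¹) * (h0 * c.p4 (up b) * h0⁻¹)) * P⁻¹ := by group
    _ = P * (c.pb (up a) * c.p4 (up b))⁻¹ * P⁻¹ := by
      rw [f1, f4, ← up_inv, ← up_inv, map_inv, map_inv, k5, mul_inv_rev]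
    _ = _ := by group

/-- **elements of order `r` commuting with an involution are real** -/
theorem real_of_comm (c : HexGrp σ L) [Finite E] [Finite L] (h2 : (2 : E) ≠ 0) {r : ℕ} [hr : Fact r.Prime] [CharP E r] (hr2 : r ≠ 2)
    {g t : L} (ht : t * t = 1) (ht1 : t ≠ 1) (hg : g * t = t * g) (hgr : g ^ r = 1) : ∃ k : L, k * g * k⁻¹ = g⁻¹ := by
  obtain ⟨w, hw⟩ := isConj_iff.1 (c.isConj_z h2 ht ht1)
  obtain ⟨k, hk⟩ := c.real_of_comm_z h2 hr2 (g := w * g * w⁻¹) (by
    rw [← hw]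
    calc w * g * w⁻¹ * (w * t * w⁻¹) = w * (g * t) * w⁻¹ := by group
      _ = w * (t * g) * w⁻¹ := by rw [hg]
      _ = _ := by group) (by rw [conj_pow, hgr, mul_one, mul_inv_cancel])
  refine ⟨w⁻¹ * k * w, ?_⟩
  calc w⁻¹ * k * w * g * (w⁻¹ * k * w)⁻¹ = w⁻¹ * (k * (w * g * w⁻¹) * k⁻¹) * w := by group
    _ = w⁻¹ * (w * g * w⁻¹)⁻¹ * w := by rw [hk]
    _ = _ := by group

end Cfsg.Agent.Cit.HexBase.HexGrp

namespace Cfsg.Agent.H18.Carter

open Subgroup Cfsg Cfsg.Lie Cfsg.Agent.Solvable.Carter Cfsg.Agent.H381.Car Cfsg.Agent.BpExc Cfsg.Agent.H696.GmnUntw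

universe u

variable {G : Type u} [Group G] [Finite G] {S : Subgroup G} [S.Normal]

/-- **`³D₄(q)`, `q` odd.** -/
theorem nr_3d4_odd (hF : Fpf.{u}) (c : Ctx G S) {K : Type} [Field K] [Fintype K] {q : ℕ} (hq : IsPrimePow q)
    (hodd : Odd q) (hK : Fintype.card K = q ^ 3) (e : S ≃* ↥(twistedD4 K q)) : NrAll S := by
  obtain ⟨r, n, hr, hn0, hn⟩ := (isPrimePow_nat_iff _).1 hq
  have hrr : Fact r.Prime := ⟨hr⟩
  have hch : CharP K r := by
    obtain ⟨p, hp⟩ := CharP.exists K
    obtain ⟨m, h1, h2⟩ := FiniteField.card K p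
    have h3 : p ∣ r ^ (n * 3) := by
      rw [pow_mul, hn, ← hK, h2]
      exact dvd_pow_self p m.ne_zero
    have h4 := (Nat.prime_dvd_prime_iff_eq h1 hr).1 (h1.dvd_of_dvd_pow h3)
    rwa [h4] at hp
  have hr2 : r ≠ 2 := by
    rintro rfl
    rw [← hn] at hodd
    exact (Nat.not_even_iff_odd.2 hodd) (Nat.even_pow.2 ⟨even_two, hn0.ne'⟩)
  have hZ : center ↥(twistedD4 K q) = ⊥ := center_eq_bot_of_simple (S1071.result hq hK)
  haveI h2f : Fact (Nat.Prime 2) := ⟨Nat.prime_two⟩
  have h2 : (2 : K) ≠ 0 := by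
    intro h
    have h1 := (CharP.cast_eq_zero_iff K r 2).1 (by exact_mod_cast h)
    exact hr2 ((Nat.prime_dvd_prime_iff_eq hr Nat.prime_two).1 h1)
  refine nrAll_of_two hF c fun C hC => ?_
  have hd : ∀ l : ℕ, l.Prime → l ∣ Nat.card ↥(C ⊓ S) → l = 2 ∨ l = r := by
    intro l hl hld
    by_contra hne
    push Not at hne
    have : Fact l.Prime := ⟨hl⟩
    exact not_dvd_of_isConj_inv c e hne.1
      (fun z hz => Cfsg.Agent.H696.GmnTwD4.isConj_inv_d4 hne.2 hn0 hn.symm hK hz) hC hld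
  have heven := even_of_sylInv hF c e hr2 (sylInv_twD4 hq hK hr2 hZ) hC hd
  rw [IsPGroup.iff_card]
  refine ⟨_, Nat.eq_prime_pow_of_unique_prime_dvd Nat.card_pos.ne' ?_⟩
  intro l hl hld
  rcases hd l hl hld with h | h
  · exact h
  exfalso
  subst h
  obtain ⟨z, hzS, hzC, hzo, hzc⟩ := exists_central (S := S) hC.1 hld
  obtain ⟨t, htS, htC, hto, htc⟩ := exists_central (S := S) hC.1 heven
  have hzt : t * z = z * t := mem_centralizer_singleton_iff.1 (hzc htC)
  obtain ⟨σ, -, ⟨x⟩⟩ := Cfsg.Agent.Cit.HexD4.exists_d4 hK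
  have hfin : Finite ↥(twistedD4 K q) := Finite.of_equiv S e.toEquiv
  set! z' : S := ⟨z, hzS⟩ with hz'
  set! t' : S := ⟨t, htS⟩ with ht'
  obtain ⟨k, hk⟩ := x.real_of_comm (g := e z') (t := e t') h2 hr2 (by
      rw [← map_mul, ← map_one e]
      congr 1
      apply Subtype.ext
      show t * t = 1
      rw [← pow_two, ← hto, pow_orderOf_eq_one]) (by
      intro h
      have h1 : t' = 1 := e.injective (h.trans (map_one e).symm)
      have h3 : t = 1 := congrArg Subtype.val h1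
      rw [h3, orderOf_one] at hto
      omega) (by
      rw [← map_mul, ← map_mul]
      congr 1
      exact Subtype.ext hzt.symm) (by
      rw [← map_pow, ← map_one e]
      congr 1
      apply Subtype.ext
      show z ^ l = 1
      rw [← hzo, pow_orderOf_eq_one])
  have h1 : e.symm k * z' * (e.symm k)⁻¹ = z'⁻¹ := by
    apply e.injective
    rw [map_mul, map_mul, map_inv, map_inv, e.apply_symm_apply, hk]
  have h3 : (e.symm k : G) * z * (e.symm k : G)⁻¹ = z⁻¹ := congrArg Subtype.val h1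
  have h4 := c.eq_of_conj hC hzc (g := (e.symm k : G)) (by
    rw [h3]
    intro y hy
    have := mem_centralizer_singleton_iff.1 (hzc hy)
    rw [mem_centralizer_singleton_iff]
    exact (Commute.inv_right this : Commute y z⁻¹))
  rw [h3] at h4
  exact ne_inv_of_odd (hzo ▸ hl) (hzo ▸ hr2) h4

end Cfsg.Agent.H18.Carter
end

-- part: H18/Carter/NrLie
section
/-!
# S3852: the rows in the form `NrAll` (second part: exceptional groups other than `E₆`)
-/

set_option autoImplicit false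
set_option linter.unusedSectionVars false
set_option linter.unusedVariables false
set_option linter.style.haveILetI false

namespace Cfsg.Agent.H18.Carter

open Subgroup Pointwise Module Cfsg Cfsg.Lie
open Cfsg.Agent.Solvable.Carter

universe u

theorem charP_two_of_even {F : Type} [Field F] [Fintype F] (he : Even (Fintype.card F)) : CharP F 2 := by
  obtain ⟨r, hr⟩ := CharP.exists F
  obtain ⟨n, hrp, h⟩ := FiniteField.card F r
  have hr2 : r = 2 := by
    rw [h, even_iff_two_dvd] at he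
    exact ((Nat.prime_dvd_prime_iff_eq Nat.prime_two hrp).1 (Nat.prime_two.dvd_of_dvd_pow he)).symm
  subst hr2
  exact hr

variable {G : Type u} [Group G] [Finite G] {S : Subgroup G} [S.Normal] (hFp : Cfsg.Agent.H381.Car.Fpf.{u}) (c : Ctx G S)
  {F : Type} [Field F] [Fintype F]

include hFp c

theorem nr_g2 (e : S ≃* ↥(chevG2.group F)) : NrAll S := by
  rcases Nat.even_or_odd (Fintype.card F) with he | ho
  · haveI := charP_two_of_even he
    exact nrAll_of_powConj hFp c (Cfsg.Agent.H518.Carter.g2.of_equiv e.symm)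
  · exact nrAll_of_two hFp c fun K hK => Cfsg.Agent.H381.Car.two_g2 c F ho e hK

theorem nr_f4 (e : S ≃* ↥(chevF4.group F)) : NrAll S := by
  rcases Nat.even_or_odd (Fintype.card F) with he | ho
  · haveI := charP_two_of_even he
    exact nrAll_of_powConj hFp c (Cfsg.Agent.H518.Carter.f4.of_equiv e.symm)
  · exact nrAll_of_two hFp c fun K hK => Cfsg.Agent.H381.Car.two_f4 c F ho e hK

theorem nr_e7 (e : S ≃* ↥(chevE7.group F)) : NrAll S := by
  rcases Nat.even_or_odd (Fintype.card F) with he | ho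
  · haveI := charP_two_of_even he
    exact nrAll_of_powConj hFp c (Cfsg.Agent.H518.Carter.e7.of_equiv e.symm)
  · exact nrAll_of_two hFp c fun K hK => Cfsg.Agent.H381.Car.two_e7 c F ho e hK

theorem nr_e8 (e : S ≃* ↥(chevE8.group F)) : NrAll S := by
  rcases Nat.even_or_odd (Fintype.card F) with he | ho
  · haveI := charP_two_of_even he
    exact nrAll_of_powConj hFp c (Cfsg.Agent.H518.Carter.e8.of_equiv e.symm)
  · exact nrAll_of_two hFp c fun K hK => Cfsg.Agent.H381.Car.two_e8 c F ho e hK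

theorem nr_3d4 {q : ℕ} (hq : IsPrimePow q) (hK : Fintype.card F = q ^ 3) (e : S ≃* ↥(twistedD4 F q)) : NrAll S := by
  rcases Nat.even_or_odd q with he | ho
  · haveI := charP_two_of_even (F := F) (by rw [hK]; exact (Nat.even_pow.2 ⟨he, by norm_num⟩))
    exact nrAll_of_powConj hFp c ((Cfsg.Agent.H518.Carter.d4 hq hK).of_equiv e.symm)
  · exact nr_3d4_odd hFp c hq ho hK e

omit [Field F] [Fintype F] in
theorem nr_2f4 (h : Lie.Iso2F4 ↥S) : NrAll S := by
  obtain ⟨K, _, _, m, -, hK, ⟨e⟩⟩ := h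
  exact nrAll_of_powConj hFp c ((Cfsg.Agent.H518.Carter.tw hK).of_equiv e.symm)

omit [Field F] [Fintype F] in
theorem nr_sz (h : Lie.IsoSuzuki ↥S) : NrAll S := by
  obtain ⟨K, _, _, m, hm, hK, ⟨e⟩⟩ := h
  have hs := c.simple
  have hs' : IsSimpleGroup ↥(Lie.Sz K (2 ^ (m + 1))) := e.symm.isSimpleGroup
  refine nrAll_of_powConj hFp c ((Cfsg.Agent.H518.Carter.sz hm hK fun h => c.na fun a b => e.injective ?_).of_equiv
    e.symm)
  rw [map_mul, map_mul, h]

end Cfsg.Agent.H18.Carter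
end
end

-- part: H310/Car/E6Row
section
set_option linter.all false
open scoped Cfsg.Agent.FastGrp

/-!
# S3852: the rows `E₆(q)`, `²E₆(q)`, `q` even, from `GoodSt` (helper310)
-/

set_option autoImplicit false
set_option linter.unusedSectionVars false

namespace Cfsg.Agent.H310.E6

open Subgroup Cfsg.Agent.Solvable.Carter Cfsg.Agent.H18.Carter Cfsg.Agent.H381.Car
open Cfsg.Agent.H607.Car (Six GoodSt GoodAt Rigid OCSt Yb)
open Cfsg.Agent.KFacts.RgdFilt (HasFilt)

universe u

/-- **T10** -/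
theorem ocSt {n : ℕ} {ε : ℤ} {X : Type} [Group X] {ι : X →* Yb 2} {σ : MulAut (Yb 2)} (h : Six 2 n ε ι σ)
    (hG : GoodSt 2 n ε ι σ) : OCSt X := by
  intro z hz hz2 hr
  obtain ⟨v, t, m, g⟩ := hG z hz hz2 hz2 hr
  exact oc_of_good h.inj g

variable {G : Type u} [Group G] [Finite G] {S : Subgroup G} [S.Normal]

/-- the centraliser has even order -/
theorem two_dvd_of_ocSt (hFp : Fpf.{u}) (hFT : Cfsg.Agent.H460.Car.FT.{u}) (c : Ctx G S) {X : Type} [Group X]
    (hX : OCSt X) (e : S ≃* X) {K : Subgroup G} (hK : IsCarter K) {z : G} (hz : z ∈ S)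
    (hzK : K ≤ centralizer ({z} : Set G)) {p : ℕ} (hp : p.Prime) (hp2 : p ≠ 2) (ho : orderOf z = p) :
    2 ∣ Nat.card ↥(S ⊓ centralizer ({z} : Set G)) := by
  by_contra h2
  have hodd : Odd (Nat.card ↥(S ⊓ centralizer ({z} : Set G))) := by
    rw [← Nat.not_even_iff_odd, even_iff_two_dvd]; exact h2
  have hs : Group.IsSolvable ↥(S ⊓ centralizer ({z} : Set G)) := hFT _ hodd
  have h5 := Cfsg.Agent.H310.Car.solvable_normalizer_cent hFp c.min (S := S) inferInstance hK hzK hs
  have hθ : Function.Injective e.toMonoidHom := e.injective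
  have hE : e.toMonoidHom.range = ⊤ := MonoidHom.range_eq_top.2 e.surjective
  have h1 := Cfsg.Agent.H310.OC.map_cent hθ hE hz
  rw [top_inf_eq] at h1
  have hoz : orderOf (e ⟨z, hz⟩) = p := by
    rw [MulEquiv.orderOf_eq, Subgroup.orderOf_mk, ho]
  have hrig : Rigid (e ⟨z, hz⟩) := by
    intro g hg
    obtain ⟨s, rfl⟩ := e.surjective g
    rw [← map_inv, ← map_mul, ← map_mul] at hg ⊢
    obtain ⟨k, hk⟩ := mem_zpowers_iff.1 hg
    rw [← map_zpow] at hk
    have h3 := congrArg Subtype.val (e.injective hk)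
    have h3 : z ^ k = (s : G) * z * (s : G)⁻¹ := h3
    have h4 := c.eq_of_conj hK hzK (g := (s : G)) (by
      rw [← h3]
      intro y hy
      have h6 := mem_centralizer_singleton_iff.1 (hzK hy)
      exact mem_centralizer_singleton_iff.2 (Commute.zpow_right (show Commute y z from h6) k))
    exact congrArg e (Subtype.ext h4)
  rcases hX (e ⟨z, hz⟩) (hoz ▸ hp) (hoz ▸ hp2) hrig with h3 | h3
  · have h4 : Nat.card (((S ⊓ centralizer ({z} : Set G) : Subgroup G).subgroupOf S).map e.toMonoidHom) =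
        Nat.card (centralizer ({e.toMonoidHom ⟨z, hz⟩} : Set X)) := by rw [h1]
    rw [Cfsg.Agent.H310.OC.card_map hθ inf_le_left] at h4
    rw [h4] at h2
    exact h2 h3.two_dvd
  · apply h3
    rw [← Cfsg.Agent.H310.OC.solvable_map_iff hθ inf_le_left] at h5
    have h6 := Cfsg.Agent.H310.OC.map_normalizer_le hθ hE (A := S ⊓ centralizer ({z} : Set G)) inf_le_left
    rw [top_inf_eq, h1] at h6
    haveI := h5
    exact Group.isSolvable_of_isSolvable_injective (f := inclusion h6) (inclusion_injective _)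

/-- **The row.** -/
theorem nrAll_of_ocSt (hFp : Fpf.{u}) (hFT : Cfsg.Agent.H460.Car.FT.{u}) (hE : Cfsg.Agent.H460.Car.ExcOk.{u})
    (c : Ctx G S) (IH : IHr G) {X : Type} [Group X] (hX : OCSt X) (hF : HasFilt 2 ↥S) (e : S ≃* X) : NrAll S := by
  refine Cfsg.Agent.H460.Car.nrAll_even hFp hFT hE c IH hF ?_
  intro K hK r hr hr2 z hzS _ ho hzK
  exact Or.inl (two_dvd_of_ocSt hFp hFT c hX e hK hzS hzK hr hr2 ho)

end Cfsg.Agent.H310.E6
end

-- part: H502/Car/Rows_mg
section
prune_inst 0x70106704480002000000800030201e628a000420000804000cc1020006884c4004800860a02001035aa0000d00350068130000004040000004200000011d018000000000b0080008000018000000000000000000000000000000000000000000000000000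
set_option linter.all false
open scoped Cfsg.Agent.FastGrp

-- part: H502/Car/Three
section
/-!
# S3852: no central elements of order three in characteristic three (orthogonal groups, helper502)
-/

set_option autoImplicit false
set_option linter.unusedSectionVars false

namespace Cfsg.Agent.H502.Car

open QuadraticMap Cfsg.Agent.LieClassical.OrthCore Cfsg.Agent.LieClassical.OrthTrans
  Cfsg.Agent.LieClassical.OrthSimple Cfsg.Agent.ClassicalGeometry.OrthSemi
  Cfsg.Agent.ClassicalGeometry.OrthAut1 Cfsg.Agent.H989.OutOrth.Basic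
open Subgroup Pointwise Cfsg.Agent.Solvable.Carter Cfsg.Agent.H18.Carter Cfsg.Agent.H381.Car

universe u

theorem eta_sq (F : Type*) [Field F] : eta F * eta F = 1 := by
  rw [eta]; split_ifs <;> norm_num

theorem not_real {F V : Type*} [Field F] [AddCommGroup V] [Module F V] {Q : QuadraticForm F V}
    {G : Type u} [Group G] [Finite G] {S : Subgroup G} [S.Normal] (hG : Good Q) (c : Ctx G S) {K : Subgroup G}
    (hK : IsCarter K) (e : S ≃* P Q) (hs : ∀ g : G, ∃ M : Gam Q, Lf e g M) {z : ↥(E Q)} (hz : z ^ 3 = 1) (hz1 : z ≠ 1)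
    (hzK : Fx e K z) : ¬ ∃ h ∈ E Q, h * z.1 * h⁻¹ = z.1⁻¹ := by
  rintro ⟨h, hh, hhz⟩
  have h3 : (⟨h, hh⟩ : ↥(E Q)) * z * (⟨h, hh⟩ : ↥(E Q))⁻¹ = z ^ 2 := by
    have e1 : z ^ 2 = z⁻¹ := by
      rw [eq_inv_iff_mul_eq_one, ← pow_succ, hz]
    rw [e1]
    exact Subtype.ext hhz
  have h4 := no_conj_pow hG c hs hK (n := 3) (by decide) hz hzK h3
  apply hz1
  have := hz
  rw [pow_succ, h4, ← pow_two, h4] at this
  exact this

theorem no_three (hFT : FrameTs.{u}) {F : Type} [Field F] [Finite F] {ι : Type} [Fintype ι] [DecidableEq ι]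
    {Q : QuadraticForm F (ι → F)} (hG : Good Q) [CharP F 3] (h7 : 7 ≤ Fintype.card ι)
    {G : Type u} [Group G] [Finite G] {S : Subgroup G} [S.Normal] (c : Ctx G S) {K : Subgroup G}
    (hK : IsCarter K) (e : S ≃* P Q) (hs : ∀ g : G, ∃ M : Gam Q, Lf e g M) {z : ↥(E Q)} (hz : z ^ 3 = 1) (hz1 : z ≠ 1)
    (hzK : Fx e K z) : False := by
  have hnr := not_real hG c hK e hs hz hz1 hzK
  have h2 : (2 : F) ≠ 0 := two_ne
  have hzO : z.1 ∈ O Q := E_le_O z.2
  have hz' : z.1 ^ 3 = 1 := congrArg Subtype.val hz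
  obtain ⟨h, hO, hh1, hh2, m, hm, hh3⟩ := exists_inverting hG.nondeg hzO hz'
  obtain ⟨N, hN, hNv⟩ : ∃ N : (ι → F) →ₗ[F] (ι → F), N = (z.1 : (ι → F) →ₗ[F] (ι → F)) - LinearMap.id ∧
      ∀ v, N v = z.1 v - v := ⟨_, rfl, fun _ => rfl⟩
  rw [← hN] at hm
  -- `m` is odd
  have hmo : Odd m := by
    by_contra hcon
    rw [Nat.not_odd_iff_even] at hcon
    obtain ⟨k, hk⟩ := hcon
    apply hnr
    refine real_of_sg hG hO hh1 hh2 ?_
    rw [hh3, hk, ← two_mul, pow_mul, pow_two, eta_sq, one_pow]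
  -- rank of the square
  have hr : Module.finrank F (LinearMap.range ((lg z.1).comp (lg z.1))) ≤ 1 := by
    by_contra hcon
    exact hnr (real_of_rank hG hzO hz' (by omega))
  obtain ⟨W, hW⟩ : ∃ W, W = LinearMap.range ((lg z.1).comp (lg z.1)) := ⟨_, rfl⟩
  rw [← hW] at hr
  have hWm : ∀ w, w ∈ W ↔ ∃ v, z.1 (z.1 v) + z.1 v + v = w := by
    intro w
    rw [hW, LinearMap.mem_range]
    constructor
    · rintro ⟨v, rfl⟩
      exact ⟨v, (lg_lg hz' v).symm⟩
    · rintro ⟨v, rfl⟩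
      exact ⟨v, lg_lg hz' v⟩
  have hNN : ∀ v, N (N v) = z.1 (z.1 v) + z.1 v + v := by
    intro v
    rw [hNv, hNv, map_sub]
    have : z.1 (z.1 v) - z.1 v - (z.1 v - v) = z.1 (z.1 v) + z.1 v + v - (3 : F) • z.1 v := by module
    rw [this, three_smul_eq, sub_zero]
  have hWN : W = (LinearMap.range N).map N := by
    ext w
    rw [hWm]
    constructor
    · rintro ⟨v, rfl⟩
      exact ⟨N v, ⟨v, rfl⟩, hNN v⟩
    · rintro ⟨_, ⟨v, rfl⟩, rfl⟩
      exact ⟨v, (hNN v).symm⟩
  obtain ⟨R, hR⟩ : ∃ R, R = LinearMap.range N ⊓ LinearMap.ker N := ⟨_, rfl⟩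
  have hRm : ∀ r, r ∈ R ↔ (∃ v, z.1 v - v = r) ∧ z.1 r = r := by
    intro r
    rw [hR, Submodule.mem_inf, LinearMap.mem_range, LinearMap.mem_ker, hNv, sub_eq_zero]
    simp only [hNv]
  have hWR : W ≤ R := by
    intro w hw
    obtain ⟨v, rfl⟩ := (hWm w).1 hw
    rw [hRm]
    refine ⟨⟨N v, ?_⟩, ?_⟩
    · rw [← hNv, hNN]
    · rw [map_add, map_add, zzz hz']; abel
  have hTs : Ts Q R := by
    intro r hr
    obtain ⟨⟨v, hv⟩, hr2⟩ := (hRm r).1 hr
    apply Q_eq_zero h2
    have h3 := polar_map hzO v r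
    rw [hr2] at h3
    nth_rewrite 1 [← hv]
    rw [polar_sub_left, h3, sub_self]
  have hLz : ∀ k ∈ K, ∀ L : Gam Q, Lf e k L → ∀ v, L.1 (z.1 v) = z.1 (L.1 v) := by
    intro k hk L hL v
    have h3 : conjLin L z.1 = z.1 := congrArg Subtype.val (hzK k hk L hL)
    rw [← conjLin_apply' L z.1, h3]
  have hRK : Iv e K R := by
    intro k hk L hL r hr
    obtain ⟨⟨v, hv⟩, hr2⟩ := (hRm r).1 hr
    rw [hRm]
    refine ⟨⟨L.1 v, ?_⟩, ?_⟩
    · rw [← hLz k hk L hL, ← gam_sub, hv]
    · rw [← hLz k hk L hL, hr2]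
  have hWK : Iv e K W := by
    intro k hk L hL w hw
    obtain ⟨v, rfl⟩ := (hWm w).1 hw
    rw [hWm]
    refine ⟨L.1 v, ?_⟩
    rw [add_of_mem L.2, add_of_mem L.2, hLz k hk L hL, hLz k hk L hL]
  have hRz : ∀ r ∈ R, ∃ v, z.1 v - v = r := fun r hr => ((hRm r).1 hr).1
  -- dimensions
  have hfr : Module.finrank F W + Module.finrank F R = 2 * m := by
    rw [← hm]
    have h3 := LinearMap.finrank_range_add_finrank_ker (N.domRestrict (LinearMap.range N))
    have h4 : LinearMap.range (N.domRestrict (LinearMap.range N)) = W := by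
      rw [hWN]
      ext w
      constructor
      · rintro ⟨⟨v, hv⟩, rfl⟩
        exact ⟨v, hv, rfl⟩
      · rintro ⟨v, hv, rfl⟩
        exact ⟨⟨v, hv⟩, rfl⟩
    have h5 : (LinearMap.ker (N.domRestrict (LinearMap.range N))).map (LinearMap.range N).subtype = R := by
      rw [hR]
      ext w
      constructor
      · rintro ⟨⟨v, hv⟩, hv2, rfl⟩
        exact ⟨hv, hv2⟩
      · rintro ⟨hv, hv2⟩
        exact ⟨⟨w, hv⟩, hv2, rfl⟩
    have h6 := (Submodule.equivMapOfInjective (LinearMap.range N).subtype (LinearMap.range N).subtype_injective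
      (LinearMap.ker (N.domRestrict (LinearMap.range N)))).finrank_eq
    rw [h5] at h6
    rw [h4, h6] at h3
    exact h3
  have hker : Module.finrank F (LinearMap.ker N) + 2 * m = Fintype.card ι := by
    have h3 := LinearMap.finrank_range_add_finrank_ker N
    rw [hm, Module.finrank_fintype_fun_eq_card] at h3
    omega
  have hhyp : Module.finrank F R + 3 ≤ Module.finrank F (LinearMap.ker N) → False := by
    intro h3
    apply hnr
    rw [hN] at h3
    exact real_of_hyp hG z.1 hzO hz' (exists_hyp_ker hG.nondeg hzO hz' (fun v h4 h5 => (hRm v).2 ⟨h5, h4⟩)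
      (fun v hv => ((hRm v).1 hv).2) h3)
  by_cases h1 : m = 1
  · apply hhyp
    omega
  · have hm0 : m ≠ 0 := by rintro rfl; exact absurd hmo (by decide)
    by_cases h0 : W = ⊥
    · -- `(z - 1)² = 0`
      have hR2 : Module.finrank F R = 2 * m := by
        rw [h0, finrank_bot] at hfr; omega
      obtain ⟨W', hW'R, hW'0, hW'1, hW'2, hW'K⟩ := hFT F ι Q hG h2 G S c K hK e hs R hTs hRK m hR2 hmo (by
        obtain ⟨k, hk⟩ := hmo; omega)
      exact no_chain hG (real_of_hyp hG) c hK e hs hz hzK hTs hW'R hW'0 hW'1 hW'K hRK hRz (Or.inl hW'2)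
    · have hW1 : Module.finrank F W = 1 := by
        have : Module.finrank F W ≠ 0 := by rw [Ne, Submodule.finrank_eq_zero]; exact h0
        omega
      refine no_chain hG (real_of_hyp hG) c hK e hs hz hzK hTs hWR h0 ?_ hWK hRK hRz (Or.inr ?_)
      · intro h3
        rw [h3] at hfr hW1
        omega
      · have : Module.finrank F R - Module.finrank F W = 2 * (m - 1) := by omega
        rw [this]
        exact even_two_mul _

end Cfsg.Agent.H502.Car
end

-- part: H502/Car/Four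
section
/-!
# S3852: a unipotent element `z` of an orthogonal group in characteristic `p ≥ 5` is conjugate to `z ^ 4` in `E Q`
(helper502)

`z` is conjugate to `z ^ 2` in `O Q` (the blocks of even size carry alternating forms, which have similitudes of all
multipliers, the multipliers of the blocks of odd size are squares), and the square of the conjugating element is in `E Q`.
-/

set_option autoImplicit false
set_option linter.unusedSectionVars false

namespace Cfsg.Agent.H502.Car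

open QuadraticMap Cfsg.Agent.LieClassical.OrthCore Cfsg.Agent.LieClassical.OrthTrans
  Cfsg.Agent.LieClassical.OrthSimple Cfsg.Agent.H904.FR Cfsg.Agent.H721.FR Cfsg.Agent.H721.SR Cfsg.Agent.H955.FS Module
  Cfsg.Agent.H18.Carter.Uni

universe u

/-- alternating forms have similitudes of all multipliers -/
theorem exists_sim_alt {F : Type u} [Field F] [Finite F] {M : Type u} [AddCommGroup M] [Module F M]
    [FiniteDimensional F M]
    (β : M →ₗ[F] M →ₗ[F] F) (hs : ∀ x, β x x = 0) (hn : ∀ x, (∀ y, β x y = 0) → x = 0) {a : F} (ha : a ≠ 0) :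
    ∃ A : M ≃ₗ[F] M, ∀ x y, β (A x) (A y) = a * β x y := by
  have hskew : ∀ x y, β x y = - β y x := by
    intro x y
    have := hs (x + y)
    simp only [map_add, LinearMap.add_apply, hs, zero_add, add_zero] at this
    rw [add_comm] at this
    exact eq_neg_of_add_eq_zero_left this
  have hnd : LinearMap.BilinForm.Nondegenerate β := ⟨fun x hx => hn x hx, fun x hx => hn x fun y => by
    rw [hskew, hx y, neg_zero]⟩
  obtain ⟨m, -, e, he⟩ := Cfsg.Agent.H484.GenSp.exists_coord β hs hnd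
  let A : (Fin m ⊕ Fin m → F) ≃ₗ[F] (Fin m ⊕ Fin m → F) :=
    LinearEquiv.piCongrRight fun i => i.elim (fun _ => LinearEquiv.refl F F)
      (fun _ => LinearEquiv.smulOfUnit (Units.mk0 a ha))
  refine ⟨e ≪≫ₗ A ≪≫ₗ e.symm, fun x y => ?_⟩
  rw [← he, ← he]
  have e1 : ∀ x, e ((e ≪≫ₗ A ≪≫ₗ e.symm) x) = A (e x) := fun x => e.apply_symm_apply _
  rw [e1, e1]
  have e2 : ∀ (v : Fin m ⊕ Fin m → F) i, A v (Sum.inl i) = v (Sum.inl i) := fun _ _ => rfl
  have e3 : ∀ (v : Fin m ⊕ Fin m → F) i, A v (Sum.inr i) = a * v (Sum.inr i) := fun _ _ => rfl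
  rw [Cfsg.Agent.ClassicalGeometry.SympBasic.sympForm_eq_sum, Cfsg.Agent.ClassicalGeometry.SympBasic.sympForm_eq_sum,
    Finset.mul_sum]
  refine Finset.sum_congr rfl fun i _ => ?_
  rw [e2, e2, e3, e3]
  ring

/-- **`c ~ c ^ 2`** in an orthogonal group -/
theorem conj_two {F V : Type u} [Field F] [AddCommGroup V] [Module F V] {B : V →ₗ[F] V →ₗ[F] F} {c : V ≃ₗ[F] V}
    [Finite F] [FiniteDimensional F V] (h2 : (2 : F) ≠ 0)
    (hB : ∀ x y, B x y = B y x) (hnd : ∀ x, (∀ y, B x y = 0) → x = 0) (hc : c ∈ Isom B)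
    (hu : ∃ a : ℕ, c ^ (ringChar F) ^ a = 1) : ∃ h ∈ Isom B, h * c * h⁻¹ = c ^ 2 := by
  obtain ⟨N, hN⟩ := exists_cay h2 hu
  obtain ⟨k, hk⟩ := hN.nil
  have huniq : ∀ N' : V →ₗ[F] V, Cay c N' → N' = N := by
    intro N' hN'
    ext x
    obtain ⟨u, rfl⟩ := hN.exists_eq h2 x
    rw [hN.eq, hN'.eq]
  have h2' : ((2 : ℕ) : F) = 2 := by norm_num
  obtain ⟨h, h5, h6⟩ := exists_sim (μ := 1) (n := 2) (ε := 1) h2 (one_mul 1) (fun x y => by rw [one_mul]; exact hB x y)
    hnd hc hu (by rw [h2']; exact h2) k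
    (by
      intro N' hN'
      rw [huniq N' hN', pow_succ, hk, zero_mul]) (fun _ => True) (by
      intro M _ _ _ β k r hk hr hs hn _
      refine ⟨?_, trivial⟩
      rw [one_mul, h2']
      rcases Nat.even_or_odd k with ⟨j, hj⟩ | hko
      · refine ⟨LinearEquiv.smulOfUnit (((Units.mk0 (2 : F) h2)⁻¹) ^ j), fun x y => ?_⟩
        have e : ∀ x : M, LinearEquiv.smulOfUnit (((Units.mk0 (2 : F) h2)⁻¹) ^ j) x = ((2 : F)⁻¹) ^ j • x := by
          intro x
          show (((Units.mk0 (2 : F) h2)⁻¹) ^ j) • x = _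
          rw [Units.smul_def, Units.val_pow_eq_pow_val, Units.val_inv_eq_inv_val, Units.val_mk0]
        rw [e, e, map_smul, map_smul, LinearMap.smul_apply, smul_eq_mul, smul_eq_mul, hj, pow_add, mul_assoc]
      · apply exists_sim_alt β _ hn (pow_ne_zero _ (inv_ne_zero h2))
        intro x
        have h7 := hs x x
        rw [hko.neg_one_pow, one_mul, neg_one_mul] at h7
        have h8 : (2 : F) * β x x = 0 := by linear_combination h7
        exact (mul_eq_zero.1 h8).resolve_left h2) trivial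
  exact ⟨h, mem_isom.2 fun x y => by rw [h5, one_mul], h6⟩

/-- **(T1-O)** -/
theorem conjFour : ConjFour := by
  intro F _ _ ι _ _ Q hG p _ _ hp z hz hzp
  have h2 : (2 : F) ≠ 0 := by
    intro h
    have h3 : p ∣ 2 := (CharP.cast_eq_zero_iff F p 2).1 (by exact_mod_cast h)
    have := Nat.le_of_dvd (by norm_num) h3
    omega
  have hr : ringChar F = p := ringChar.eq F p
  have hiso : ∀ g : (ι → F) ≃ₗ[F] (ι → F), g ∈ Isom (QuadraticMap.polarBilin Q) ↔ g ∈ O Q := by
    intro g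
    rw [mem_isom]
    constructor
    · intro h v
      have h3 := h v v
      rw [QuadraticMap.polarBilin_apply_apply, QuadraticMap.polarBilin_apply_apply, QuadraticMap.polar_self,
        QuadraticMap.polar_self] at h3
      have h4 : (2 : F) * (Q (g v) - Q v) = 0 := by
        rw [mul_sub, ← smul_eq_mul, ← smul_eq_mul, ofNat_smul_eq_nsmul F 2, ofNat_smul_eq_nsmul F 2, h3, sub_self]
      exact sub_eq_zero.1 ((mul_eq_zero.1 h4).resolve_left h2)
    · intro h x y
      rw [QuadraticMap.polarBilin_apply_apply, QuadraticMap.polarBilin_apply_apply, polar_map h]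
  obtain ⟨h, hh, hh2⟩ := conj_two (B := QuadraticMap.polarBilin Q) (c := z) h2
    (fun x y => by rw [QuadraticMap.polarBilin_apply_apply, QuadraticMap.polarBilin_apply_apply, polar_comm])
    (fun x hx => hG.nondeg x fun y => by rw [← QuadraticMap.polarBilin_apply_apply]; exact hx y)
    ((hiso z).2 hz) ⟨1, by rw [hr, pow_one, hzp]⟩
  refine ⟨h * h, Cfsg.Agent.H749.sq_mem_E hG ((hiso h).1 hh), ?_⟩
  have e1 : h * h * z * (h * h)⁻¹ = h * (h * z * h⁻¹) * h⁻¹ := by group
  have e2 : h * z ^ 2 * h⁻¹ = (h * z * h⁻¹) ^ 2 := (conj_pow).symm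
  rw [e1, hh2, e2, hh2, ← pow_mul]

end Cfsg.Agent.H502.Car
end

-- part: H502/Car/Main
section
/-!
# S3852, orthogonal groups in odd characteristic: `K ∩ S` is a `2`-group (helper502)

* `two_of_lifts` : all automorphisms are induced by semisimilitudes, `dim V ≥ 7`;
* `two_of_eight` : `dim V = 8`.
-/

set_option autoImplicit false
set_option linter.unusedSectionVars false

namespace Cfsg.Agent.H502.Car

open QuadraticMap Cfsg.Agent.LieClassical.OrthCore Cfsg.Agent.LieClassical.OrthTrans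
  Cfsg.Agent.LieClassical.OrthSimple Cfsg.Agent.ClassicalGeometry.OrthSemi
  Cfsg.Agent.ClassicalGeometry.OrthAut1 Cfsg.Agent.H989.OutOrth.Basic
open Subgroup Pointwise Cfsg.Agent.Solvable.Carter Cfsg.Agent.H18.Carter Cfsg.Agent.H381.Car

universe u

theorem finrank_range_sq {F V : Type*} [Field F] [AddCommGroup V] [Module F V] [FiniteDimensional F V]
    (N : V →ₗ[F] V) : Module.finrank F (LinearMap.range (N.comp N)) +
      Module.finrank F (LinearMap.range N ⊓ LinearMap.ker N : Submodule F V) = Module.finrank F (LinearMap.range N) := by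
  have h3 := LinearMap.finrank_range_add_finrank_ker (N.domRestrict (LinearMap.range N))
  have h4 : LinearMap.range (N.domRestrict (LinearMap.range N)) = LinearMap.range (N.comp N) := by
    ext w
    constructor
    · rintro ⟨⟨_, v, rfl⟩, rfl⟩
      exact ⟨v, rfl⟩
    · rintro ⟨v, rfl⟩
      exact ⟨⟨N v, v, rfl⟩, rfl⟩
  have h5 : (LinearMap.ker (N.domRestrict (LinearMap.range N))).map (LinearMap.range N).subtype =
      LinearMap.range N ⊓ LinearMap.ker N := by
    ext w
    constructor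
    · rintro ⟨⟨v, hv⟩, hv2, rfl⟩
      exact ⟨hv, hv2⟩
    · rintro ⟨hv, hv2⟩
      exact ⟨⟨w, hv⟩, hv2, rfl⟩
  have h6 := (Submodule.equivMapOfInjective (LinearMap.range N).subtype (LinearMap.range N).subtype_injective
    (LinearMap.ker (N.domRestrict (LinearMap.range N)))).finrank_eq
  rw [h5] at h6
  rw [h4, h6] at h3
  exact h3

section

variable {F : Type} [Field F] [Finite F] {ι : Type} [Fintype ι] [DecidableEq ι] {Q : QuadraticForm F (ι → F)}

/-- in dimension `≤ 10` all elements of order three are real -/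
theorem real_of_dim [CharP F 3] (hG : Good Q) (h7 : 7 ≤ Fintype.card ι) (h10 : Fintype.card ι ≤ 10)
    {z : (ι → F) ≃ₗ[F] (ι → F)} (hzO : z ∈ O Q) (hz : z ^ 3 = 1) : ∃ h ∈ E Q, h * z * h⁻¹ = z⁻¹ := by
  by_contra hnr
  have h2 : (2 : F) ≠ 0 := two_ne
  obtain ⟨h, hO, hh1, hh2, m, hm, hh3⟩ := exists_inverting hG.nondeg hzO hz
  obtain ⟨N, hN, hNv⟩ : ∃ N : (ι → F) →ₗ[F] (ι → F), N = (z : (ι → F) →ₗ[F] (ι → F)) - LinearMap.id ∧
      ∀ v, N v = z v - v := ⟨_, rfl, fun _ => rfl⟩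
  rw [← hN] at hm
  have hmo : Odd m := by
    by_contra hcon
    rw [Nat.not_odd_iff_even] at hcon
    obtain ⟨k, hk⟩ := hcon
    apply hnr
    refine real_of_sg hG hO hh1 hh2 ?_
    rw [hh3, hk, ← two_mul, pow_mul, pow_two, eta_sq, one_pow]
  have hr : Module.finrank F (LinearMap.range ((lg z).comp (lg z))) ≤ 1 := by
    by_contra hcon
    exact hnr (real_of_rank hG hzO hz (by omega))
  have hNN : LinearMap.range (N.comp N) = LinearMap.range ((lg z).comp (lg z)) := by
    have h3 : ∀ v, N (N v) = z (z v) + z v + v := by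
      intro v
      rw [hNv, hNv, map_sub]
      have : z (z v) - z v - (z v - v) = z (z v) + z v + v - (3 : F) • z v := by module
      rw [this, three_smul_eq, sub_zero]
    ext w
    constructor
    · rintro ⟨v, rfl⟩
      exact ⟨v, by rw [LinearMap.comp_apply, LinearMap.comp_apply, lg_lg hz, h3]⟩
    · rintro ⟨v, rfl⟩
      exact ⟨v, by rw [LinearMap.comp_apply, LinearMap.comp_apply, lg_lg hz, h3]⟩
  have h3 := finrank_range_sq N
  rw [hNN, hm] at h3
  have hker : Module.finrank F (LinearMap.ker N) + 2 * m = Fintype.card ι := by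
    have h3 := LinearMap.finrank_range_add_finrank_ker N
    rw [hm, Module.finrank_fintype_fun_eq_card] at h3
    omega
  have hle : Module.finrank F (LinearMap.range N ⊓ LinearMap.ker N : Submodule F (ι → F)) ≤
      Module.finrank F (LinearMap.ker N) := Submodule.finrank_mono inf_le_right
  have h5 : m = 1 := by
    obtain ⟨k, hk⟩ := hmo
    omega
  have hRm : ∀ r, r ∈ (LinearMap.range N ⊓ LinearMap.ker N : Submodule F (ι → F)) ↔ (∃ v, z v - v = r) ∧ z r = r := by
    intro r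
    rw [Submodule.mem_inf, LinearMap.mem_range, LinearMap.mem_ker, hNv, sub_eq_zero]
    simp only [hNv]
  apply hnr
  refine real_of_hyp hG z hzO hz (exists_hyp_ker hG.nondeg hzO hz (fun v h4 h5 => (hRm v).2 ⟨h5, h4⟩)
    (fun v hv => ((hRm v).1 hv).2) ?_)
  rw [hN] at h3 hker
  rw [hN]
  omega

variable {G : Type u} [Group G] [Finite G] {S : Subgroup G} [S.Normal]

/-- **`K ∩ S` is a `2`-group**, all automorphisms induced by semisimilitudes -/
theorem two_of_lifts (hFO : FrameO.{u}) (hFT : FrameTs.{u}) (hG : Good Q) (h2 : (2 : F) ≠ 0)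
    (h7 : 7 ≤ Fintype.card ι) (c : Ctx G S) (e : S ≃* P Q) (hs : ∀ g : G, ∃ M : Gam Q, Lf e g M)
    {K : Subgroup G} (hK : IsCarter K) : IsPGroup 2 ↥(K ⊓ S) := by
  rw [IsPGroup.iff_card]
  refine ⟨_, Nat.eq_prime_pow_of_unique_prime_dvd Nat.card_pos.ne' ?_⟩
  intro r hr hd
  by_contra hne
  haveI : Fact r.Prime := ⟨hr⟩
  have hodd := hr.odd_of_ne_two hne
  obtain ⟨z, hzS, -, hz, hzK⟩ := exists_central hK.1 (r := r) hd
  obtain ⟨x, hx, hxz⟩ := exists_lift_odd hG e hodd hzS (by rw [← hz, pow_orderOf_eq_one])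
  have hx1 : x ≠ 1 := by
    rintro rfl
    rw [map_one] at hxz
    rw [← hxz, orderOf_one] at hz
    exact hr.one_lt.ne hz
  have hxK : Fx e K x := fx_of_commute hG hodd hx (by rw [hxz]; exact hzK)
  by_cases hrF : (r : F) = 0
  · have hcr : CharP F r := by
      obtain ⟨p, hp⟩ := CharP.exists F
      have hpp : p.Prime := CharP.char_is_prime F p
      have h3 := (CharP.cast_eq_zero_iff F p r).1 hrF
      rw [Nat.prime_dvd_prime_iff_eq hpp hr] at h3
      rw [← h3]
      exact hp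
    by_cases h3 : r = 3
    · subst h3
      exact no_three hFT hG h7 c hK e hs hx hx1 hxK
    · have h5 : 5 ≤ r := by
        have h4 : r ≠ 4 := by rintro rfl; exact absurd hr (by norm_num)
        have := hr.two_le
        omega
      obtain ⟨h, hh, hhx⟩ := conjFour F ι Q hG r h5 x.1 (E_le_O x.2) (congrArg Subtype.val hx)
      have h6 := no_conj_pow hG c hs hK hodd hx hxK (h := ⟨h, hh⟩) (j := 4) (Subtype.ext hhx)
      have h7 : x ^ 3 = 1 := by
        have h8 : x ^ 3 * x = 1 * x := by rw [← pow_succ, h6, one_mul]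
        exact mul_right_cancel h8
      have h8 := orderOf_dvd_of_pow_eq_one h7
      rw [orderOf_eq_prime hx hx1] at h8
      have := Nat.le_of_dvd (by norm_num) h8
      omega
  · exact no_prime_ne hFO hG h2 h7 c hK e hs hr hne hrF hx hx1 hxK

/-- **`K ∩ S` is a `2`-group**, dimension eight -/
theorem two_of_eight (hG : Good Q) (h2 : (2 : F) ≠ 0) (h8 : Fintype.card ι = 8) (c : Ctx G S) (e : S ≃* P Q)
    {K : Subgroup G} (hK : IsCarter K) : IsPGroup 2 ↥(K ⊓ S) := by
  refine two_of_real c (fun z hzS ho ho2 => ?_) hK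
  obtain ⟨r, hr⟩ : ∃ r, r = orderOf z := ⟨_, rfl⟩
  rw [← hr] at ho ho2
  haveI : Fact r.Prime := ⟨ho⟩
  have hodd := ho.odd_of_ne_two ho2
  obtain ⟨x, hx, hxz⟩ := exists_lift_odd hG e hodd hzS (by rw [hr, pow_orderOf_eq_one])
  have hx' : x.1 ^ r = 1 := congrArg Subtype.val hx
  obtain ⟨k, hk, h, hh, hc⟩ : ∃ k : ℕ, ¬ k ≡ 1 [MOD r] ∧ ∃ h ∈ E Q, h * x.1 * h⁻¹ = x.1 ^ k := by
    by_cases hrF : (r : F) = 0
    · have hcr : CharP F r := by
        obtain ⟨p, hp⟩ := CharP.exists F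
        have hpp : p.Prime := CharP.char_is_prime F p
        have h3 := (CharP.cast_eq_zero_iff F p r).1 hrF
        rw [Nat.prime_dvd_prime_iff_eq hpp ho] at h3
        rw [← h3]
        exact hp
      by_cases h3 : r = 3
      · clear hr
        subst h3
        obtain ⟨h, hh, hhx⟩ := real_of_dim hG (by omega) (by omega) (E_le_O x.2) hx'
        refine ⟨2, by decide, h, hh, ?_⟩
        rw [hhx, inv_eq_iff_mul_eq_one, ← pow_succ', hx']
      · have h5 : 5 ≤ r := by
          have h4 : r ≠ 4 := by rintro rfl; exact absurd ho (by norm_num)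
          have := ho.two_le
          omega
        obtain ⟨h, hh, hhx⟩ := conjFour F ι Q hG r h5 x.1 (E_le_O x.2) hx'
        refine ⟨4, fun h6 => ?_, h, hh, hhx⟩
        have h7 := (Nat.modEq_iff_dvd' (by norm_num : 1 ≤ 4)).1 h6.symm
        have := Nat.le_of_dvd (by norm_num) h7
        omega
    · exact exists_pow_ne hG h2 ho ho2 hrF (E_le_O x.2) hx' fun _ => Or.inr (by omega)
  have h3 : el e ⟨h, hh⟩ * z * (el e ⟨h, hh⟩)⁻¹ = z ^ k := by
    have h4 : (⟨h, hh⟩ : ↥(E Q)) * x * (⟨h, hh⟩ : ↥(E Q))⁻¹ = x ^ k := Subtype.ext hc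
    rw [← hxz, ← map_inv, ← map_mul, ← map_mul, h4, map_pow]
  refine ⟨el e ⟨h, hh⟩, ?_, ?_⟩
  · rw [h3]
    intro h4
    apply hk
    rw [hr, ← pow_eq_pow_iff_modEq, h4, pow_one]
  · rw [h3]
    exact mem_zpowers_iff.2 ⟨k, zpow_natCast z k⟩

end

end Cfsg.Agent.H502.Car
end

-- part: H502/Car/Rows
section
/-!
# S3852: the rows `PΩ_{2m+1}(q)`, `m ≥ 3`, `PΩ_{2m}^±(q)`, `m ≥ 4`, `q` odd (helper502)

`two_odd`, `two_plus`, `two_minus` : `K ∩ S` is a `2`-group for every Carter subgroup `K`.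
-/

set_option autoImplicit false
set_option linter.unusedSectionVars false

namespace Cfsg.Agent.H502.Car

open QuadraticMap Cfsg.Agent.LieClassical.OrthCore Cfsg.Agent.LieClassical.OrthTrans
  Cfsg.Agent.LieClassical.OrthSimple Cfsg.Agent.LieClassical.OrthForms Cfsg.Agent.ClassicalGeometry.OrthSemi
  Cfsg.Agent.ClassicalGeometry.OrthSemiForms
  Cfsg.Agent.ClassicalGeometry.OrthAut1 Cfsg.Agent.H989.OutOrth.Basic
open Subgroup Pointwise Cfsg.Agent.Solvable.Carter Cfsg.Agent.H18.Carter Cfsg.Agent.H381.Car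

universe u

variable {G : Type u} [Group G] [Finite G] {S : Subgroup G} [S.Normal]

theorem pomega_two (hFO : FrameO.{u}) (hFT : FrameTs.{u}) {F : Type} [Field F] [Finite F] {ι : Type} [Fintype ι]
    [DecidableEq ι] {Q : QuadraticForm F (ι → F)} (h2 : (2 : F) ≠ 0) (hQ : Nondeg Q) (h7 : 7 ≤ Fintype.card ι)
    (hsurj : Function.Surjective (Psi Q)) {q : (ι → F) → F} (hq : ⇑Q = q) (c : Ctx G S) (e : S ≃* Cfsg.POmega F q)
    {K : Subgroup G} (hK : IsCarter K) : IsPGroup 2 ↥(K ⊓ S) := by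
  subst hq
  have hG : Good Q := Cfsg.Agent.LieClassical.OrthFinite.good_of_finite hQ (by
    rw [Module.finrank_fintype_fun_eq_card]; omega)
  exact two_of_lifts hFO hFT hG h2 h7 c (e.trans (pomegaEquiv hG)) (fun g => hsurj _) hK

theorem pomega_two_eight {F : Type} [Field F] [Finite F] {ι : Type} [Fintype ι]
    [DecidableEq ι] {Q : QuadraticForm F (ι → F)} (h2 : (2 : F) ≠ 0) (hQ : Nondeg Q) (h8 : Fintype.card ι = 8)
    {q : (ι → F) → F} (hq : ⇑Q = q) (c : Ctx G S) (e : S ≃* Cfsg.POmega F q)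
    {K : Subgroup G} (hK : IsCarter K) : IsPGroup 2 ↥(K ⊓ S) := by
  subst hq
  have hG : Good Q := Cfsg.Agent.LieClassical.OrthFinite.good_of_finite hQ (by
    rw [Module.finrank_fintype_fun_eq_card]; omega)
  exact two_of_eight hG h2 h8 c (e.trans (pomegaEquiv hG)) hK

theorem two_odd (hFO : FrameO.{u}) (hFT : FrameTs.{u}) {F : Type} [Field F] [Finite F] {m : ℕ} (hm : 3 ≤ m)
    (h2 : (2 : F) ≠ 0) (c : Ctx G S) (e : S ≃* Cfsg.POmega F (Cfsg.quadFormOdd m F)) {K : Subgroup G}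
    (hK : IsCarter K) : IsPGroup 2 ↥(K ⊓ S) := by
  refine pomega_two hFO hFT h2 (nondeg_oddForm m F h2) ?_ (Cfsg.Agent.AutOrth.Final.surjective_odd (F := F) hm h2)
    (coe_oddForm m F) c e hK
  rw [Fintype.card_sum, Fintype.card_sum, Fintype.card_fin, Fintype.card_unit]
  omega

theorem two_plus (hFO : FrameO.{u}) (hFT : FrameTs.{u}) {F : Type} [Field F] [Finite F] {m : ℕ} (hm : 4 ≤ m)
    (h2 : (2 : F) ≠ 0) (c : Ctx G S) (e : S ≃* Cfsg.POmega F (Cfsg.quadFormPlus m F)) {K : Subgroup G}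
    (hK : IsCarter K) : IsPGroup 2 ↥(K ⊓ S) := by
  by_cases h4 : m = 4
  · subst h4
    refine pomega_two_eight h2 (nondeg_plusForm 4 F) ?_ (coe_plusForm 4 F) c e hK
    rw [Fintype.card_sum, Fintype.card_fin]
  · refine pomega_two hFO hFT h2 (nondeg_plusForm m F) ?_
      (Cfsg.Agent.AutOrth.Final.surjective_plus (F := F) (m := m) (by omega)) (coe_plusForm m F) c e hK
    rw [Fintype.card_sum, Fintype.card_fin]
    omega

theorem two_minus (hFO : FrameO.{u}) (hFT : FrameTs.{u}) {F : Type} [Field F] [Finite F] {m : ℕ} (hm : 4 ≤ m)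
    {a b : F} (hab : ∀ z₁ z₂ : F, z₁ ^ 2 + a * z₁ * z₂ + b * z₂ ^ 2 = 0 → z₁ = 0 ∧ z₂ = 0)
    (h2 : (2 : F) ≠ 0) (c : Ctx G S) (e : S ≃* Cfsg.POmega F (Cfsg.quadFormMinus (m - 1) F a b)) {K : Subgroup G}
    (hK : IsCarter K) : IsPGroup 2 ↥(K ⊓ S) := by
  refine pomega_two hFO hFT h2 (nondeg_minusForm (m - 1) F a b hab) ?_
    (Cfsg.Agent.AutOrth.Final.surjective_minus (F := F) (m := m - 1) (by omega) hab) (coe_minusForm (m - 1) F a b) c e hK
  rw [Fintype.card_sum, Fintype.card_sum, Fintype.card_fin, Fintype.card_fin]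
  omega

theorem two_ne_of_char {r : ℕ} (hr : r.Prime) (hr2 : r ≠ 2) (F : Type) [Field F] [CharP F r] : (2 : F) ≠ 0 := by
  intro h2
  have h3 : r ∣ 2 := (CharP.cast_eq_zero_iff F r 2).1 (by exact_mod_cast h2)
  rcases (Nat.dvd_prime Nat.prime_two).1 h3 with h4 | h4
  · exact hr.one_lt.ne' h4
  · exact hr2 h4

/-- **the rows `PΩ`, `q` odd** -/
theorem nrAll_pomega (hF : H381.Car.Fpf.{u}) (hFO : FrameO.{u}) (hFT : FrameTs.{u}) {r : ℕ} (hr : r.Prime) (hr2 : r ≠ 2)
    (c : Ctx G S)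
    (h : Cfsg.IsPOmegaOddChar r S ∨ Cfsg.IsPOmegaPlusChar r S ∨ Cfsg.IsPOmegaMinusChar r S) : NrAll S := by
  refine nrAll_of_two hF c fun K hK => ?_
  rcases h with ⟨F, _, _, _, m, hm, -, ⟨e⟩⟩ | ⟨F, _, _, _, m, hm, ⟨e⟩⟩ | ⟨F, _, _, _, m, a, b, hm, hab, ⟨e⟩⟩
  · exact two_odd hFO hFT hm (two_ne_of_char hr hr2 F) c e hK
  · exact two_plus hFO hFT hm (two_ne_of_char hr hr2 F) c e hK
  · exact two_minus hFO hFT hm hab (two_ne_of_char hr hr2 F) c e hK

end Cfsg.Agent.H502.Car
end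

-- part: H55/CO/Ring
section
/-!
# The coefficient ring `F[ω]`, `ω² = a ω - 1` (helper55, S3852, COORD)

`Cf F E a`: the star ring `E` is `F[ω]` with `ω² = a ω - 1`, `star ω = a - ω`.
`exists_cf`: for a finite field `F` and `a² ≠ 4` there is such a ring `E` with `Gd E`.
-/

set_option autoImplicit false
set_option linter.unusedVariables false

namespace Cfsg.Agent.H55.CO

open Cfsg.Agent.H308.CA

/-- `E = F[ω]`, `ω² = a ω - 1`, `star ω = a - ω` -/
structure Cf (F : Type) [Field F] (E : Type) [CommRing E] [StarRing E] (a : F) where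
  /-- the embedding -/
  i : F →+* E
  /-- the generator -/
  om : E
  star_i : ∀ x, star (i x) = i x
  om_sq : om * om = i a * om - 1
  star_om : star om = i a - om
  gen : ∀ c : E, ∃ x y : F, c = i x + i y * om
  uniq : ∀ x y : F, i x + i y * om = 0 → x = 0 ∧ y = 0

namespace Cf

variable {F : Type} [Field F] {E : Type} [CommRing E] [StarRing E] {a : F} (c : Cf F E a)

theorem inj : Function.Injective c.i := by
  rw [injective_iff_map_eq_zero]
  intro x hx
  exact (c.uniq x 0 (by rw [hx, map_zero, zero_mul, add_zero])).1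

theorem ext2 {x y x' y' : F} (h : c.i x + c.i y * c.om = c.i x' + c.i y' * c.om) : x = x' ∧ y = y' := by
  have h1 := c.uniq (x - x') (y - y') (by rw [map_sub, map_sub]; linear_combination h)
  exact ⟨sub_eq_zero.1 h1.1, sub_eq_zero.1 h1.2⟩

/-- the two coordinates -/
noncomputable def re (e : E) : F := (c.gen e).choose

noncomputable def im (e : E) : F := (c.gen e).choose_spec.choose

theorem eq (e : E) : e = c.i (c.re e) + c.i (c.im e) * c.om := (c.gen e).choose_spec.choose_spec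

theorem re_mk (x y : F) : c.re (c.i x + c.i y * c.om) = x := (c.ext2 (c.eq (c.i x + c.i y * c.om))).1.symm

theorem im_mk (x y : F) : c.im (c.i x + c.i y * c.om) = y := (c.ext2 (c.eq (c.i x + c.i y * c.om))).2.symm

theorem re_eq {e : E} {x y : F} (h : e = c.i x + c.i y * c.om) : c.re e = x := by rw [h, c.re_mk]

theorem im_eq {e : E} {x y : F} (h : e = c.i x + c.i y * c.om) : c.im e = y := by rw [h, c.im_mk]

theorem re_add (e f : E) : c.re (e + f) = c.re e + c.re f := by
  apply c.re_eq (y := c.im e + c.im f)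
  rw [map_add, map_add]
  linear_combination c.eq e + c.eq f

theorem im_add (e f : E) : c.im (e + f) = c.im e + c.im f := by
  apply c.im_eq (x := c.re e + c.re f)
  rw [map_add, map_add]
  linear_combination c.eq e + c.eq f

theorem re_smul (t : F) (e : E) : c.re (c.i t * e) = t * c.re e := by
  apply c.re_eq (y := t * c.im e)
  rw [map_mul, map_mul]
  linear_combination c.i t * c.eq e

theorem im_smul (t : F) (e : E) : c.im (c.i t * e) = t * c.im e := by
  apply c.im_eq (x := t * c.re e)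
  rw [map_mul, map_mul]
  linear_combination c.i t * c.eq e

theorem re_om (e : E) : c.re (c.om * e) = - c.im e := by
  apply c.re_eq (y := c.re e + a * c.im e)
  rw [map_neg, map_add, map_mul]
  linear_combination c.om * c.eq e + c.i (c.im e) * c.om_sq

theorem im_om (e : E) : c.im (c.om * e) = c.re e + a * c.im e := by
  apply c.im_eq (x := - c.im e)
  rw [map_neg, map_add, map_mul]
  linear_combination c.om * c.eq e + c.i (c.im e) * c.om_sq

theorem star_mk (x y : F) : star (c.i x + c.i y * c.om) = c.i (x + y * a) + c.i (-y) * c.om := by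
  rw [star_add, star_mul, c.star_i, c.star_i, c.star_om, map_add, map_mul, map_neg]
  ring

theorem norm_mk (x y : F) : star (c.i x + c.i y * c.om) * (c.i x + c.i y * c.om) = c.i (x * x + a * x * y + y * y) := by
  rw [c.star_mk]
  simp only [map_add, map_mul, map_neg]
  linear_combination (- c.i y * c.i y) * c.om_sq

include c in
/-- the norm form is universal -/
theorem norm_surj (h : Gd E) (t : F) : ∃ x y : F, x * x + a * x * y + y * y = t := by
  by_cases ht : t = 0
  · exact ⟨0, 0, by rw [ht]; ring⟩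
  · obtain ⟨e, he⟩ := h.norm (c.star_i t) (fun h1 => ht (by rwa [map_eq_zero_iff _ c.inj] at h1))
    rw [c.eq e, c.norm_mk] at he
    exact ⟨_, _, c.inj he⟩

include c in
theorem charP (p : ℕ) [CharP F p] : CharP E p := charP_of_injective_ringHom c.inj p

include c in
theorem card_eq [Finite F] : Nat.card E = Nat.card F ^ 2 := by
  rw [pow_two, ← Nat.card_prod]
  refine (Nat.card_congr (Equiv.ofBijective (fun q : F × F => c.i q.1 + c.i q.2 * c.om) ⟨?_, ?_⟩)).symm
  · rintro ⟨x, y⟩ ⟨x', y'⟩ h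
    have h1 := c.ext2 h
    exact Prod.ext h1.1 h1.2
  · intro e
    exact ⟨(c.re e, c.im e), (c.eq e).symm⟩

end Cf

/-- the split case -/
theorem exists_cf_split (F : Type) [Field F] (a r : F) (ha : a * a ≠ 4) (hr : r ^ 2 = -1 + a * r) :
    Nonempty (Cf F (Ex F) a) := by
  have hd : 2 * r - a ≠ 0 := by
    intro h
    apply ha
    linear_combination (2 * r - a) * h - 4 * hr
  let i : F →+* Ex F :=
    { toFun := fun x => ((x, x) : F × F)
      map_one' := rfl
      map_zero' := rfl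
      map_mul' := fun x y => rfl
      map_add' := fun x y => rfl }
  refine ⟨⟨i, ((r, a - r) : F × F), fun x => rfl, ?_, ?_, ?_, ?_⟩⟩
  · refine Prod.ext ?_ ?_
    · change r * r = a * r - 1
      linear_combination hr
    · change (a - r) * (a - r) = a * (a - r) - 1
      linear_combination hr
  · refine Prod.ext ?_ ?_
    · change a - r = a - r
      rfl
    · change r = a - (a - r)
      ring
  · rintro ⟨x, y⟩
    refine ⟨x - (x - y) / (2 * r - a) * r, (x - y) / (2 * r - a), Prod.ext ?_ ?_⟩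
    · change x = x - (x - y) / (2 * r - a) * r + (x - y) / (2 * r - a) * r
      ring
    · change y = x - (x - y) / (2 * r - a) * r + (x - y) / (2 * r - a) * (a - r)
      have h1 : (x - y) / (2 * r - a) * (2 * r - a) = x - y := div_mul_cancel₀ _ hd
      linear_combination h1
  · intro x y h
    have h1 : x + y * r = 0 := congrArg Prod.fst h
    have h2 : x + y * (a - r) = 0 := congrArg Prod.snd h
    have h3 : y * (2 * r - a) = 0 := by linear_combination h1 - h2
    have h4 : y = 0 := (mul_eq_zero.1 h3).resolve_right hd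
    refine ⟨?_, h4⟩
    rw [h4, zero_mul, add_zero] at h1
    exact h1

/-- the field case -/
theorem exists_cf_field (F : Type) [Field F] [Finite F] (a : F) (ha : a * a ≠ 4) (hr : ∀ r : F, r ^ 2 ≠ -1 + a * r) :
    ∃ (E : Type) (i : Field E) (s : StarRing E), Gd E ∧ Nonempty (Cf F E a) := by
  have : Fact (∀ r : F, r ^ 2 ≠ -1 + a * r) := ⟨hr⟩
  have : Finite (QuadraticAlgebra F (-1) a) := Finite.of_equiv _ (QuadraticAlgebra.equivProd (-1) a).symm
  have hs : ∃ e : QuadraticAlgebra F (-1) a, star e ≠ e := by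
    refine ⟨⟨0, 1⟩, fun h => ?_⟩
    have h1 := congrArg QuadraticAlgebra.re h
    have h2 := congrArg QuadraticAlgebra.im h
    rw [QuadraticAlgebra.star_mk] at h1 h2
    have h1' : (0 : F) + a * 1 = 0 := h1
    have h2' : -(1 : F) = 1 := h2
    apply ha
    have h3 : a = 0 := by linear_combination h1'
    have h4 : (2 : F) = 0 := by linear_combination -h2'
    rw [h3]
    linear_combination (-2) * h4
  refine ⟨QuadraticAlgebra F (-1) a, inferInstance, inferInstance, Good.uni _ _ _ inferInstance hs, ⟨?_⟩⟩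
  refine
    { i := algebraMap F (QuadraticAlgebra F (-1) a)
      om := ⟨0, 1⟩
      star_i := ?_
      om_sq := ?_
      star_om := ?_
      gen := ?_
      uniq := ?_ }
  · intro x
    ext <;> simp only [_root_.QuadraticAlgebra.re_star, _root_.QuadraticAlgebra.algebraMap_re, _root_.QuadraticAlgebra.algebraMap_im, _root_.MulZeroClass.mul_zero, _root_.add_zero, _root_.QuadraticAlgebra.im_star, _root_.neg_zero]
  · ext
    · simp
      rfl
    · simp
      exact (sub_zero a).symm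
  · ext <;> simp
  · intro e
    refine ⟨e.re, e.im, ?_⟩
    ext <;> simp
  · intro x y h
    have h1 := congrArg QuadraticAlgebra.re h
    have h2 := congrArg QuadraticAlgebra.im h
    simp at h1 h2
    exact ⟨h1, h2⟩

/-- **the coefficient ring** -/
theorem exists_cf (F : Type) [Field F] [Finite F] (a : F) (ha : a * a ≠ 4) :
    ∃ (E : Type) (_ : CommRing E) (_ : StarRing E), Gd E ∧ Nonempty (Cf F E a) := by
  by_cases hr : ∃ r : F, r ^ 2 = -1 + a * r
  · obtain ⟨r, hr⟩ := hr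
    exact ⟨Ex F, inferInstance, inferInstance, Good.lin F inferInstance inferInstance, exists_cf_split F a r ha hr⟩
  · push Not at hr
    obtain ⟨E, i, s, h1, h2⟩ := exists_cf_field F a ha hr
    exact ⟨E, inferInstance, s, h1, h2⟩

end Cfsg.Agent.H55.CO
end

-- part: H55/CO/Frame
section
/-!
# An orthonormal system for an isometry `z` with `z² = a z - 1` (helper55, S3852, COORD)
-/

set_option autoImplicit false
set_option linter.unusedVariables false
set_option linter.unusedSectionVars false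

namespace Cfsg.Agent.H55.CO

open Cfsg.Agent.H308.CA QuadraticMap Cfsg.Agent.LieClassical.OrthCore Module

variable {F : Type} {V : Type*} [Field F] [AddCommGroup V] [Module F V] {Q : QuadraticForm F V}

section basic

variable {z : V ≃ₗ[F] V} (hzO : z ∈ O Q) {a : F} (ha : a * a ≠ 4) (hz : ∀ v, z (z v) = a • z v - v)
include hzO ha hz

theorem polar_z (v : V) : polar Q v (z v) = a * Q v := by
  by_cases h0 : a = 0
  · have h1 := polar_map hzO v (z v)
    rw [hz, h0, zero_smul, zero_sub, polar_neg_right, polar_comm] at h1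
    have h2 : (2 : F) * polar Q v (z v) = 0 := by linear_combination -h1
    have h3 : (2 : F) ≠ 0 := by
      intro h
      apply ha
      rw [h0]
      linear_combination -2 * h
    rw [h0, zero_mul]
    exact (mul_eq_zero.1 h2).resolve_left h3
  · have h1 : Q (z (z v)) = Q v := by rw [hzO, hzO]
    have h2 := Q_add (Q := Q) (a • z v) (-v)
    rw [← sub_eq_add_neg, ← hz, h1, QuadraticMap.map_smul, hzO, QuadraticMap.map_neg, polar_neg_right,
      polar_smul_left, polar_comm] at h2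
    have h3 : a * (polar Q v (z v) - a * Q v) = 0 := by
      simp only [smul_eq_mul] at h2
      linear_combination h2
    exact sub_eq_zero.1 ((mul_eq_zero.1 h3).resolve_left h0)

theorem Q_plane (x y : F) (v : V) : Q (x • v + y • z v) = (x * x + a * x * y + y * y) * Q v := by
  rw [Q_add, QuadraticMap.map_smul, QuadraticMap.map_smul, hzO, polar_smul_left, polar_smul_right, polar_z hzO ha hz]
  simp only [smul_eq_mul]
  ring

theorem polar_z_left (v w : V) : polar Q (z v) w = a * polar Q v w - polar Q v (z w) := by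
  have h1 := polar_map hzO v (z w)
  rw [hz, polar_sub_right, polar_smul_right, smul_eq_mul, polar_map hzO] at h1
  linear_combination -h1

end basic

/-- an `F[z]`-orthonormal basis -/
structure Fr (Q : QuadraticForm F V) (z : V ≃ₗ[F] V) {m : ℕ} (v : Fin m → V) : Prop where
  q1 : ∀ i, Q (v i) = 1
  orth : ∀ i j, i ≠ j → polar Q (v i) (v j) = 0
  orth' : ∀ i j, i ≠ j → polar Q (v i) (z (v j)) = 0
  span : ∀ w, ∃ x y : Fin m → F, w = ∑ i, (x i • v i + y i • z (v i))

theorem exists_aux [Finite F] [FiniteDimensional F V] {E : Type} [CommRing E] [StarRing E] {a : F} (hG : Gd E)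
    (c : Cf F E a) {z : V ≃ₗ[F] V} (hzO : z ∈ O Q) (ha : a * a ≠ 4) (hz : ∀ v, z (z v) = a • z v - v) (n : ℕ) :
    ∀ W : Submodule F V, finrank F W = n → (∀ w ∈ W, z w ∈ W) →
      (∀ w ∈ W, (∀ w' ∈ W, polar Q w w' = 0) → w = 0) →
      ∃ (m : ℕ) (v : Fin m → V), (∀ i, v i ∈ W) ∧ (∀ i, Q (v i) = 1) ∧ (∀ i j, i ≠ j → polar Q (v i) (v j) = 0) ∧
        (∀ i j, i ≠ j → polar Q (v i) (z (v j)) = 0) ∧
        ∀ w ∈ W, ∃ x y : Fin m → F, w = ∑ i, (x i • v i + y i • z (v i)) := by
  induction n using Nat.strong_induction_on with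
  | _ n ih =>
    intro W hn hW hnd
    by_cases h0 : ∀ w ∈ W, Q w = 0
    · have hbot : ∀ w ∈ W, w = 0 := by
        intro w hw
        apply hnd w hw
        intro w' hw'
        rw [polar, h0 _ (add_mem hw hw'), h0 _ hw, h0 _ hw', sub_zero, sub_zero]
      exact ⟨0, Fin.elim0, fun i => i.elim0, fun i => i.elim0, fun i => i.elim0, fun i => i.elim0,
        fun w hw => ⟨Fin.elim0, Fin.elim0, by rw [hbot w hw, Finset.univ_eq_empty, Finset.sum_empty]⟩⟩
    push Not at h0
    obtain ⟨w0, hw0, hQ0⟩ := h0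
    obtain ⟨x0, y0, hxy⟩ := c.norm_surj hG (Q w0)⁻¹
    obtain ⟨v, hv⟩ : ∃ v, v = x0 • w0 + y0 • z w0 := ⟨_, rfl⟩
    have hvW : v ∈ W := by
      rw [hv]
      exact add_mem (W.smul_mem _ hw0) (W.smul_mem _ (hW _ hw0))
    have hQv : Q v = 1 := by
      rw [hv, Q_plane hzO ha hz, hxy, inv_mul_cancel₀ hQ0]
    have hD : (4 - a * a) ≠ 0 := fun h => ha (by linear_combination -h)
    have hDi : (4 - a * a) * (4 - a * a)⁻¹ = 1 := mul_inv_cancel₀ hD
    have p1 : polar Q v v = 2 := by rw [polar_self', hQv, mul_one]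
    have p2 : polar Q v (z v) = a := by rw [polar_z hzO ha hz, hQv, mul_one]
    have p3 : polar Q (z v) v = a := by rw [polar_comm, p2]
    have p4 : polar Q (z v) (z v) = 2 := by rw [polar_map hzO, p1]
    let W' : Submodule F V := W ⊓ (LinearMap.ker (polarBilin Q v) ⊓ LinearMap.ker (polarBilin Q (z v)))
    have hmem : ∀ u, u ∈ W' ↔ u ∈ W ∧ polar Q v u = 0 ∧ polar Q (z v) u = 0 := fun u => Iff.rfl
    have hdec : ∀ w ∈ W, ∃ α β : F, ∃ u ∈ W', w = (α • v + β • z v) + u := by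
      intro w hw
      obtain ⟨s, hs⟩ : ∃ s, s = polar Q v w := ⟨_, rfl⟩
      obtain ⟨t, ht⟩ : ∃ t, t = polar Q (z v) w := ⟨_, rfl⟩
      refine ⟨(2 * s - a * t) / (4 - a * a), (2 * t - a * s) / (4 - a * a),
        w - (((2 * s - a * t) / (4 - a * a)) • v + ((2 * t - a * s) / (4 - a * a)) • z v), ?_, by abel⟩
      rw [hmem]
      refine ⟨sub_mem hw (add_mem (W.smul_mem _ hvW) (W.smul_mem _ (hW _ hvW))), ?_, ?_⟩
      · rw [polar_sub_right, polar_add_right, polar_smul_right, polar_smul_right, p1, p2, ← hs, smul_eq_mul,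
          smul_eq_mul, div_eq_mul_inv, div_eq_mul_inv]
        linear_combination (-s) * hDi
      · rw [polar_sub_right, polar_add_right, polar_smul_right, polar_smul_right, p3, p4, ← ht, smul_eq_mul,
          smul_eq_mul, div_eq_mul_inv, div_eq_mul_inv]
        linear_combination (-t) * hDi
    have hW' : ∀ u ∈ W', z u ∈ W' := by
      intro u hu
      rw [hmem] at hu ⊢
      obtain ⟨h1, h2, h3⟩ := hu
      have h4 : polar Q (z v) (z u) = 0 := by rw [polar_map hzO, h2]
      have h5 : polar Q v (z u) = 0 := by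
        have h6 := polar_z_left hzO ha hz v u
        rw [h3, h2] at h6
        linear_combination h6
      exact ⟨hW u h1, h5, h4⟩
    have hnd' : ∀ w ∈ W', (∀ w' ∈ W', polar Q w w' = 0) → w = 0 := by
      intro u hu h
      apply hnd u ((hmem u).1 hu).1
      intro w hw
      obtain ⟨α, β, u', hu', rfl⟩ := hdec w hw
      rw [polar_add_right, polar_add_right, polar_smul_right, polar_smul_right, h u' hu', polar_comm Q u v,
        polar_comm Q u (z v), ((hmem u).1 hu).2.1, ((hmem u).1 hu).2.2]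
      simp
    have hlt : finrank F W' < n := by
      rw [← hn]
      apply Submodule.finrank_lt_finrank_of_lt
      refine lt_of_le_of_ne inf_le_left fun h => ?_
      have h1 : v ∈ W' := by rw [h]; exact hvW
      rw [hmem, p1, p3] at h1
      apply ha
      linear_combination a * h1.2.2 - 2 * h1.2.1
    obtain ⟨m, v', h1, h2, h3, h4, h5⟩ := ih _ hlt W' rfl hW' hnd'
    refine ⟨m + 1, Fin.cons v v', fun i => ?_, fun i => ?_, fun i j hij => ?_, fun i j hij => ?_, fun w hw => ?_⟩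
    · refine Fin.cases ?_ (fun k => ?_) i
      · rw [Fin.cons_zero]; exact hvW
      · rw [Fin.cons_succ]; exact ((hmem _).1 (h1 k)).1
    · refine Fin.cases ?_ (fun k => ?_) i
      · rw [Fin.cons_zero]; exact hQv
      · rw [Fin.cons_succ]; exact h2 k
    · revert hij
      refine Fin.cases ?_ (fun k => ?_) i <;> refine Fin.cases ?_ (fun l => ?_) j <;> intro hij
      · exact absurd rfl hij
      · rw [Fin.cons_zero, Fin.cons_succ]; exact ((hmem _).1 (h1 l)).2.1
      · rw [Fin.cons_zero, Fin.cons_succ, polar_comm]; exact ((hmem _).1 (h1 k)).2.1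
      · rw [Fin.cons_succ, Fin.cons_succ]; exact h3 k l (fun h => hij (by rw [h]))
    · revert hij
      refine Fin.cases ?_ (fun k => ?_) i <;> refine Fin.cases ?_ (fun l => ?_) j <;> intro hij
      · exact absurd rfl hij
      · rw [Fin.cons_zero, Fin.cons_succ]; exact ((hmem _).1 (hW' _ (h1 l))).2.1
      · rw [Fin.cons_zero, Fin.cons_succ, polar_comm]; exact ((hmem _).1 (h1 k)).2.2
      · rw [Fin.cons_succ, Fin.cons_succ]; exact h4 k l (fun h => hij (by rw [h]))
    · obtain ⟨α, β, u, hu, rfl⟩ := hdec w hw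
      obtain ⟨x, y, rfl⟩ := h5 u hu
      refine ⟨Fin.cons α x, Fin.cons β y, ?_⟩
      rw [Fin.sum_univ_succ]
      simp only [Fin.cons_zero, Fin.cons_succ]

/-- **the orthonormal basis** -/
theorem exists_fr [Finite F] [FiniteDimensional F V] {E : Type} [CommRing E] [StarRing E] {a : F} (hG : Gd E)
    (c : Cf F E a) (hnd : Nondeg Q) {z : V ≃ₗ[F] V} (hzO : z ∈ O Q) (ha : a * a ≠ 4)
    (hz : ∀ v, z (z v) = a • z v - v) : ∃ (m : ℕ) (v : Fin m → V), Fr Q z v := by
  obtain ⟨m, v, -, h1, h2, h3, h4⟩ := exists_aux hG c hzO ha hz (finrank F (⊤ : Submodule F V)) ⊤ rfl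
    (fun _ _ => trivial) (fun w _ h => hnd w fun y => h y trivial)
  exact ⟨m, v, h1, h2, h3, fun w => h4 w trivial⟩

end Cfsg.Agent.H55.CO
end

-- part: H55/CO/Coord
section
/-!
# COORD: `V = E^m`, `Q v = Σ N(v_i)`, the commutant of `z` is `Matrix (Fin m) (Fin m) E` (helper55, S3852)
-/

set_option autoImplicit false
set_option linter.unusedVariables false
set_option linter.unusedSectionVars false

namespace Cfsg.Agent.H55.CO

open Cfsg.Agent.H308.CA QuadraticMap Cfsg.Agent.LieClassical.OrthCore Module Matrix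

variable {F : Type} {V : Type*} [Field F] [AddCommGroup V] [Module F V] {Q : QuadraticForm F V}

/-- the commutant of `z` is the star ring `Matrix (Fin m) (Fin m) E` -/
structure Cmt (Q : QuadraticForm F V) (z : V ≃ₗ[F] V) (m : ℕ) (E : Type) [CommRing E] [StarRing E] where
  /-- the representation -/
  Φ : Matrix (Fin m) (Fin m) E →+* Module.End F V
  inj : Function.Injective Φ
  range : ∀ T : Module.End F V, (∀ v, T (z v) = z (T v)) ↔ ∃ A, Φ A = T
  adj : ∀ A v w, polar Q (Φ A v) w = polar Q v (Φ (star A) w)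
  isom : ∀ A, star A * A = 1 → ∀ v, Q (Φ A v) = Q v

section

variable {E : Type} [CommRing E] [StarRing E] {a : F} (c : Cf F E a) {m : ℕ} (b : Fin m → V) (z : V ≃ₗ[F] V)

/-- the coordinate map -/
noncomputable def ph : (Fin m → E) →+ V where
  toFun u := ∑ i, (c.re (u i) • b i + c.im (u i) • z (b i))
  map_zero' := by
    apply Finset.sum_eq_zero
    intro i _
    have h1 : c.re (0 : E) = 0 := c.re_eq (y := 0) (by simp)
    have h2 : c.im (0 : E) = 0 := c.im_eq (x := 0) (by simp)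
    change c.re (0 : E) • b i + c.im (0 : E) • z (b i) = 0
    rw [h1, h2, zero_smul, zero_smul, add_zero]
  map_add' u w := by
    rw [← Finset.sum_add_distrib]
    apply Finset.sum_congr rfl
    intro i _
    change c.re (u i + w i) • b i + c.im (u i + w i) • z (b i) = _
    rw [c.re_add, c.im_add, add_smul, add_smul]
    abel

theorem ph_apply (u : Fin m → E) : ph c b z u = ∑ i, (c.re (u i) • b i + c.im (u i) • z (b i)) := rfl

theorem ph_smul (t : F) (u : Fin m → E) : ph c b z (c.i t • u) = t • ph c b z u := by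
  rw [ph_apply, ph_apply, Finset.smul_sum]
  apply Finset.sum_congr rfl
  intro i _
  rw [Pi.smul_apply, smul_eq_mul, c.re_smul, c.im_smul, smul_add, smul_smul, smul_smul]

variable {z} (hz : ∀ v, z (z v) = a • z v - v)
include hz

theorem ph_om (u : Fin m → E) : ph c b z (c.om • u) = z (ph c b z u) := by
  rw [ph_apply, ph_apply, map_sum]
  apply Finset.sum_congr rfl
  intro i _
  rw [Pi.smul_apply, smul_eq_mul, c.re_om, c.im_om, map_add, map_smul, map_smul, hz]
  module

theorem ph_mul (e : E) (u : Fin m → E) : ph c b z (e • u) = c.re e • ph c b z u + c.im e • z (ph c b z u) := by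
  conv_lhs => rw [c.eq e]
  rw [add_smul, map_add, mul_smul, ph_smul, ph_smul, ph_om c b hz]

variable {b} (hzO : z ∈ O Q) (ha : a * a ≠ 4) (hb : Fr Q z b)
include hzO ha hb c

theorem polar_fr (i : Fin m) (u : Fin m → E) : polar Q (b i) (ph c b z u) = 2 * c.re (u i) + a * c.im (u i) := by
  have h1 : ∀ (x : V) (s : Finset (Fin m)) (f : Fin m → V), polar Q x (∑ j ∈ s, f j) = ∑ j ∈ s, polar Q x (f j) := by
    intro x s f
    exact map_sum (polarBilin Q x) f s
  rw [ph_apply, h1, Finset.sum_eq_single i]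
  · rw [polar_add_right, polar_smul_right, polar_smul_right, polar_self', hb.q1, polar_z hzO ha hz, hb.q1]
    simp only [smul_eq_mul]
    ring
  · intro j _ hj
    rw [polar_add_right, polar_smul_right, polar_smul_right, hb.orth i j (Ne.symm hj), hb.orth' i j (Ne.symm hj)]
    simp
  · intro h
    exact absurd (Finset.mem_univ i) h

theorem ph_inj : Function.Injective (ph c b z) := by
  rw [injective_iff_map_eq_zero]
  intro u hu
  funext i
  have h1 := polar_fr c hz hzO ha hb i u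
  have h2 := polar_fr c hz hzO ha hb i (c.om • u)
  rw [ph_om c b hz, hu, map_zero, polar_zero_right] at h2
  rw [hu, polar_zero_right] at h1
  rw [Pi.smul_apply, smul_eq_mul, c.re_om, c.im_om] at h2
  have hD : (4 - a * a) ≠ 0 := fun h => ha (by linear_combination -h)
  have h3 : (4 - a * a) * c.im (u i) = 0 := by linear_combination -a * h1 + 2 * h2
  have h4 : (4 - a * a) * c.re (u i) = 0 := by linear_combination (-2 + a * a) * h1 - a * h2
  have h5 := (mul_eq_zero.1 h3).resolve_left hD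
  have h6 := (mul_eq_zero.1 h4).resolve_left hD
  rw [c.eq (u i), h5, h6, map_zero, zero_mul, add_zero]
  rfl

theorem ph_surj : Function.Surjective (ph c b z) := by
  intro w
  obtain ⟨x, y, rfl⟩ := hb.span w
  refine ⟨fun i => c.i (x i) + c.i (y i) * c.om, ?_⟩
  rw [ph_apply]
  apply Finset.sum_congr rfl
  intro i _
  rw [c.re_mk, c.im_mk]

theorem Q_ph (u : Fin m → E) : c.i (Q (ph c b z u)) = star u ⬝ᵥ u := by
  have h0 : ∀ s : Finset (Fin m), c.i (Q (∑ i ∈ s, (c.re (u i) • b i + c.im (u i) • z (b i)))) =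
      ∑ i ∈ s, star (u i) * u i := by
    intro s
    induction s using Finset.induction_on with
    | empty => rw [Finset.sum_empty, Finset.sum_empty, QuadraticMap.map_zero, map_zero]
    | insert i s hi ih =>
      rw [Finset.sum_insert hi, Finset.sum_insert hi, Q_add, map_add, map_add, ih, Q_plane hzO ha hz, hb.q1, mul_one,
        ← c.norm_mk, ← c.eq]
      have h1 : polar Q (c.re (u i) • b i + c.im (u i) • z (b i))
          (∑ j ∈ s, (c.re (u j) • b j + c.im (u j) • z (b j))) = 0 := by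
        have h2 := map_sum (polarBilin Q (c.re (u i) • b i + c.im (u i) • z (b i)))
          (fun j => c.re (u j) • b j + c.im (u j) • z (b j)) s
        rw [polarBilin_apply_apply] at h2
        rw [h2]
        apply Finset.sum_eq_zero
        intro j hj
        have hij : i ≠ j := fun h => hi (h ▸ hj)
        rw [polarBilin_apply_apply, polar_add_left, polar_smul_left, polar_smul_left, polar_add_right, polar_add_right,
          polar_smul_right, polar_smul_right, polar_smul_right, polar_smul_right, hb.orth i j hij, hb.orth' i j hij,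
          polar_map hzO, hb.orth i j hij, polar_comm Q (z (b i)), hb.orth' j i (Ne.symm hij)]
        simp
      rw [h1, map_zero, add_zero]
  exact h0 Finset.univ

theorem polar_ph (u w : Fin m → E) : c.i (polar Q (ph c b z u) (ph c b z w)) = star u ⬝ᵥ w + star w ⬝ᵥ u := by
  rw [polar, map_sub, map_sub, ← map_add, Q_ph c hz hzO ha hb, Q_ph c hz hzO ha hb, Q_ph c hz hzO ha hb, star_add,
    add_dotProduct, dotProduct_add, dotProduct_add]
  ring

/-- **COORD** -/
theorem exists_co : Nonempty (Cmt Q z m E) := by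
  let e : (Fin m → E) ≃+ V := AddEquiv.ofBijective (ph c b z) ⟨ph_inj c hz hzO ha hb, ph_surj c hz hzO ha hb⟩
  have he : ∀ u, e u = ph c b z u := fun u => rfl
  have hes : ∀ v, ph c b z (e.symm v) = v := fun v => e.apply_symm_apply v
  have hse : ∀ u, e.symm (ph c b z u) = u := fun v => e.symm_apply_apply v
  have hsm : ∀ (t : F) (v : V), e.symm (t • v) = c.i t • e.symm v := by
    intro t v
    rw [AddEquiv.symm_apply_eq, he, ph_smul, hes]
  have hso : ∀ v : V, e.symm (z v) = c.om • e.symm v := by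
    intro v
    rw [AddEquiv.symm_apply_eq, he, ph_om c b hz, hes]
  let Φ : Matrix (Fin m) (Fin m) E →+* Module.End F V :=
    { toFun := fun A =>
        { toFun := fun v => ph c b z (A *ᵥ e.symm v)
          map_add' := fun v w => by rw [map_add, mulVec_add, map_add]
          map_smul' := fun t v => by rw [hsm, mulVec_smul, ph_smul]; rfl }
      map_one' := by
        ext v
        change ph c b z ((1 : Matrix (Fin m) (Fin m) E) *ᵥ e.symm v) = v
        rw [one_mulVec, hes]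
      map_mul' := fun A B => by
        ext v
        change ph c b z ((A * B) *ᵥ e.symm v) = ph c b z (A *ᵥ e.symm (ph c b z (B *ᵥ e.symm v)))
        rw [hse, mulVec_mulVec]
      map_zero' := by
        ext v
        change ph c b z ((0 : Matrix (Fin m) (Fin m) E) *ᵥ e.symm v) = 0
        rw [zero_mulVec, map_zero]
      map_add' := fun A B => by
        ext v
        change ph c b z ((A + B) *ᵥ e.symm v) = ph c b z (A *ᵥ e.symm v) + ph c b z (B *ᵥ e.symm v)
        rw [add_mulVec, map_add] }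
  have hΦ : ∀ A v, Φ A v = ph c b z (A *ᵥ e.symm v) := fun A v => rfl
  refine ⟨⟨Φ, ?_, ?_, ?_, ?_⟩⟩
  · intro A B h
    apply Matrix.ext_of_mulVec_single
    intro i
    apply ph_inj c hz hzO ha hb
    have h1 := LinearMap.congr_fun h (ph c b z (Pi.single i 1))
    rw [hΦ, hΦ, hse] at h1
    exact h1
  · intro T
    constructor
    · intro hT
      let T' : (Fin m → E) →ₗ[E] (Fin m → E) :=
        { toFun := fun u => e.symm (T (ph c b z u))
          map_add' := fun u w => by rw [map_add, map_add, map_add]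
          map_smul' := fun s u => by
            rw [ph_mul c b hz, map_add, map_smul, map_smul, hT, map_add, hsm, hsm, hso, smul_smul, ← add_smul,
              ← c.eq]
            rfl }
      refine ⟨LinearMap.toMatrix' T', ?_⟩
      ext v
      rw [hΦ]
      have h1 : LinearMap.toMatrix' T' *ᵥ e.symm v = T' (e.symm v) := by
        rw [← Matrix.toLin'_apply, Matrix.toLin'_toMatrix']
      rw [h1]
      change ph c b z (e.symm (T (ph c b z (e.symm v)))) = T v
      rw [hes, hes]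
    · rintro ⟨A, rfl⟩ v
      rw [hΦ, hΦ, hso, mulVec_smul, ph_om c b hz]
  · intro A v w
    apply c.inj
    obtain ⟨u, rfl⟩ := ph_surj c hz hzO ha hb v
    obtain ⟨t, rfl⟩ := ph_surj c hz hzO ha hb w
    rw [hΦ, hΦ, hse, hse, polar_ph c hz hzO ha hb, polar_ph c hz hzO ha hb, star_mulVec, star_mulVec,
      ← dotProduct_mulVec, ← dotProduct_mulVec, ← star_eq_conjTranspose, ← star_eq_conjTranspose, star_star]
  · intro A hA v
    apply c.inj
    obtain ⟨u, rfl⟩ := ph_surj c hz hzO ha hb v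
    rw [hΦ, hse, Q_ph c hz hzO ha hb, Q_ph c hz hzO ha hb, star_mulVec, ← dotProduct_mulVec, mulVec_mulVec,
      ← star_eq_conjTranspose, hA, one_mulVec]

theorem card_co [Finite F] : Nat.card V = Nat.card F ^ (2 * m) := by
  rw [← Nat.card_congr (Equiv.ofBijective _ ⟨ph_inj c hz hzO ha hb, ph_surj c hz hzO ha hb⟩), Nat.card_fun,
    c.card_eq, Nat.card_fin, ← pow_mul]

end

/-- **COORD**, final form: `F` finite, `Q` nondegenerate, `z` an isometry with `z² = a z - 1`, `a² ≠ 4`. -/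
theorem coord {F : Type} [Field F] [Finite F] {V : Type*} [AddCommGroup V] [Module F V] [FiniteDimensional F V]
    {Q : QuadraticForm F V} (hnd : Nondeg Q) {z : V ≃ₗ[F] V} (hzO : z ∈ O Q) {a : F} (ha : a * a ≠ 4)
    (hz : ∀ v, z (z v) = a • z v - v) {m : ℕ} (hm : Module.finrank F V = 2 * m) :
    ∃ (E : Type) (_ : CommRing E) (_ : StarRing E), Gd E ∧ (∀ p, CharP F p → CharP E p) ∧
      Nat.card E = Nat.card F ^ 2 ∧ Nonempty (Cmt Q z m E) := by
  obtain ⟨E, i, s, hG, ⟨c⟩⟩ := exists_cf F a ha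
  obtain ⟨m', b, hb⟩ := exists_fr hG c hnd hzO ha hz
  have h1 := card_co c hz hzO ha hb
  have h2 : Nat.card V = Nat.card F ^ (2 * m) := by
    rw [← hm, Module.natCard_eq_pow_finrank (K := F)]
  have h3 : m' = m := by
    have h4 := Nat.pow_right_injective Finite.one_lt_card (h1.symm.trans h2)
    omega
  subst h3
  exact ⟨E, i, s, hG, fun p hp => c.charP p, c.card_eq, exists_co c hz hzO ha hb⟩

end Cfsg.Agent.H55.CO
end

-- part: H55/CO/Perf
section
/-!
# `SU` is perfect (helper55, S3852)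
-/

set_option autoImplicit false

namespace Cfsg.Agent.H55.CO

open Cfsg.Agent.H308.CA Matrix

theorem perfect_of_equiv {G H : Type*} [Group G] [Group H] (f : G ≃* H) (h : commutator H = ⊤) : commutator G = ⊤ := by
  have h1 : (commutator G).map f.toMonoidHom = ⊤ := by
    rw [_root_.commutator_def, Subgroup.map_commutator, Subgroup.map_top_of_surjective _ f.surjective,
      ← _root_.commutator_def, h]
  rw [eq_top_iff]
  intro x _
  have h2 : f x ∈ (commutator G).map f.toMonoidHom := by rw [h1]; trivial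
  obtain ⟨y, hy, hxy⟩ := h2
  rwa [← f.injective hxy]

/-- `SU_m(E)`, `m ≥ 3`, odd characteristic, is perfect -/
theorem su_perfect {E : Type} [CommRing E] [StarRing E] (h : Gd E) (h2 : IsUnit (2 : E)) {m : ℕ} (hm : 3 ≤ m) :
    commutator (H308.CA.SU (Fin m) E) = ⊤ := by
  cases h with
  | lin F i _ =>
    have h3 : 3 ≤ Fintype.card (Fin m) := by rwa [Fintype.card_fin]
    exact perfect_of_equiv Cfsg.Agent.H683.CA.toSL (LieClassical.SLGen.commutator_eq_top (F := F) h3)
  | uni _ i s _ hs =>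
    have : Fintype E := Fintype.ofFinite E
    obtain ⟨q, hq, hst⟩ := Cfsg.Agent.H908.CarterPC.exists_q hs
    refine perfect_of_equiv (Cfsg.Agent.H466.CA.BridgeUni.kap hst)
      (Cfsg.Agent.LieClassical.HermPerfect.commutator_SU_eq_top hq hm ?_)
    rintro ⟨-, rfl⟩
    have h3 : (2 : E) ^ 2 = 0 := by
      have h4 : ((Fintype.card E : ℕ) : E) = 0 := Nat.cast_card_eq_zero E
      rw [hq, Nat.cast_pow] at h4
      exact_mod_cast h4
    exact h2.ne_zero (pow_eq_zero_iff (two_ne_zero) |>.1 h3)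

end Cfsg.Agent.H55.CO
end

-- part: H55/CO/Ta
section
/-!
# TAO: the centralizer of `z` acts on `Matrix (Fin m) (Fin m) E` (helper55, S3852)
-/

set_option autoImplicit false
set_option linter.unusedVariables false
set_option linter.unusedSectionVars false

namespace Cfsg.Agent.H55.CO

open QuadraticMap Cfsg.Agent.LieClassical.OrthCore Cfsg.Agent.LieClassical.OrthTrans
  Cfsg.Agent.LieClassical.OrthSimple Cfsg.Agent.ClassicalGeometry.OrthSemi
  Cfsg.Agent.ClassicalGeometry.OrthAut1 Cfsg.Agent.H989.OutOrth.Basic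
open Subgroup Pointwise Cfsg.Agent.Solvable.Carter Cfsg.Agent.H18.Carter Cfsg.Agent.H381.Car
  Cfsg.Agent.H502.Car
open Cfsg.Agent.H308.CA (Gd TA IsP PropFix Sml mt mkSU)

universe u

section cE

variable {F V : Type*} [Field F] [AddCommGroup V] [Module F V] {Q : QuadraticForm F V}

/-- conjugation of endomorphisms by a semisimilitude -/
def cE (M : Gam Q) : Module.End F V →+* Module.End F V where
  toFun T :=
    { toFun := fun v => M.1 (T (M.1⁻¹ v))
      map_add' := fun u v => by rw [add_of_mem ((Gam Q).inv_mem M.2), map_add, add_of_mem M.2]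
      map_smul' := fun a v => by
        obtain ⟨σ, c, hM⟩ := M.2
        rw [hM.inv.smul, map_smul, hM.smul, RingEquiv.apply_symm_apply]
        rfl }
  map_one' := by
    ext v
    change M.1 (M.1⁻¹ v) = v
    rw [apply_inv]
  map_mul' S T := by
    ext v
    change M.1 (S (T (M.1⁻¹ v))) = M.1 (S (M.1⁻¹ (M.1 (T (M.1⁻¹ v)))))
    rw [inv_apply]
  map_zero' := by
    ext v
    change M.1 0 = 0
    obtain ⟨σ, c, hM⟩ := M.2
    exact hM.map_zero
  map_add' S T := by
    ext v
    change M.1 (S (M.1⁻¹ v) + T (M.1⁻¹ v)) = M.1 (S (M.1⁻¹ v)) + M.1 (T (M.1⁻¹ v))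
    rw [add_of_mem M.2]

theorem cE_apply (M : Gam Q) (T : Module.End F V) (v : V) : cE M T v = M.1 (T (M.1⁻¹ v)) := rfl

theorem cE_one_left (T : Module.End F V) : cE (1 : Gam Q) T = T := rfl

theorem cE_mul_left (M N : Gam Q) (T : Module.End F V) : cE (M * N) T = cE M (cE N T) := by
  ext v
  change M.1 (N.1 (T ((M.1 * N.1)⁻¹ v))) = M.1 (N.1 (T (N.1⁻¹ (M.1⁻¹ v))))
  rw [mul_inv_rev]
  rfl

theorem cE_scal (a : Fˣ) (T : Module.End F V) : cE (scal Q a) T = T := by
  ext v
  have h1 : (scal Q a).1 ((scal Q a).1⁻¹ v) = v := apply_inv _ _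
  rw [scal_apply] at h1
  rw [cE_apply, scal_apply, ← map_smul, h1]

theorem cE_polar (hnd : Nondeg Q) (M : Gam Q) {S T : Module.End F V} (h : ∀ v w, polar Q (S v) w = polar Q v (T w))
    (v w : V) : polar Q (cE M S v) w = polar Q v (cE M T w) := by
  obtain ⟨σ, c, hM⟩ := M.2
  have h1 : w = M.1 (M.1⁻¹ w) := (apply_inv _ _).symm
  have h2 : v = M.1 (M.1⁻¹ v) := (apply_inv _ _).symm
  rw [cE_apply, cE_apply]
  conv_lhs => rw [h1]
  conv_rhs => rw [h2]
  rw [hM.polar, hM.polar, h]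

end cE

section main

variable {F : Type} [Field F] [Finite F] {V : Type} [AddCommGroup V] [Module F V] {Q : QuadraticForm F V}
variable {E' : Type} [CommRing E'] [StarRing E'] {m : ℕ}

section lin

variable {z : V ≃ₗ[F] V} (C : Cmt Q z m E')

/-- the isometry of an element of `SU` -/
def jO : H308.CA.SU (Fin m) E' →* (V ≃ₗ[F] V) where
  toFun u :=
    { C.Φ (_root_.Cfsg.Agent.H308.CA.mt u) with
      invFun := C.Φ (star (_root_.Cfsg.Agent.H308.CA.mt u))
      left_inv := fun v => by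
        change (C.Φ (star (_root_.Cfsg.Agent.H308.CA.mt u)) * C.Φ (_root_.Cfsg.Agent.H308.CA.mt u)) v = v
        rw [← map_mul, H308.CA.star_mt_mul, map_one]
        rfl
      right_inv := fun v => by
        change (C.Φ (_root_.Cfsg.Agent.H308.CA.mt u) * C.Φ (star (_root_.Cfsg.Agent.H308.CA.mt u))) v = v
        rw [← map_mul, H308.CA.mt_mul_star, map_one]
        rfl }
  map_one' := by
    ext v
    change C.Φ (mt 1) v = v
    rw [map_one, map_one]
    rfl
  map_mul' u w := by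
    ext v
    change C.Φ (_root_.Cfsg.Agent.H308.CA.mt (u * w)) v = C.Φ (_root_.Cfsg.Agent.H308.CA.mt u) (C.Φ (_root_.Cfsg.Agent.H308.CA.mt w) v)
    rw [map_mul, map_mul]
    rfl

theorem jO_mem_O (u : H308.CA.SU (Fin m) E') : jO C u ∈ O Q := fun v => C.isom _ (H308.CA.star_mt_mul u) v

theorem jO_mem_E (hG : Good Q) (hp : _root_.commutator (H308.CA.SU (Fin m) E') = ⊤) (u : H308.CA.SU (Fin m) E') :
    jO C u ∈ E Q := by
  have h1 : (⊤ : Subgroup (H308.CA.SU (Fin m) E')).map (jO C) ≤ O Q := by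
    rintro _ ⟨w, -, rfl⟩
    exact jO_mem_O C w
  have h2 : (⊤ : Subgroup (H308.CA.SU (Fin m) E')).map (jO C) ≤ E Q := by
    rw [← hp, _root_.commutator_def, Subgroup.map_commutator, ← hG.commutator_eq_E]
    exact Subgroup.commutator_mono h1 h1
  exact h2 ⟨u, trivial, rfl⟩

theorem jO_comm (u : H308.CA.SU (Fin m) E') (v : V) : jO C u (z v) = z (jO C u v) :=
  (C.range (C.Φ (_root_.Cfsg.Agent.H308.CA.mt u))).2 ⟨_, rfl⟩ v

/-- `jO` as a homomorphism to `E Q` -/
def jE (hG : Good Q) (hp : _root_.commutator (H308.CA.SU (Fin m) E') = ⊤) : H308.CA.SU (Fin m) E' →* ↥(E Q) :=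
  (jO C).codRestrict (E Q) (jO_mem_E C hG hp)

/-- the inverse of `Φ` -/
noncomputable def pr (T : Module.End F V) : Matrix (Fin m) (Fin m) E' := Function.invFun C.Φ T

theorem Φ_pr {T : Module.End F V} (h : ∀ v, T (z v) = z (T v)) : C.Φ (pr C T) = T :=
  Function.invFun_eq ((C.range T).1 h)

theorem cE_comm {M : Gam Q} (hM : ∀ v, M.1 (z v) = z (M.1 v)) (A : Matrix (Fin m) (Fin m) E') :
    ∀ v, cE M (C.Φ A) (z v) = z (cE M (C.Φ A) v) := by
  intro v
  have h1 : M.1⁻¹ (z v) = z (M.1⁻¹ v) := by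
    apply M.1.injective
    rw [apply_inv, hM, apply_inv]
  rw [cE_apply, cE_apply, h1, (C.range (C.Φ A)).2 ⟨_, rfl⟩, hM]

theorem Φ_pr_cE {M : Gam Q} (hM : ∀ v, M.1 (z v) = z (M.1 v)) (A : Matrix (Fin m) (Fin m) E') :
    C.Φ (pr C (cE M (C.Φ A))) = cE M (C.Φ A) := Φ_pr C (cE_comm C hM A)

end lin

section grp

variable {G : Type u} [Group G] {S : Subgroup G} [S.Normal]

/-- the data needed for the `TA` structure -/
structure Dt (e : S ≃* P Q) (z : ↥(E Q)) (r : ℕ) : Prop where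
  good : Good Q
  odd : Odd r
  pow : z ^ r = 1
  lift : ∀ g : G, ∃ M : Gam Q, Lf e g M

variable {e : S ≃* P Q} {z : ↥(E Q)} {r : ℕ} (d : Dt e z r) (C : Cmt Q z.1 m E')

/-- the centralizer of `z` -/
abbrev Cz (e : S ≃* P Q) (z : ↥(E Q)) : Subgroup G := centralizer ({el e z} : Set G)

include d in
theorem Dt.comm (g : Cz e z) {M : Gam Q} (hM : Lf e g.1 M) (v : V) : M.1 (z.1 v) = z.1 (M.1 v) := by
  have h1 : (g : G) * el e z * (g : G)⁻¹ = el e z := by
    rw [mul_inv_eq_iff_eq_mul]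
    exact mem_centralizer_singleton_iff.1 g.2
  have h2 := hM.fix d.good d.odd d.pow h1
  have h3 : conjLin M z.1 = z.1 := congrArg Subtype.val h2
  rw [← conjLin_apply', h3]

/-- a lift -/
noncomputable def lft (g : Cz e z) : Gam Q := (d.lift g.1).choose

theorem lft_spec (g : Cz e z) : Lf e g.1 (lft d g) := (d.lift g.1).choose_spec

theorem cE_eq {g : G} {M M' : Gam Q} (h : Lf e g M) (h' : Lf e g M') (hG : Good Q) (T : Module.End F V) :
    cE M T = cE M' T := by
  obtain ⟨a, rfl⟩ := h.eq_one_of_scal hG h'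
  rw [cE_mul_left, cE_scal]

/-- the action on matrices -/
noncomputable def rf0 (g : Cz e z) (A : Matrix (Fin m) (Fin m) E') : Matrix (Fin m) (Fin m) E' :=
  pr C (cE (lft d g) (C.Φ A))

theorem rf0_spec (g : Cz e z) {M : Gam Q} (hM : Lf e g.1 M) (A : Matrix (Fin m) (Fin m) E') :
    C.Φ (rf0 d C g A) = cE M (C.Φ A) := by
  rw [rf0, Φ_pr_cE C (d.comm g (lft_spec d g)), cE_eq (lft_spec d g) hM d.good]

/-- the action -/
noncomputable def rh : Cz e z →* RingAut (Matrix (Fin m) (Fin m) E') := by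
  have hmul : ∀ (g h : Cz e z) A, rf0 d C (g * h) A = rf0 d C g (rf0 d C h A) := by
    intro g h A
    apply C.inj
    rw [rf0_spec d C (g * h) ((lft_spec d g).mul (lft_spec d h)), rf0_spec d C g (lft_spec d g),
      rf0_spec d C h (lft_spec d h), cE_mul_left]
  have hone : ∀ A, rf0 d C 1 A = A := by
    intro A
    apply C.inj
    have h1 : Lf e ((1 : Cz e z) : G) 1 := by
      change Psi Q 1 = act e 1
      rw [map_one, map_one]
    rw [rf0_spec d C 1 h1, cE_one_left]
  exact MonoidHom.mk' (fun g =>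
    { toFun := rf0 d C g
      invFun := rf0 d C g⁻¹
      left_inv := fun A => by rw [← hmul, inv_mul_cancel, hone]
      right_inv := fun A => by rw [← hmul, mul_inv_cancel, hone]
      map_mul' := fun A B => by
        apply C.inj
        rw [map_mul, rf0_spec d C g (lft_spec d g), rf0_spec d C g (lft_spec d g), rf0_spec d C g (lft_spec d g),
          map_mul, map_mul]
      map_add' := fun A B => by
        apply C.inj
        rw [map_add, rf0_spec d C g (lft_spec d g), rf0_spec d C g (lft_spec d g), rf0_spec d C g (lft_spec d g),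
          map_add, map_add] }) (fun g h => by
      ext A : 1
      exact hmul g h A)

theorem rh_spec (g : Cz e z) {M : Gam Q} (hM : Lf e g.1 M) (A : Matrix (Fin m) (Fin m) E') :
    C.Φ (rh d C g A) = cE M (C.Φ A) := rf0_spec d C g hM A

variable (hp : _root_.commutator (H308.CA.SU (Fin m) E') = ⊤)

/-- the inner elements -/
noncomputable def jj : H308.CA.SU (Fin m) E' →* Cz e z :=
  ((el e).comp (jE C d.good hp)).codRestrict (Cz e z) (fun u => by
    rw [mem_centralizer_singleton_iff]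
    change el e (jE C d.good hp u) * el e z = el e z * el e (jE C d.good hp u)
    rw [← map_mul, ← map_mul]
    congr 1
    apply Subtype.ext
    ext v
    exact jO_comm C u v)

/-- **TAO** -/
noncomputable def ta : TA (Cz e z) (Fin m) E' where
  ρ := rh d C
  st g a := by
    apply C.inj
    rw [rh_spec d C g (lft_spec d g)]
    have h1 : ∀ v w, polar Q v (cE (lft d g) (C.Φ (star a)) w) = polar Q v (C.Φ (star (rh d C g a)) w) := by
      intro v w
      rw [← cE_polar d.good.nondeg (lft d g) (C.adj a), ← C.adj, rh_spec d C g (lft_spec d g)]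
    ext w
    rw [← sub_eq_zero]
    apply d.good.nondeg
    intro y
    rw [polar_comm, polar_sub_right, h1, sub_self]
  j := jj d C hp
  ρ_j u a := by
    apply C.inj
    have h1 : Lf e (jj d C hp u : G) (ofO Q ⟨(jE C d.good hp u : V ≃ₗ[F] V), E_le_O (jE C d.good hp u).2⟩) :=
      lf_el e _
    rw [rh_spec d C _ h1, map_mul, map_mul]
    rfl
  conj_j g u v h := by
    apply Subtype.ext
    change (g : G) * el e (jE C d.good hp u) * (g : G)⁻¹ = el e (jE C d.good hp v)
    rw [(lft_spec d g).conj]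
    congr 1
    apply Subtype.ext
    ext x
    rw [coe_conjE, conjLin_apply]
    change (lft d g).1 (C.Φ (_root_.Cfsg.Agent.H308.CA.mt u) ((lft d g).1⁻¹ x)) = C.Φ (_root_.Cfsg.Agent.H308.CA.mt v) x
    rw [h, rh_spec d C g (lft_spec d g)]
    rfl

end grp

end main

end Cfsg.Agent.H55.CO
end

-- part: H55/CO/FrameO
section
/-!
# FRAME-O from helper308's `claim1` (helper55, S3852)
-/

set_option autoImplicit false
set_option linter.unusedVariables false
set_option linter.unusedSectionVars false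

namespace Cfsg.Agent.H55.CO

open QuadraticMap Cfsg.Agent.LieClassical.OrthCore Cfsg.Agent.LieClassical.OrthTrans
  Cfsg.Agent.LieClassical.OrthSimple Cfsg.Agent.ClassicalGeometry.OrthSemi
  Cfsg.Agent.ClassicalGeometry.OrthAut1 Cfsg.Agent.H989.OutOrth.Basic
open Subgroup Pointwise Cfsg.Agent.Solvable.Carter Cfsg.Agent.H18.Carter Cfsg.Agent.H381.Car
  Cfsg.Agent.H502.Car
open Cfsg.Agent.H308.CA (Gd TA IsP PropFix Sml mt mkSU)

universe u

/-- the statement of helper308's `claim1` -/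
def Claim1 : Prop :=
  ∀ (p : ℕ), p.Prime → p ≠ 2 → ∀ (n : ℕ) (Γ : Type u) [Group Γ] [Finite Γ] (ι : Type) [Fintype ι] [DecidableEq ι]
    (E : Type) [CommRing E] [StarRing E], Gd E → CharP E p → ∀ (T : TA Γ ι E), Sml Γ → ∀ (K : Subgroup Γ), IsCarter K →
      Fintype.card ι = n → (¬ ∃ a : ℕ, n = 2 ^ a) → n ≠ 0 → PropFix T K

theorem frameO_of (hC : Claim1.{u}) : FrameO.{u} := by
  intro F _ _ ι _ _ Q hG h2 G _ _ S _ ctx K hK e hs z r hr hr2 hzr hz1 hfx a hz ha m hm hm2 hm0
  have d : Dt e z r := ⟨hG, hr.odd_of_ne_two hr2, hzr, hs⟩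
  obtain ⟨E', _, _, hGd, hchar, -, ⟨C⟩⟩ := coord hG.nondeg (E_le_O z.2) ha hz (m := m) (by
    rw [Module.finrank_fintype_fun_eq_card, hm])
  have hm3 : 3 ≤ m := by
    by_contra hlt
    apply hm2
    have h3 : m = 1 ∨ m = 2 := by omega
    rcases h3 with h3 | h3
    · exact ⟨0, by rw [h3]; rfl⟩
    · exact ⟨1, by rw [h3]; rfl⟩
  obtain ⟨p, hp⟩ := CharP.exists F
  have hpp : p.Prime := CharP.char_is_prime F p
  have hp2 : p ≠ 2 := by
    rintro rfl
    exact h2 (by exact_mod_cast CharP.cast_eq_zero F 2)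
  have hpE : CharP E' p := hchar p hp
  have h2E : (2 : E') ≠ 0 := by
    intro h
    have h3 : ((2 : ℕ) : E') = 0 := by exact_mod_cast h
    rw [CharP.cast_eq_zero_iff E' p] at h3
    exact hp2 ((Nat.prime_dvd_prime_iff_eq hpp Nat.prime_two).1 h3)
  have h2u : IsUnit (2 : E') := hGd.isUnit_of_sym (by
    have h3 : star ((2 : ℕ) : E') = ((2 : ℕ) : E') := star_natCast 2
    exact_mod_cast h3) h2E
  have hperf := su_perfect hGd h2u hm3
  have hle : K ≤ Cz e z := hfx.le_centralizer hs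
  obtain ⟨e0, hP, h0, h1, hfix⟩ := hC p hpp hp2 m (Cz e z) (Fin m) E' hGd hpE (ta d C hperf)
    (Cfsg.Agent.H308.CA.Sml.subgroup ctx.min _) (K.subgroupOf (Cz e z)) (hK.subgroupOf hle) (Fintype.card_fin m) hm2 hm0
  obtain ⟨A, hA⟩ : ∃ A : Matrix (Fin m) (Fin m) E', A = e0 + e0 - 1 := ⟨_, rfl⟩
  have hAA : A * A = 1 := by
    rw [hA, sub_mul, mul_sub, add_mul, mul_add, hP.idem, one_mul, mul_one]
    abel
  have hsA : star A = A := by rw [hA, star_sub, star_add, hP.sym, star_one]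
  have hinv : Function.Involutive (C.Φ A) := fun v => by
    have h3 : (C.Φ A * C.Φ A) v = v := by rw [← map_mul, hAA, map_one]; rfl
    exact h3
  have hAv : ∀ v, C.Φ A v = C.Φ e0 v + C.Φ e0 v - v := by
    intro v
    rw [hA, map_sub, map_add, map_one]
    rfl
  have hidem : ∀ v, C.Φ e0 (C.Φ e0 v) = C.Φ e0 v := by
    intro v
    have h3 : (C.Φ e0 * C.Φ e0) v = C.Φ e0 v := by rw [← map_mul, hP.idem]
    exact h3
  refine ⟨LinearEquiv.ofInvolutive (C.Φ A) hinv, ?_, ?_, ?_, ?_, ?_, ?_⟩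
  · intro v
    exact C.isom A (by rw [hsA, hAA]) v
  · ext v : 1
    exact hinv v
  · obtain ⟨w, hw⟩ : ∃ w, C.Φ e0 w ≠ 0 := by
      by_contra hcon
      push Not at hcon
      apply h0
      apply C.inj
      rw [map_zero]
      exact LinearMap.ext hcon
    refine ⟨C.Φ e0 w, hw, ?_⟩
    change C.Φ A (C.Φ e0 w) = _
    rw [hAv, hidem]
    abel
  · obtain ⟨w, hw⟩ : ∃ w, C.Φ e0 w ≠ w := by
      by_contra hcon
      push Not at hcon
      apply h1
      apply C.inj
      rw [map_one]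
      exact LinearMap.ext hcon
    refine ⟨w - C.Φ e0 w, sub_ne_zero.2 hw.symm, ?_⟩
    change C.Φ A (w - C.Φ e0 w) = _
    rw [hAv, map_sub, hidem]
    abel
  · intro v
    exact (C.range (C.Φ A)).2 ⟨_, rfl⟩ v
  · intro k hk M hM
    have h3 := hfix ⟨k, hle hk⟩ (mem_subgroupOf.2 hk)
    have h4 := rh_spec d C ⟨k, hle hk⟩ hM e0
    change C.Φ ((ta d C hperf).ρ ⟨k, hle hk⟩ e0) = _ at h4
    rw [h3] at h4
    have h5 : cE M (C.Φ A) = C.Φ A := by
      rw [hA, map_sub, map_add, map_one, map_sub, map_add, map_one, ← h4]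
    ext v : 1
    exact LinearMap.congr_fun h5 v

end Cfsg.Agent.H55.CO
end

-- part: H55/CO/Final
section
/-!
# FRAME-O (helper55, S3852)
-/

set_option autoImplicit false

namespace Cfsg.Agent.H55.CO

open Cfsg.Agent.H381.Car Cfsg.Agent.H502.Car

universe u

theorem claim1' (hF : Fpf.{u}) : Claim1.{u} := by
  intro p hp hp2 n Γ _ _ ι _ _ E _ _ h hE T hS K hK h1 h2 h3
  exact Cfsg.Agent.H308.CA.claim1 hF hp hp2 n Γ ι E h T hS K hK h1 h2 h3

/-- **FRAME-O** -/
theorem frameO (hF : Fpf.{u}) : FrameO.{u} := frameO_of (claim1' hF)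

end Cfsg.Agent.H55.CO
end

private theorem dce_209cc1d472a3 : _root_.True := by
  try have : _root_.True := by simp only [_root_.Cfsg.Agent.H55.CO.rf0.eq_1]
  exact _root_.True.intro
end

-- part: H310/Car/E6Even
section
set_option linter.all false

/-!
# S3852: the rows `E₆(q)`, `²E₆(q)`, `q` even, from `OCSt` (helper310)
-/

set_option autoImplicit false
set_option linter.unusedSectionVars false

namespace Cfsg.Agent.H310.E6

open Subgroup Cfsg.Lie Cfsg.Agent.Solvable.Carter Cfsg.Agent.H18.Carter Cfsg.Agent.H381.Car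
open Cfsg.Agent.H607.Car (OCSt)

universe u

variable {G : Type u} [Group G] [Finite G] {S : Subgroup G} [S.Normal]

/-- `E₆(q)`, `q` even -/
theorem row_e6_even (hFp : Fpf.{u}) (hFT : Cfsg.Agent.H460.Car.FT.{u}) (hE : Cfsg.Agent.H460.Car.ExcOk.{u})
    (c : Ctx G S) (IH : IHr G) {F : Type} [Field F] [Fintype F] [CharP F 2] (hX : OCSt ↥(chevE6.group F))
    (e : S ≃* chevE6.group F) : NrAll S :=
  nrAll_of_ocSt hFp hFT hE c IH hX
    (Cfsg.Agent.KFacts.RgdFiltChev.hasFilt_of_exceptional (p := 2)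
      ⟨F, inferInstance, inferInstance, inferInstance, Or.inr (Or.inr (Or.inl ⟨e⟩))⟩) e

/-- `²E₆(q)`, `q` even -/
theorem row_twe6_even (hFp : Fpf.{u}) (hFT : Cfsg.Agent.H460.Car.FT.{u}) (hE : Cfsg.Agent.H460.Car.ExcOk.{u})
    (c : Ctx G S) (IH : IHr G) {K : Type} [Field K] [Fintype K] [CharP K 2] {q : ℕ} (hq : IsPrimePow q)
    (hK : Fintype.card K = q ^ 2) (hX : OCSt ↥(twistedE6 K q)) (e : S ≃* twistedE6 K q) : NrAll S :=
  nrAll_of_ocSt hFp hFT hE c IH hX
    (Cfsg.Agent.KFacts.RgdFiltTwAll.hasFilt_of_twisted (p := 2)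
      ⟨K, inferInstance, inferInstance, inferInstance, q, hq, Or.inl ⟨hK, ⟨e⟩⟩⟩) e

end Cfsg.Agent.H310.E6
end

-- part: H18/Carter/Asm
section
prune_inst 0x450102544152202000000809211200200740005b00000040084c10842000020400d800040040011034228800900050028130000c0424000000e20000000050000800052009208000c060019801080000000000000000000000000000000000004000000000
set_option linter.all false
open scoped Cfsg.Agent.FastGrp

-- part: H308/CA/Main6
section
/-!
# Characteristic two: a Carter subgroup normalises a nontrivial `2`-subgroup of the special unitary group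
-/

set_option autoImplicit false
set_option linter.unusedSectionVars false
set_option linter.unusedVariables false

namespace Cfsg.Agent.H308.CA

open Subgroup Pointwise Matrix
open Cfsg.Agent.Solvable.Carter Cfsg.Agent.H18.Carter Cfsg.Agent.H381.Car

universe u

section
variable {ι : Type} [Fintype ι] [DecidableEq ι] {E : Type} [CommRing E] [StarRing E]

/-- a transvection -/
theorem exists_two (h : Gd E) [CharP E 2] (hι : 2 ≤ Fintype.card ι) : ∃ u : SU ι E, u ^ 2 = 1 ∧ u ≠ 1 := by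
  have : Nontrivial E := h.nontrivial
  obtain ⟨i, j, hij⟩ := Fintype.exists_pair_of_one_lt_card (by omega : 1 < Fintype.card ι)
  have h2 : (2 : E) = 0 := by exact_mod_cast CharP.cast_eq_zero E 2
  set v : ι → E := fun x => if x = i ∨ x = j then 1 else 0 with hv
  have hvs : ∀ x, star (v x) = v x := by
    intro x
    rw [hv]
    by_cases hx : x = i ∨ x = j
    · simp only [if_pos hx, star_one]
    · simp only [if_neg hx, star_zero]
  have hvv : v ⬝ᵥ v = 0 := by
    have h1 : ∀ x, v x * v x = if x = i ∨ x = j then 1 else 0 := by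
      intro x
      rw [hv]
      by_cases hx : x = i ∨ x = j
      · simp only [if_pos hx, one_mul]
      · simp only [if_neg hx, zero_mul]
    rw [dotProduct, Finset.sum_congr rfl fun x _ => h1 x, Finset.sum_ite, Finset.sum_const_zero, add_zero,
      Finset.sum_const]
    have : (Finset.univ.filter fun x => x = i ∨ x = j) = {i, j} := by
      ext x
      simp
    rw [this, Finset.card_pair hij, nsmul_eq_mul, Nat.cast_ofNat, h2, zero_mul]
  set N : Matrix ι ι E := vecMulVec v v with hN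
  have hNs : star N = N := by
    ext x y
    rw [Matrix.star_apply, hN, vecMulVec_apply, vecMulVec_apply, star_mul, hvs, hvs]
  have hNN : N * N = 0 := by
    rw [hN, vecMulVec_mul_vecMulVec, hvv, zero_smul, vecMulVec_zero]
  have hadd : N + N = 0 := by
    rw [← two_smul E N, h2, zero_smul]
  have h11 : (1 + N) * (1 + N) = 1 := by
    rw [add_mul, mul_add, mul_add, hNN, one_mul, one_mul, mul_one, add_zero, add_assoc, hadd, add_zero]
  refine ⟨mkSU (1 + N) ?_ ?_, ?_, ?_⟩
  · rw [star_add, star_one, hNs, h11]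
  · rw [hN, vecMulVec_eq Unit, det_one_add_replicateCol_mul_replicateRow, hvv, add_zero]
  · apply mt_injective
    rw [map_pow, mt_mkSU, sq, h11, map_one]
  · intro hc
    have h3 := congrArg (mt : SU ι E → Matrix ι ι E) hc
    rw [mt_mkSU, map_one, add_eq_left] at h3
    have h4 := congrFun (congrFun h3 i) i
    rw [hN, vecMulVec_apply, hv] at h4
    simp only [true_or, if_true, mul_one, Matrix.zero_apply] at h4
    exact one_ne_zero h4

theorem range_two {Γ : Type u} [Group Γ] [Finite Γ] (T : TA Γ ι E) (h : Gd E) [CharP E 2]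
    (hι : 2 ≤ Fintype.card ι) : 2 ∣ Nat.card T.j.range := by
  obtain ⟨u, hu, hu1⟩ := exists_two (ι := ι) h hι
  have hι' : Nonempty ι := Fintype.card_pos_iff.1 (by omega)
  have h1 : T.j u ≠ 1 := by
    intro hc
    obtain ⟨c, hc1, hcu⟩ := T.j_mem_Z.1 (by rw [hc]; exact one_mem _ : T.j u ∈ T.Z)
    apply hu1
    apply mt_injective
    rw [map_one, hcu]
    have h2 := congrArg (mt : SU ι E → Matrix ι ι E) hu
    rw [map_pow, map_one, hcu, smul_pow, one_pow] at h2
    obtain ⟨i⟩ := hι'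
    have h3 := congrFun (congrFun h2 i) i
    rw [Matrix.smul_apply, Matrix.one_apply_eq, smul_eq_mul, mul_one] at h3
    rw [Cfsg.Agent.H689.CA.eq_one_of_pow h Nat.prime_two h3, one_smul]
  have h3 : orderOf (⟨T.j u, ⟨u, rfl⟩⟩ : T.j.range) = 2 := by
    refine orderOf_eq_prime ?_ ?_
    · exact Subtype.ext (by
        change (T.j u) ^ 2 = 1
        rw [← map_pow, hu, map_one])
    · intro hc
      exact h1 (congrArg Subtype.val hc)
  rw [← h3]
  exact orderOf_dvd_natCard _

end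
/-- `K` normalises a nontrivial `2`-subgroup -/
def Ev {Γ : Type u} [Group Γ] {ι : Type} [Fintype ι] [DecidableEq ι] {E : Type} [CommRing E] [StarRing E]
    (T : TA Γ ι E) (K : Subgroup Γ) : Prop :=
  ∃ P : Subgroup Γ, P ≤ T.j.range ∧ P ≠ ⊥ ∧ IsPGroup 2 P ∧ K ≤ normalizer (P : Set Γ)

theorem Ev.of_red {Γ : Type u} [Group Γ] {ι : Type} [Fintype ι] [DecidableEq ι] {E : Type} [CommRing E] [StarRing E]
    {T : TA Γ ι E} {K : Subgroup Γ} {ι' : Type} [Fintype ι'] [DecidableEq ι'] {E' : Type} [CommRing E'] [StarRing E']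
    (R : RedS T K ι' E') (h : Ev R.T' (K.subgroupOf R.M)) : Ev T K := by
  obtain ⟨P, h1, h2, h3, h4⟩ := h
  refine ⟨P.map R.M.subtype, (map_mono h1).trans R.range_le, ?_, h3.map _, R.map_inv h4⟩
  intro hb
  rw [map_eq_bot_iff_of_injective _ (subtype_injective _)] at hb
  exact h2 hb

theorem even_aux (hF : Fpf.{u}) (n : ℕ) :
    ∀ (Γ : Type u) [Group Γ] [Finite Γ] (ι : Type) [Fintype ι] [DecidableEq ι] (E : Type) [CommRing E] [StarRing E]
      (h : Gd E) [CharP E 2] (T : TA Γ ι E) (hS : Sml Γ) (K : Subgroup Γ) (hK : IsCarter K),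
      Fintype.card ι = n → 2 ≤ n → Ev T K := by
  induction n using Nat.strong_induction_on with
  | _ n IH =>
  intro Γ _ _ ι _ _ E _ _ h _ T hS K hK hn hn2
  have hD := Cfsg.Agent.H35.CA.det_st h
  have : Fact (Nat.Prime 2) := ⟨Nat.prime_two⟩
  have hfam := fam_st h
  by_cases hA : ∃ r : ℕ, r.Prime ∧ r ≠ 2 ∧ Hex T K r
  · obtain ⟨r, hr, hr2, hex⟩ := hA
    rcases step h hD (Cfsg.Agent.H908.CarterPC.pc_st h) (Cfsg.Agent.H957.CarLab.lab_st h hfam) (ex_st h) hS hK
      hr hr2 (isUnit_of_ne h Nat.prime_two hr hr2) hex with ⟨e, he, he0, he1, heK⟩ | ⟨m, E', i, s, hG, hc, hrm, hch, R, hR⟩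
    · have he' := Cfsg.Agent.H55.CA.isP_one_sub he
      have heK' : ∀ k ∈ K, T.ρ k (1 - e) = 1 - e := fun k hk => by rw [map_sub, map_one, heK k hk]
      have hee : e * (1 - e) = 0 := by rw [mul_sub, mul_one, he.idem, sub_self]
      have hne : rk e ≠ rk (1 - e) := by
        intro hr
        have h1 := T.rk_ne hD hfam hS hK he he' hee heK heK' hr
        apply he0
        rw [← he.idem]
        nth_rw 2 [h1]
        exact hee
      have h1 := Cfsg.Agent.H55.CA.rk_sub h he
      have h2 : rk e ≠ 0 := fun h0 => he0 ((Cfsg.Agent.H55.CA.rk_eq_zero h he).1 h0)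
      have h3 : rk (1 - e) ≠ 0 := fun h0 => he1 (by
        rw [Cfsg.Agent.H55.CA.rk_eq_zero h he', sub_eq_zero] at h0
        exact h0.symm)
      have h4 : ∃ f : Matrix ι ι E, IsP f ∧ f ≠ 1 ∧ (∀ k ∈ K, T.ρ k f = f) ∧ 2 ≤ rk f := by
        by_cases h5 : 2 ≤ rk e
        · exact ⟨e, he, he1, heK, h5⟩
        · exact ⟨1 - e, he', one_sub_ne he0, heK', by omega⟩
      obtain ⟨f, hf, hf1, hfK, hf2⟩ := h4
      obtain ⟨ι', i1, i2, R, hR, hcR, -⟩ := corner h T hf hfK
      have hlt : Fintype.card ι' < n := by rw [hcR, ← hn]; exact rk_lt h hf hf1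
      exact Ev.of_red R (IH _ hlt R.M ι' E h R.T' (hS.subgroup R.M) (K.subgroupOf R.M) (R.carter hK) rfl
        (by rw [hcR]; exact hf2))
    · let _ := i
      let _ := s
      have : CharP E' 2 := hch 2 inferInstance
      have hm0 : m ≠ 0 := by
        rintro rfl
        rw [mul_zero] at hc
        omega
      have hmn : m < n := by
        rw [← hn, hc]
        have := hr.one_lt
        nlinarith [Nat.pos_of_ne_zero hm0]
      have hm2 : 2 ≤ m := by
        have h1 := Nat.le_of_dvd (Nat.pos_of_ne_zero hm0) hrm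
        exact hr.two_le.trans h1
      exact Ev.of_red R (IH m hmn R.M (Fin m) E' hG R.T' (hS.subgroup R.M) (K.subgroupOf R.M) (R.carter hK)
        (Fintype.card_fin m) hm2)
  · push Not at hA
    obtain ⟨P, hPr, hPp, hPi, hPK⟩ := T.lemma_x_ta hD hF hS hK (l := 2) fun r hr hr2 => hA r hr hr2
    refine ⟨P, hPr, ?_, hPp, hPK⟩
    rintro rfl
    rw [relIndex_bot_left] at hPi
    exact hPi (range_two T h (by omega))

theorem even_ta (hF : Fpf.{u}) {Γ : Type u} [Group Γ] [Finite Γ] {ι : Type} [Fintype ι] [DecidableEq ι] {E : Type}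
    [CommRing E] [StarRing E] (h : Gd E) [CharP E 2] (T : TA Γ ι E) (hS : Sml Γ) {K : Subgroup Γ} (hK : IsCarter K)
    (hn : 2 ≤ Fintype.card ι) : Ev T K :=
  even_aux hF _ Γ ι E h T hS K hK rfl hn

end Cfsg.Agent.H308.CA
end

-- part: H308/CA/Rows2
section
/-!
# `PSL_n`, `PSU_n`, `n ≥ 3`, characteristic two: `K` normalises a nontrivial `2`-subgroup
-/

set_option autoImplicit false
set_option linter.unusedSectionVars false
set_option linter.unusedVariables false

namespace Cfsg.Agent.H308.CA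

open Subgroup Pointwise Matrix
open Cfsg.Agent.Solvable.Carter Cfsg.Agent.H18.Carter Cfsg.Agent.H381.Car

universe u

section

variable {G : Type u} [Group G] [Finite G] {S : Subgroup G} [S.Normal] (hc : centralizer (S : Set G) = ⊥)
  (hS : Sml G) {K : Subgroup G} (hK : IsCarter K)

section psl

variable {n : ℕ} (hn : 3 ≤ n) (F : Type) [Field F] [Finite F] (e : S ≃* Matrix.ProjectiveSpecialLinearGroup (Fin n) F)
include hc hS hK hn e

theorem psl_even (hF : Fpf.{u}) (h2 : (2 : F) = 0) :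
    ∃ P : Subgroup G, P ≤ S ∧ P ≠ ⊥ ∧ IsPGroup 2 P ∧ K ≤ normalizer (P : Set G) := by
  obtain ⟨T, hT, -⟩ := Cfsg.Agent.H683.CA.bridge_lin S hc F n hn e
  have hpF : CharP F 2 := CharTwo.of_one_ne_zero_of_two_eq_zero one_ne_zero h2
  have : CharP (Ex F) 2 := Cfsg.Agent.H206.CA.charP_ex.2 hpF
  have h1 := even_ta hF (Good.lin F inferInstance inferInstance) T hS hK (by rw [Fintype.card_fin]; omega)
  rw [Ev, hT] at h1
  exact h1

end psl

section psu

variable {n : ℕ} (hn : 3 ≤ n) (F : Type) [Field F] [Fintype F] {q : ℕ} (hq : Fintype.card F = q ^ 2)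
  (e : S ≃* Cfsg.PSU n F q)
include hc hS hK hn e hq

theorem psu_even (hF : Fpf.{u}) (h2 : (2 : F) = 0) (hq2 : ¬ (n = 3 ∧ q = 2)) :
    ∃ P : Subgroup G, P ≤ S ∧ P ≠ ⊥ ∧ IsPGroup 2 P ∧ K ≤ normalizer (P : Set G) := by
  have hpF : CharP F 2 := CharTwo.of_one_ne_zero_of_two_eq_zero one_ne_zero h2
  obtain ⟨s, hs, T, hT, -⟩ := Cfsg.Agent.H466.CA.BridgeUni.bridge_uni S hc F n q hq hn hq2 e
  have h1 := even_ta hF (Good.uni F inferInstance s inferInstance hs) T hS hK (by rw [Fintype.card_fin]; omega)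
  rw [Ev, hT] at h1
  exact h1

end psu

end

end Cfsg.Agent.H308.CA
end

-- part: H308/CA/Rows3
section
/-!
# The rows `PSL_n`, `PSU_n`, `n ≥ 3`, as `NrAll`
-/

set_option autoImplicit false
set_option linter.unusedSectionVars false
set_option linter.unusedVariables false

namespace Cfsg.Agent.H308.CA

open Subgroup Pointwise
open Cfsg.Agent.Solvable.Carter Cfsg.Agent.H18.Carter Cfsg.Agent.H381.Car
open Cfsg.Agent.H460.Car (FT ExcOk)

universe u

variable {G : Type u} [Group G] [Finite G] {S : Subgroup G} [S.Normal]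

/-- `PSL_n(F)`, `n ≥ 3`, odd characteristic -/
theorem nrAll_psl_odd (hFp : Fpf.{u}) (c : Ctx G S) {n : ℕ} (hn : 3 ≤ n) {F : Type} [Field F] [Finite F]
    (h2 : (2 : F) ≠ 0) (e : S ≃* Matrix.ProjectiveSpecialLinearGroup (Fin n) F) : NrAll S :=
  fun K hK => psl_nTwo c.cen c.min hK hn F e hFp h2

/-- `PSU_n(q)`, `n ≥ 3`, `q` odd -/
theorem nrAll_psu_odd (hFp : Fpf.{u}) (c : Ctx G S) {n : ℕ} (hn : 3 ≤ n) {F : Type} [Field F] [Fintype F] {q : ℕ}
    (hq : Fintype.card F = q ^ 2) (h2 : (2 : F) ≠ 0) (e : S ≃* Cfsg.PSU n F q) : NrAll S :=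
  fun K hK => psu_nTwo c.cen c.min hK hn F hq e hFp h2

/-- `PSL_n(F)`, `n ≥ 3`, characteristic two -/
theorem nrAll_psl_even (hFp : Fpf.{u}) (hFT : FT.{u}) (hE : ExcOk.{u}) (c : Ctx G S) (IH : IHr G) {n : ℕ} (hn : 3 ≤ n)
    {F : Type} [Field F] [Fintype F] (h2 : (2 : F) = 0)
    (e : S ≃* Matrix.ProjectiveSpecialLinearGroup (Fin n) F) : NrAll S := by
  have hpF : CharP F 2 := CharTwo.of_one_ne_zero_of_two_eq_zero one_ne_zero h2
  refine Cfsg.Agent.H460.Car.nrAll_of_inv hFT hE c IH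
    (Cfsg.Agent.KFacts.RgdFiltClass.hasFilt_of_PSL ⟨F, inferInstance, inferInstance, hpF, n, by omega, by omega, ⟨e⟩⟩) ?_
  intro K hK
  exact psl_even c.cen c.min hK hn F e hFp h2

/-- `PSU_n(q)`, `n ≥ 3`, `q` even, not `PSU_3(2)` -/
theorem nrAll_psu_even (hFp : Fpf.{u}) (hFT : FT.{u}) (hE : ExcOk.{u}) (c : Ctx G S) (IH : IHr G) {n : ℕ} (hn : 3 ≤ n)
    {F : Type} [Field F] [Fintype F] {q : ℕ} (hq : Fintype.card F = q ^ 2) (h2 : (2 : F) = 0)
    (hnq : ¬ (n = 3 ∧ q = 2)) (e : S ≃* Cfsg.PSU n F q) : NrAll S := by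
  have hpF : CharP F 2 := CharTwo.of_one_ne_zero_of_two_eq_zero one_ne_zero h2
  refine Cfsg.Agent.H460.Car.nrAll_of_inv hFT hE c IH
    (Cfsg.Agent.KFacts.RgdFiltClass.hasFilt_of_PSU ⟨F, inferInstance, inferInstance, hpF, n, q, hq, hn, hnq, ⟨e⟩⟩) ?_
  intro K hK
  exact psu_even c.cen c.min hK hn F hq e hFp h2 hnq

/-- all `PSL_n(F)`, `n ≥ 3` -/
theorem nrAll_psl (hFp : Fpf.{u}) (hFT : FT.{u}) (hE : ExcOk.{u}) (c : Ctx G S) (IH : IHr G) {n : ℕ} (hn : 3 ≤ n)
    {F : Type} [Field F] [Fintype F] (e : S ≃* Matrix.ProjectiveSpecialLinearGroup (Fin n) F) : NrAll S := by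
  by_cases h2 : (2 : F) = 0
  · exact nrAll_psl_even hFp hFT hE c IH hn h2 e
  · exact nrAll_psl_odd hFp c hn h2 e

/-- all `PSU_n(q)`, `n ≥ 3`, not `PSU_3(2)` -/
theorem nrAll_psu (hFp : Fpf.{u}) (hFT : FT.{u}) (hE : ExcOk.{u}) (c : Ctx G S) (IH : IHr G) {n : ℕ} (hn : 3 ≤ n)
    {F : Type} [Field F] [Fintype F] {q : ℕ} (hq : Fintype.card F = q ^ 2) (hnq : ¬ (n = 3 ∧ q = 2))
    (e : S ≃* Cfsg.PSU n F q) : NrAll S := by
  by_cases h2 : (2 : F) = 0
  · exact nrAll_psu_even hFp hFT hE c IH hn hq h2 hnq e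
  · exact nrAll_psu_odd hFp c hn hq h2 e

end Cfsg.Agent.H308.CA
end

-- part: H310/Car/RowDEven
section
/-!
# S3852, the rows `PΩ^ε_{2m}(q)`, `q` even, `m ≥ 5` (helper310)
-/

set_option autoImplicit false
set_option linter.unusedSectionVars false

namespace Cfsg.Agent.H310.OC

open Subgroup Cfsg.Agent.Solvable.Carter Cfsg.Agent.H18.Carter Cfsg.Agent.H381.Car

universe u

variable {G : Type u} [Group G] [Finite G] {S : Subgroup G} [S.Normal]

theorem charP_two {F : Type} [Field F] (h2 : (2 : F) = 0) : CharP F 2 := by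
  have h := CharP.ringChar_of_prime_eq_zero Nat.prime_two (show ((2 : ℕ) : F) = 0 by exact_mod_cast h2)
  rw [← h]
  exact ringChar.charP F

/-- plus type -/
theorem row_plus_even (hFp : Fpf.{u}) (hFT : Cfsg.Agent.H460.Car.FT.{u}) (hE : Cfsg.Agent.H460.Car.ExcOk.{u})
    (c : Ctx G S) (IH : IHr G) {F : Type} [Field F] [Fintype F] (h2 : (2 : F) = 0) {m : ℕ} (hm : 5 ≤ m)
    (e : S ≃* Cfsg.POmega F (Cfsg.quadFormPlus m F)) : NrAll S := by
  haveI := charP_two h2
  refine Cfsg.Agent.H460.Car.nrAll_even hFp hFT hE c IH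
    (Cfsg.Agent.KFacts.RgdFiltClass.hasFilt_of_POmegaPlus ⟨F, inferInstance, inferInstance, inferInstance, m, by omega,
      ⟨e⟩⟩) ?_
  intro K hK r hr hr2 z hzS _ ho hzK
  exact Or.inl (two_dvd_plus hFp c h2 hm e hK hzS hzK hr hr2 ho)

/-- minus type -/
theorem row_minus_even (hFp : Fpf.{u}) (hFT : Cfsg.Agent.H460.Car.FT.{u}) (hE : Cfsg.Agent.H460.Car.ExcOk.{u})
    (c : Ctx G S) (IH : IHr G) {F : Type} [Field F] [Fintype F] (h2 : (2 : F) = 0) {m : ℕ} (hm : 5 ≤ m) {a b : F}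
    (hab : ∀ z₁ z₂ : F, z₁ ^ 2 + a * z₁ * z₂ + b * z₂ ^ 2 = 0 → z₁ = 0 ∧ z₂ = 0)
    (e : S ≃* Cfsg.POmega F (Cfsg.quadFormMinus (m - 1) F a b)) : NrAll S := by
  haveI := charP_two h2
  refine Cfsg.Agent.H460.Car.nrAll_even hFp hFT hE c IH
    (Cfsg.Agent.KFacts.RgdFiltClass.hasFilt_of_POmegaMinus ⟨F, inferInstance, inferInstance, inferInstance, m, a, b,
      by omega, hab, ⟨e⟩⟩) ?_
  intro K hK r hr hr2 z hzS _ ho hzK
  exact Or.inl (two_dvd_minus hFp c h2 hm hab e hK hzS hzK hr hr2 ho)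

end Cfsg.Agent.H310.OC
end

-- part: H381/Car/RowRee
section
/-!
# Carter subgroups: the row `²G₂(q)` (S3852, helper381)
-/

set_option autoImplicit false
set_option linter.unusedSectionVars false

namespace Cfsg.Agent.H381.Car

open Subgroup
open Cfsg.Agent.Solvable.Carter Cfsg.Agent.H18.Carter

universe u

section Data

open Cfsg.Agent.LieRecognition Cfsg.Agent.LieRecognition.ReeAbs Cfsg.Agent.LieRecognition.ReeSylowThree
  Cfsg.Agent.FixBN.ReeSplit

variable {K : Type*} [Field K] [Fintype K] {m : ℕ} {G : Type*} [Group G] {U : K → K → K → G} {h : Kˣ → G} {n : G}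

theorem sylInv_ree (hK : Fintype.card K = 3 ^ (2 * m + 1)) (D : Data m U h n) : SylInv 3 G := by
  have : Finite G := finite D
  have : Fact (Nat.Prime 3) := ⟨Nat.prime_three⟩
  have hpg : IsPGroup 3 (uSub D) := by
    apply IsPGroup.of_card (n := (2 * m + 1) * 3)
    rw [card_uSub, hK, pow_mul]
  have hcard := card_eq D
  have hidx : (uSub D).index = (Fintype.card K - 1) * ((Fintype.card K) ^ 3 + 1) := by
    have h1 := (uSub D).card_mul_index
    rw [card_uSub, hcard, mul_assoc] at h1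
    exact Nat.eq_of_mul_eq_mul_left (pow_pos (Fintype.card_pos) 3) h1
  have hq : 3 ∣ Fintype.card K := by rw [hK]; exact dvd_pow_self 3 (by omega)
  have hn3 : ¬ 3 ∣ (uSub D).index := by
    rw [hidx, Nat.prime_three.dvd_mul]
    have h0 := Fintype.card_pos (α := K)
    obtain ⟨c, hc⟩ := hq
    rintro (h1 | h1)
    · obtain ⟨d, hd⟩ := h1
      omega
    · have h2 : 3 ∣ Fintype.card K ^ 3 := dvd_pow ⟨c, hc⟩ (by decide)
      rw [Nat.dvd_add_right h2] at h1
      omega
  have hz1 : h (-1) ≠ 1 := D.inv_ne_one hK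
  have hz2 : orderOf (h (-1)) = 2 := orderOf_eq_prime (by rw [sq, D.inv_sq]) hz1
  have hU2 : ∀ u ∈ uSub D, orderOf u ≠ 2 := by
    intro u hu h2
    obtain ⟨k, hk⟩ := (IsPGroup.iff_orderOf.1 hpg) ⟨u, hu⟩
    rw [orderOf_mk, h2] at hk
    have h3 : (2 : ℕ) ∣ 3 ^ k := ⟨1, by rw [← hk]⟩
    have h4 := (Nat.prime_dvd_prime_iff_eq Nat.prime_two Nat.prime_three).1 (Nat.prime_two.dvd_of_dvd_pow h3)
    omega
  refine ⟨uSub D, hpg, hn3, h (-1), hz2, fun α hα => ?_⟩
  -- `α z` normalises `U`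
  set w := α (h (-1)) with hw
  have hw2 : orderOf w = 2 := by rw [hw, MulEquiv.orderOf_eq, hz2]
  have hwU : ∀ x ∈ uSub D, w * x * w⁻¹ ∈ uSub D := by
    intro x hx
    obtain ⟨y, rfl⟩ := α.surjective x
    rw [hw, ← map_inv, ← map_mul, ← map_mul, hα]
    exact h_conj_mem D (-1) ((hα y).1 hx)
  -- `w = u h(a)`
  obtain ⟨t, u, v, a, hwa⟩ : ∃ t u v a, w = U t u v * h a := by
    rcases D.bruhat w with h1 | ⟨t, u, v, a, t', u', v', h1⟩
    · exact h1
    · exfalso
      have hne : U 1 0 0 ≠ 1 := by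
        intro h2
        rw [← D.U_zero] at h2
        exact one_ne_zero (U_injective D h2).1
      -- `y = U' x U'⁻¹ ≠ 1` with `w y` ...
      set u' := U t' u' v' with hu'
      have hu'm : u' ∈ uSub D := ⟨_, _, _, rfl⟩
      have hx : u'⁻¹ * U 1 0 0 * u' ∈ uSub D := mul_mem (mul_mem (inv_mem hu'm) ⟨_, _, _, rfl⟩) hu'm
      have h2 := hwU _ hx
      have h3 : U t u v * (h a * (n * U 1 0 0 * n⁻¹) * (h a)⁻¹) * (U t u v)⁻¹ ∈ uSub D := by
        have e : w * (u'⁻¹ * U 1 0 0 * u') * w⁻¹ =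
            U t u v * (h a * (n * U 1 0 0 * n⁻¹) * (h a)⁻¹) * (U t u v)⁻¹ := by
          rw [h1]; group
        rwa [e] at h2
      have h4 : h a * (n * U 1 0 0 * n⁻¹) * (h a)⁻¹ ∈ uSub D := by
        have h5 := mul_mem (mul_mem (inv_mem (⟨t, u, v, rfl⟩ : U t u v ∈ uSub D)) h3) (⟨t, u, v, rfl⟩ : U t u v ∈ uSub D)
        have e : (U t u v)⁻¹ * (U t u v * (h a * (n * U 1 0 0 * n⁻¹) * (h a)⁻¹) * (U t u v)⁻¹) * U t u v =
            h a * (n * U 1 0 0 * n⁻¹) * (h a)⁻¹ := by group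
        rwa [e] at h5
      have h5 : n * U 1 0 0 * n⁻¹ ∈ uSub D := by
        have h6 := h_conj_mem D a⁻¹ h4
        rw [D.h_inv] at h6
        have e : (h a)⁻¹ * (h a * (n * U 1 0 0 * n⁻¹) * (h a)⁻¹) * (h a)⁻¹⁻¹ = n * U 1 0 0 * n⁻¹ := by group
        rwa [e] at h6
      rw [D.n_inv] at h5
      exact hne (eq_one_of_conj D ⟨_, _, _, rfl⟩ (uSub_le_bSub D h5))
  have hu : U t u v ∈ uSub D := ⟨_, _, _, rfl⟩
  have ha : a * a = 1 := by
    have h1 : w * w = 1 := by rw [← sq, ← hw2, pow_orderOf_eq_one]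
    have h2 : U t u v * (h a * U t u v * (h a)⁻¹) = h (a * a)⁻¹ := by
      rw [D.h_inv, D.h_mul, eq_inv_iff_mul_eq_one]
      rw [hwa] at h1
      rw [← h1]; group
    exact inv_eq_one.1 (h_inj D ((u_inf_h D (mul_mem hu (h_conj_mem D a hu)) h2 ▸ h2).symm.trans D.h_one.symm))
  have ha1 : a ≠ 1 := by
    rintro rfl
    rw [D.h_one, mul_one] at hwa
    exact hU2 _ (hwa ▸ hu) hw2
  have ha2 : a = -1 := by
    have h1 : (a : K) * a = 1 := by
      have := congrArg Units.val ha
      rwa [Units.val_mul, Units.val_one] at this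
    rcases mul_self_eq_one_iff.1 h1 with h2 | h2
    · exact absurd (Units.ext h2) ha1
    · exact Units.ext (by rw [h2, Units.val_neg, Units.val_one])
  have h1 : (h (-1))⁻¹ * w = (h (-1))⁻¹ * U t u v * (h (-1))⁻¹⁻¹ := by
    rw [hwa, ha2, inv_inv, mul_assoc]
  rw [h1, ← D.h_inv]
  exact h_conj_mem D _ hu

end Data

section Row

open Cfsg Cfsg.Lie Cfsg.Agent.LieRecognition

variable {G : Type u} [Group G] [Finite G] {S : Subgroup G} [S.Normal]

/-- **`²G₂(q)`.** -/
theorem row_ree (hF : Fpf.{u}) (c : Ctx G S) {K : Type} [Field K] [Fintype K] {m : ℕ} (hm : 1 ≤ m)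
    (hK : Fintype.card K = 3 ^ (2 * m + 1)) (e : S ≃* ↥(twistedG2 K (3 ^ m))) : CC G := by
  have : Fact (Nat.Prime 3) := ⟨Nat.prime_three⟩
  have hcharK := ReeAbs.charP_three hK
  obtain ⟨U, h, n, D⟩ := Cfsg.Agent.ChevalleyStructure.Ree.Data.exists_data hK
  have hfin : Finite ↥(twistedG2 K (3 ^ m)) := ReeSylowThree.finite D
  obtain ⟨a, haH, ha1, ha2⟩ := Cfsg.Agent.S1157.exists_involution hK
  obtain ⟨⟨ε⟩, hS⟩ := Cfsg.Agent.S1152.result hK a haH ha1 ha2
  have hcd := ReeCent.centData ha1 ha2 ε ReePSL.klein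
  have hconj : ∀ v : ↥(twistedG2 K (3 ^ m)), orderOf v = 2 → IsConj a v := by
    intro v hv
    have hv2 : v * v = 1 := by rw [← pow_two, ← hv]; exact pow_orderOf_eq_one v
    have hv1 : v ≠ 1 := by
      rintro rfl
      rw [orderOf_one] at hv
      omega
    exact isConj_iff.2 (ReeInv.isConj_involution hcd ReePSL.klein (Cfsg.Agent.S1116.result hK hm) hS hv1 hv2)
  refine cc_of_one_class' c e (fun s t hs ht => (hconj s hs).symm.trans (hconj t ht)) fun C hC => ?_
  refine even_of_sylInv hF c e (r := 3) (by norm_num) (sylInv_ree hK D) hC fun l hl hld => ?_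
  by_contra hne
  push Not at hne
  have : Fact l.Prime := ⟨hl⟩
  have hl3 : 3 < l := by
    have := hl.two_le
    omega
  exact not_dvd_of_cyclic c e (fun Q => Cfsg.Agent.S1156.result hm hK hl3 Q) hC hld

end Row

end Cfsg.Agent.H381.Car
end

-- part: H18/Carter/Asm
section
/-!
# S3852: the assembly over the list of the known simple groups

`Inp` : the inputs with heavy closures; `s3852_inp` : the statement S3852 from them.
-/

set_option autoImplicit false
set_option linter.unusedSectionVars false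
set_option linter.unusedVariables false
set_option linter.style.haveILetI false

namespace Cfsg.Agent.H18.Carter

open Subgroup Cfsg Cfsg.Lie
open Cfsg.Agent.Solvable.Carter Cfsg.Agent.H381.Car
open Cfsg.Agent.H460.Car (FT ExcOk)

universe u

/-- the inputs with heavy closures -/
structure Inp : Prop where
  known : ∀ (T : Type u) [Group T] [Finite T], IsSimpleGroup T → IsKnownSimple' T
  fpf : Fpf.{u}
  ft : FT.{u}
  exc : ExcOk.{u}
  omega : ∀ (G : Type u) [Group G] [Finite G] (S : Subgroup G) [S.Normal], Ctx G S → ∀ r : ℕ, r.Prime → r ≠ 2 →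
    (IsPOmegaOddChar r ↥S ∨ IsPOmegaPlusChar r ↥S ∨ IsPOmegaMinusChar r ↥S) → NrAll S
  spor : ∀ (G : Type u) [Group G] [Finite G] (S : Subgroup G) [S.Normal], Ctx G S → IsSporadicGroup ↥S →
    ∀ K : Subgroup G, IsCarter K → IsPGroup 2 ↥(K ⊓ S)
  tits : ∀ (G : Type u) [Group G] [Finite G] (S : Subgroup G) [S.Normal], Ctx G S → Lie.IsoTits ↥S →
    ∀ K : Subgroup G, IsCarter K → IsPGroup 2 ↥(K ⊓ S)
  e6 : ∀ (G : Type u) [Group G] [Finite G] (S : Subgroup G) [S.Normal], Ctx G S → IHr G →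
    ∀ (F : Type) [Field F] [Fintype F], Nonempty (↥S ≃* ↥(chevE6.group F)) → Row G S
  te6 : ∀ (G : Type u) [Group G] [Finite G] (S : Subgroup G) [S.Normal], Ctx G S → IHr G →
    ∀ (K : Type) [Field K] [Fintype K] (q : ℕ), IsPrimePow q → Fintype.card K = q ^ 2 →
    Nonempty (↥S ≃* ↥(twistedE6 K q)) → Row G S

theorem ringChar_cases (F : Type) [Field F] [Fintype F] : (2 : F) = 0 ∨ ∃ r : ℕ, r.Prime ∧ r ≠ 2 ∧ CharP F r := by
  obtain ⟨r, hr⟩ := CharP.exists F
  obtain ⟨n, hrp, h⟩ := FiniteField.card F r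
  by_cases h2 : r = 2
  · subst h2
    exact Or.inl (CharTwo.two_eq_zero)
  · exact Or.inr ⟨r, hrp, h2, hr⟩

/-- the exceptional socles -/
theorem cc_exc (I : Inp.{u}) {G : Type u} [Group G] [Finite G] {S : Subgroup G} [S.Normal] (c : Ctx G S)
    (h : Exc ↥S) : CC G := by
  rcases h with ⟨F, _, _, m, hF, ⟨e⟩⟩ | ⟨F, _, _, m, hm, hF, ⟨e⟩⟩
  · exact PslTwo.row_psl2 I.fpf c e
  · exact row_ree I.fpf c hm hF e

/-- **all rows** -/
theorem row_all (I : Inp.{u}) {G : Type u} [Group G] [Finite G] {S : Subgroup G} [S.Normal] (c : Ctx G S)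
    (IH : IHr G) (hex : ¬ Exc ↥S) : Row G S := by
  have hs := c.simple
  have h2 : 2 ∣ Nat.card S := Cfsg.Agent.H460.Car.even_of_ctx I.ft c
  have R : NrAll S → Row G S := fun h => h.row c h2
  rcases I.known ↥S c.simple with h | h | h | h | h | h | h | h | h | h
  · -- prime order
    haveI : Fact (Nat.Prime (Nat.card S)) := ⟨h⟩
    haveI : IsCyclic ↥S := isCyclic_of_prime_card rfl
    exact (c.na fun a b => (IsCyclic.commGroup (α := ↥S)).mul_comm a b).elim
  · obtain ⟨n, h5, ⟨e⟩⟩ := h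
    exact R (nr_alt I.fpf c h5 e)
  · obtain ⟨F, _, _, n, hn, hn2, ⟨e⟩⟩ := h
    rcases Nat.eq_or_lt_of_le hn with h0 | h0
    · subst h0
      exact R (nr_psl2 I.fpf c e hex)
    · exact R (Cfsg.Agent.H308.CA.nrAll_psl I.fpf I.ft I.exc c IH h0 e)
  · obtain ⟨F, _, _, m, hm, -, ⟨e⟩⟩ := h
    exact R (nr_psp I.fpf c hm e)
  · obtain ⟨F, _, _, n, q, hq, hn, hnq, ⟨e⟩⟩ := h
    exact R (Cfsg.Agent.H308.CA.nrAll_psu I.fpf I.ft I.exc c IH hn hq hnq e)
  · obtain ⟨F, _, _, m, hm, hodd, ⟨e⟩⟩ := h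
    rcases ringChar_cases F with h2F | ⟨r, hr, hr2, hrF⟩
    · exfalso
      have := (CharTwo.of_one_ne_zero_of_two_eq_zero (R := F) one_ne_zero h2F)
      obtain ⟨n, hrp, h⟩ := FiniteField.card F 2
      rw [h] at hodd
      exact (Nat.not_even_iff_odd.2 hodd) (Nat.even_pow.2 ⟨even_two, n.ne_zero⟩)
    · exact R (I.omega G S c r hr hr2 (Or.inl ⟨F, inferInstance, inferInstance, hrF, m, hm, hodd, ⟨e⟩⟩))
  · obtain ⟨F, _, _, m, hm, ⟨e⟩⟩ := h
    rcases ringChar_cases F with h2F | ⟨r, hr, hr2, hrF⟩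
    · haveI := (CharTwo.of_one_ne_zero_of_two_eq_zero (R := F) one_ne_zero h2F)
      rcases Nat.eq_or_lt_of_le hm with h0 | h0
      · subst h0
        exact R (nrAll_of_powConj I.fpf c
          ((Cfsg.Agent.H518.Carter.plus (F := F) (m := 4) (by norm_num) (by decide)).of_equiv e.symm))
      · exact R (Cfsg.Agent.H310.OC.row_plus_even I.fpf I.ft I.exc c IH h2F h0 e)
    · exact R (I.omega G S c r hr hr2 (Or.inr (Or.inl ⟨F, inferInstance, inferInstance, hrF, m, hm, ⟨e⟩⟩)))
  · obtain ⟨F, _, _, m, a, b, hm, hab, ⟨e⟩⟩ := h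
    rcases ringChar_cases F with h2F | ⟨r, hr, hr2, hrF⟩
    · haveI := (CharTwo.of_one_ne_zero_of_two_eq_zero (R := F) one_ne_zero h2F)
      rcases Nat.eq_or_lt_of_le hm with h0 | h0
      · subst h0
        exact R (nrAll_of_powConj I.fpf c
          ((Cfsg.Agent.H518.Carter.minus (F := F) (m := 4) (by norm_num) (by decide) hab).of_equiv e.symm))
      · exact R (Cfsg.Agent.H310.OC.row_minus_even I.fpf I.ft I.exc c IH h2F h0 hab e)
    · exact R (I.omega G S c r hr hr2 (Or.inr (Or.inr ⟨F, inferInstance, inferInstance, hrF, m, a, b, hm, hab, ⟨e⟩⟩)))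
  · rcases h with h | h | h | h | h | h | h | h | h | h | h
    · obtain ⟨F, _, _, -, ⟨e⟩⟩ := h
      exact R (nr_g2 I.fpf c e)
    · obtain ⟨F, _, _, ⟨e⟩⟩ := h
      exact R (nr_f4 I.fpf c e)
    · obtain ⟨F, _, _, he⟩ := h
      exact I.e6 G S c IH F he
    · obtain ⟨F, _, _, ⟨e⟩⟩ := h
      exact R (nr_e7 I.fpf c e)
    · obtain ⟨F, _, _, ⟨e⟩⟩ := h
      exact R (nr_e8 I.fpf c e)
    · obtain ⟨K, _, _, q, hq, hK, he⟩ := h
      exact I.te6 G S c IH K q hq hK he
    · obtain ⟨K, _, _, q, hq, hK, ⟨e⟩⟩ := h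
      exact R (nr_3d4 I.fpf c hq hK e)
    · exact R (nr_sz I.fpf c h)
    · exact (hex (Or.inr h)).elim
    · exact R (nr_2f4 I.fpf c h)
    · exact R (nrAll_of_two I.fpf c (I.tits G S c h))
  · exact R (nrAll_of_two I.fpf c (I.spor G S c h))

/-- **S3852 from the inputs** -/
theorem s3852_inp (I : Inp.{u}) {G : Type u} [Group G] [Finite G] (H K : Subgroup G) (hH : Cfsg.IsCarterSubgroup H)
    (hK : Cfsg.IsCarterSubgroup K) : ∃ g : G, K = H.map (MulAut.conj g).toMonoidHom :=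
  s3852_of (frame (fun G _ _ S _ c h => cc_exc I c h) (fun G _ _ S _ c IH hex => row_all I c IH hex)) H K hH hK

end Cfsg.Agent.H18.Carter
end

private theorem dce_e737b2fb9c0f : _root_.True := by
  try have : _root_.True := by simp only [_root_.Cfsg.Agent.H308.CA.Ev.eq_1]
  exact _root_.True.intro
end

-- part: H308/CA/Ext
section
set_option linter.all false
open scoped Cfsg.Agent.FastGrp

/-!
# Groups normalising an image of the special unitary group act on the star ring of matrices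
-/

set_option autoImplicit false
set_option linter.unusedSectionVars false
set_option linter.unusedVariables false

namespace Cfsg.Agent.H308.CA

open Subgroup Matrix
open scoped commutatorElement

universe u

/-- homomorphisms of perfect groups with commuting values are trivial -/
theorem perf_trivial {P : Type*} [Group P] {H : Type*} [Group H] (hP : commutator P = ⊤) (χ : P →* H)
    (hc : ∀ a b, χ a * χ b = χ b * χ a) (x : P) : χ x = 1 := by
  have h1 : commutator P ≤ χ.ker := by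
    rw [commutator_def, Subgroup.commutator_le]
    intro a _ b _
    rw [MonoidHom.mem_ker, map_commutatorElement]
    exact commutatorElement_eq_one_iff_mul_comm.2 (hc a b)
  rw [hP] at h1
  exact h1 (mem_top x)

/-- automorphisms of `SU` modulo its centre -/
structure AD {n : ℕ} {E : Type} [CommRing E] [StarRing E] {Q : Type} [Group Q] (π : SU (Fin n) E →* Q) : Prop where
  surj : Function.Surjective π
  ker : ∀ u, π u = 1 ↔ u ∈ Subgroup.center (SU (Fin n) E)
  perf : commutator (SU (Fin n) E) = ⊤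
  ex : ∃ 𝒯 : Set (RingAut (Matrix (Fin n) (Fin n) E)),
    (∀ θ ∈ 𝒯, ∀ a, θ (star a) = star (θ a)) ∧
    (∀ θ ∈ 𝒯, ∀ θ' ∈ 𝒯, θ * θ' ∈ 𝒯) ∧
    (∀ u : SU (Fin n) E, ∃ θ ∈ 𝒯, ∀ a, θ a = mt u * a * star (mt u)) ∧
    (∀ α : MulAut Q, ∃ θ ∈ 𝒯, ∀ u v : SU (Fin n) E, mt v = θ (mt u) → α (π u) = π v) ∧
    ∀ θ ∈ 𝒯, ∀ θ' ∈ 𝒯, (∀ u v v' : SU (Fin n) E, mt v = θ (mt u) → mt v' = θ' (mt u) → π v = π v') → θ = θ'

section

variable {n : ℕ} {E : Type} [CommRing E] [StarRing E] {Q : Type} [Group Q] {π : SU (Fin n) E →* Q}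

theorem AD.eq_iff (A : AD π) {u v : SU (Fin n) E} : π u = π v ↔ u⁻¹ * v ∈ Subgroup.center (SU (Fin n) E) := by
  rw [← A.ker, map_mul, map_inv, inv_mul_eq_one]

theorem exists_ta (h : Gd E) (A : AD π) {Γ : Type u} [Group Γ] (j : SU (Fin n) E →* Γ)
    (hj : j.ker ≤ Subgroup.center (SU (Fin n) E)) (hN : ∀ g u, ∃ v, g * j u * g⁻¹ = j v) :
    ∃ T : TA Γ (Fin n) E, T.j = j := by
  classical
  have hD := Cfsg.Agent.H35.CA.det_st h
  choose V hV using hN
  -- elements with equal images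
  have hπ : ∀ v v', j v = j v' → π v = π v' := by
    intro v v' hvv
    rw [A.eq_iff]
    apply hj
    rw [MonoidHom.mem_ker, map_mul, map_inv, hvv, inv_mul_cancel]
  -- elements with central images
  have hcen : ∀ v, (∀ w, j v * j w = j w * j v) → v ∈ Subgroup.center (SU (Fin n) E) := by
    intro v hv
    have hz : ∀ w, v * w * v⁻¹ * w⁻¹ ∈ Subgroup.center (SU (Fin n) E) := by
      intro w
      apply hj
      rw [MonoidHom.mem_ker, map_mul, map_mul, map_mul, map_inv, map_inv, hv w]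
      group
    let χ : SU (Fin n) E →* SU (Fin n) E := MonoidHom.mk' (fun w => v * w * v⁻¹ * w⁻¹) (by
      intro w1 w2
      have h1 := Subgroup.mem_center_iff.1 (hz w2) w1
      calc v * (w1 * w2) * v⁻¹ * (w1 * w2)⁻¹ = v * w1 * v⁻¹ * (v * w2 * v⁻¹ * w2⁻¹) * w1⁻¹ := by group
        _ = v * w1 * v⁻¹ * w1⁻¹ * (w1 * (v * w2 * v⁻¹ * w2⁻¹)) * w1⁻¹ := by group
        _ = v * w1 * v⁻¹ * w1⁻¹ * ((v * w2 * v⁻¹ * w2⁻¹) * w1) * w1⁻¹ := by rw [h1]
        _ = v * w1 * v⁻¹ * w1⁻¹ * (v * w2 * v⁻¹ * w2⁻¹) := by group)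
    have hχ := perf_trivial A.perf χ (fun a b => (Subgroup.mem_center_iff.1 (hz b) _))
    rw [Subgroup.mem_center_iff]
    intro w
    have h1 : v * w * v⁻¹ * w⁻¹ = 1 := hχ w
    calc w * v = (v * w * v⁻¹ * w⁻¹) * w * v := by rw [h1, one_mul]
      _ = v * w := by group
  -- `V`
  have hVmul : ∀ g u1 u2, π (V g (u1 * u2)) = π (V g u1) * π (V g u2) := by
    intro g u1 u2
    rw [← map_mul]
    apply hπ
    rw [← hV, map_mul, map_mul, ← hV, ← hV]
    group
  have hVcen : ∀ g u, u ∈ Subgroup.center (SU (Fin n) E) → π (V g u) = 1 := by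
    intro g u hu
    rw [A.ker]
    apply hcen
    intro w
    have h1 : j w = g * j (V g⁻¹ w) * g⁻¹ := by
      rw [← hV]; group
    have h2 : j u * j (V g⁻¹ w) = j (V g⁻¹ w) * j u := by
      rw [← map_mul, ← map_mul, Subgroup.mem_center_iff.1 hu]
    rw [← hV, h1]
    calc g * j u * g⁻¹ * (g * j (V g⁻¹ w) * g⁻¹) = g * (j u * j (V g⁻¹ w)) * g⁻¹ := by group
      _ = g * (j (V g⁻¹ w) * j u) * g⁻¹ := by rw [h2]
      _ = _ := by group
  have hK1 : ∀ g u u', π u = π u' → π (V g u) = π (V g u') := by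
    intro g u u' huu
    have h1 := hVcen g _ (A.eq_iff.1 huu)
    have h2 := hVmul g u (u⁻¹ * u')
    rw [mul_inv_cancel_left, h1, mul_one] at h2
    exact h2.symm
  have hVV : ∀ g g' u, π (V (g * g') u) = π (V g (V g' u)) := by
    intro g g' u
    apply hπ
    rw [← hV, ← hV, ← hV]
    group
  have hV1 : ∀ u, π (V 1 u) = π u := by
    intro u
    apply hπ
    rw [← hV]
    group
  choose s hs using A.surj
  let α : Γ → MulAut Q := fun g =>
    { toFun := fun x => π (V g (s x))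
      invFun := fun x => π (V g⁻¹ (s x))
      left_inv := fun x => by
        change π (V g⁻¹ (s (π (V g (s x))))) = x
        rw [hK1 g⁻¹ _ (V g (s x)) (hs _), ← hVV, inv_mul_cancel, hV1, hs]
      right_inv := fun x => by
        change π (V g (s (π (V g⁻¹ (s x))))) = x
        rw [hK1 g _ (V g⁻¹ (s x)) (hs _), ← hVV, mul_inv_cancel, hV1, hs]
      map_mul' := fun x y => by
        rw [← hVmul]
        exact hK1 g _ _ (by rw [hs, map_mul, hs, hs]) }
  have hα : ∀ g u, α g (π u) = π (V g u) := fun g u => hK1 g _ _ (hs _)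
  obtain ⟨𝒯, h1, h2, h3, h4, h5⟩ := A.ex
  choose Θ hΘ𝒯 hΘ using fun g => h4 (α g)
  have hex : ∀ θ ∈ 𝒯, ∀ u : SU (Fin n) E, ∃ v : SU (Fin n) E, mt v = θ (mt u) := by
    intro θ hθ u
    exact ⟨mkSU (θ (mt u)) (by rw [← h1 θ hθ, ← map_mul, star_mt_mul, map_one]) (hD (Fin n) θ (h1 θ hθ) u), rfl⟩
  have huniq : ∀ g, ∀ θ ∈ 𝒯, ∀ θ' ∈ 𝒯, (∀ u v : SU (Fin n) E, mt v = θ (mt u) → π (V g u) = π v) →
      (∀ u v : SU (Fin n) E, mt v = θ' (mt u) → π (V g u) = π v) → θ = θ' := by
    intro g θ hθ θ' hθ' a b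
    exact h5 θ hθ θ' hθ' fun u v v' e1 e2 => by rw [← a u v e1, b u v' e2]
  have hP : ∀ g, ∀ u v : SU (Fin n) E, mt v = Θ g (mt u) → π (V g u) = π v := by
    intro g u v huv
    rw [← hα]; exact hΘ g u v huv
  have hmul : ∀ g g', Θ (g * g') = Θ g * Θ g' := by
    intro g g'
    refine huniq (g * g') _ (hΘ𝒯 _) _ (h2 _ (hΘ𝒯 g) _ (hΘ𝒯 g')) (hP _) ?_
    intro u v huv
    obtain ⟨w, hw⟩ := hex _ (hΘ𝒯 g') u
    rw [RingAut.mul_apply, ← hw] at huv
    rw [hVV, hK1 g _ _ (hP g' u w hw)]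
    exact hP g w v huv
  refine ⟨⟨MonoidHom.mk' Θ hmul, fun g a => h1 _ (hΘ𝒯 g) a, j, ?_, ?_⟩, rfl⟩
  · intro u a
    obtain ⟨θ, hθ, hθu⟩ := h3 u
    have h6 : Θ (j u) = θ := by
      refine huniq (j u) _ (hΘ𝒯 _) _ hθ (hP _) ?_
      intro w v hwv
      rw [hθu] at hwv
      have h7 : v = u * w * u⁻¹ := mt_injective (by rw [hwv, map_mul, map_mul, mt_inv])
      apply hπ
      rw [← hV, h7, map_mul, map_mul, map_inv]
    change Θ (j u) a = _
    rw [h6, hθu]
  · intro g u v huv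
    change mt v = Θ g (mt u) at huv
    choose B hB using hex _ (hΘ𝒯 g)
    have hBm : ∀ u1 u2, B (u1 * u2) = B u1 * B u2 := by
      intro u1 u2
      apply mt_injective
      rw [hB, map_mul, map_mul, map_mul, hB, hB]
    have hc : ∀ u, (B u)⁻¹ * V g u ∈ Subgroup.center (SU (Fin n) E) := fun u =>
      A.eq_iff.1 (hP g u (B u) (hB u)).symm
    have hc' : ∀ u, (j (B u))⁻¹ * (g * j u * g⁻¹) = j ((B u)⁻¹ * V g u) := by
      intro u
      rw [map_mul, map_inv, hV]
    let χ : SU (Fin n) E →* Γ := MonoidHom.mk' (fun u => (j (B u))⁻¹ * (g * j u * g⁻¹)) (by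
      intro u1 u2
      have e1 : (j (B u1))⁻¹ * (g * j u1 * g⁻¹) * (j (B u2))⁻¹ = (j (B u2))⁻¹ * ((j (B u1))⁻¹ * (g * j u1 * g⁻¹)) := by
        rw [hc', ← map_inv, ← map_mul, ← map_mul, Subgroup.mem_center_iff.1 (hc u1)]
      rw [hBm, map_mul, map_mul]
      calc (j (B u1) * j (B u2))⁻¹ * (g * (j u1 * j u2) * g⁻¹) =
            ((j (B u2))⁻¹ * ((j (B u1))⁻¹ * (g * j u1 * g⁻¹))) * (g * j u2 * g⁻¹) := by group
        _ = _ := by rw [← e1]; group)
    have hχ := perf_trivial A.perf χ (fun a b => by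
      change (j (B a))⁻¹ * (g * j a * g⁻¹) * ((j (B b))⁻¹ * (g * j b * g⁻¹)) =
        (j (B b))⁻¹ * (g * j b * g⁻¹) * ((j (B a))⁻¹ * (g * j a * g⁻¹))
      rw [hc', hc', ← map_mul, ← map_mul, Subgroup.mem_center_iff.1 (hc b)])
    have h6 : (j (B u))⁻¹ * (g * j u * g⁻¹) = 1 := hχ u
    have h7 : v = B u := mt_injective (by rw [huv, hB])
    rw [h7]
    exact (inv_mul_eq_one.1 h6).symm

/-- linear groups -/
theorem ad_lin (F : Type) [Field F] [Finite F] {n : ℕ} (hn : 3 ≤ n) :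
    ∃ (Q : Type) (_ : Group Q) (π : SU (Fin n) (Ex F) →* Q), AD π := by
  have hcard : 3 ≤ Fintype.card (Fin n) := by rw [Fintype.card_fin]; exact hn
  refine ⟨_, _, Cfsg.Agent.ClassicalGeometry.AutPSL.Root.pr.comp
    (Cfsg.Agent.H683.CA.toSL (ι := Fin n) (F := F)).toMonoidHom, ?_, ?_, ?_, ?_⟩
  · exact Cfsg.Agent.ClassicalGeometry.AutPSL.Root.pr_surjective.comp Cfsg.Agent.H683.CA.toSL.surjective
  · intro u
    change Cfsg.Agent.ClassicalGeometry.AutPSL.Root.pr (Cfsg.Agent.H683.CA.toSL u) = 1 ↔ _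
    rw [Cfsg.Agent.ClassicalGeometry.AutPSL.Root.pr_eq_one_iff, Subgroup.mem_center_iff, Subgroup.mem_center_iff]
    constructor
    · intro hc v
      apply Cfsg.Agent.H683.CA.toSL.injective
      rw [map_mul, map_mul, hc]
    · intro hc g
      obtain ⟨v, rfl⟩ := Cfsg.Agent.H683.CA.toSL.surjective g
      rw [← map_mul, ← map_mul, hc]
  · have h1 := Cfsg.Agent.LieClassical.SLGen.commutator_eq_top (ι := Fin n) (F := F) hcard
    have h2 := congrArg (Subgroup.map (Cfsg.Agent.H683.CA.toSL (ι := Fin n) (F := F)).symm.toMonoidHom) h1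
    rw [commutator_def, Subgroup.map_commutator, ← MonoidHom.range_eq_map,
      MonoidHom.range_eq_top.2 (Cfsg.Agent.H683.CA.toSL (ι := Fin n) (F := F)).symm.surjective] at h2
    rw [commutator_def]
    exact h2
  · refine ⟨Cfsg.Agent.H683.CA.SA (Fin n) (Ex F), ?_, ?_, ?_, ?_, ?_⟩
    · intro θ hθ a
      exact Cfsg.Agent.H683.CA.SA.star hθ a
    · intro θ hθ θ' hθ'
      exact mul_mem hθ hθ'
    · intro u
      exact ⟨_, Cfsg.Agent.H683.CA.inn_mem_SA (mt u) (star_mt_mul u), fun a => rfl⟩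
    · intro α
      obtain ⟨θ, hθ⟩ := Cfsg.Agent.H683.CA.actPSL_surjective hn α
      refine ⟨θ.1, θ.2, fun u v huv => ?_⟩
      have h1 := Cfsg.Agent.H683.CA.actPSL_apply θ u
      rw [hθ] at h1
      have h2 : Cfsg.Agent.H683.CA.act θ u = v := mt_injective (by rw [Cfsg.Agent.H683.CA.mt_act, huv])
      rw [h2] at h1
      exact h1
    · intro θ hθ θ' hθ' H
      have h1 : Cfsg.Agent.H683.CA.actPSL (⟨θ, hθ⟩ : Cfsg.Agent.H683.CA.SA (Fin n) (Ex F)) =
          Cfsg.Agent.H683.CA.actPSL ⟨θ', hθ'⟩ := by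
        apply MulEquiv.ext
        intro x
        obtain ⟨x, rfl⟩ := Cfsg.Agent.ClassicalGeometry.AutPSL.Root.pr_surjective x
        obtain ⟨u, rfl⟩ := Cfsg.Agent.H683.CA.toSL.surjective x
        rw [Cfsg.Agent.H683.CA.actPSL_apply, Cfsg.Agent.H683.CA.actPSL_apply]
        exact H u _ _ rfl rfl
      exact congrArg Subtype.val (Cfsg.Agent.H683.CA.actPSL_injective hcard h1)

open Cfsg.Agent.H466.CA.BridgeUni Cfsg.Agent.ClassicalGeometry.PSUAutCount Cfsg.Agent.ClassicalGeometry.UnitAutBasic Cfsg.Agent.LieClassical.HermBasic Cfsg.Agent.LieClassical.HermSiegel in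
/-- unitary groups -/
theorem ad_uni (F : Type) [Field F] [Fintype F] [StarRing F] {n q : ℕ} (hF : Fintype.card F = q ^ 2) (hn : 3 ≤ n)
    (h32 : ¬ (n = 3 ∧ q = 2)) (hst : ∀ x : F, star x = x ^ q) :
    ∃ (Q : Type) (_ : Group Q) (π : SU (Fin n) F →* Q), AD π := by
  refine ⟨_, _, (Cfsg.Agent.ClassicalGeometry.UnitAutBasic.pr n F q).comp (kap hst).toMonoidHom, ?_, ?_, ?_, ?_⟩
  · exact pr_surjective.comp (kap hst).surjective
  · intro u
    change pr n F q (kap hst u) = 1 ↔ _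
    rw [show pr n F q (kap hst u) = 1 ↔ kap hst u ∈ Subgroup.center _ from QuotientGroup.eq_one_iff _, Subgroup.mem_center_iff, Subgroup.mem_center_iff]
    constructor
    · intro hc v
      apply (kap hst).injective
      rw [map_mul, map_mul, hc]
    · intro hc g
      obtain ⟨v, rfl⟩ := (kap hst).surjective g
      rw [← map_mul, ← map_mul, hc]
  · have h1 := Cfsg.Agent.LieClassical.HermPerfect.commutator_SU_eq_top hF hn h32
    have h2 := congrArg (Subgroup.map (kap hst (n := n)).symm.toMonoidHom) h1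
    rw [commutator_def, Subgroup.map_commutator, ← MonoidHom.range_eq_map,
      MonoidHom.range_eq_top.2 (kap hst (n := n)).symm.surjective] at h2
    rw [commutator_def]
    exact h2
  · refine ⟨{θ | ∃ (A : Cfsg.GU n F q) (ρ : F ≃+* F), θ = th A ρ}, ?_, ?_, ?_, ?_, ?_⟩
    · rintro _ ⟨A, ρ, rfl⟩ a
      exact th_star hst A ρ a
    · rintro _ ⟨A, ρ, rfl⟩ _ ⟨A', ρ', rfl⟩
      obtain ⟨B, τ, h⟩ := exists_comp hF hst A A' ρ ρ'
      exact ⟨B, τ, h.symm⟩
    · intro u
      obtain ⟨B, hB, hBM⟩ := Cfsg.Agent.ClassicalGeometry.HermOrtho.exists_GU_of_isometry hF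
        ((isom_iff hst _).2 (star_mt_mul u))
      have hgm : gm (⟨B, hB⟩ : Cfsg.GU n F q) = mt u := hBM
      refine ⟨_, ⟨⟨B, hB⟩, RingEquiv.refl F, rfl⟩, fun b => ?_⟩
      rw [th_apply, gm_inv hst, hgm]
      congr 2
    · intro α
      obtain ⟨A, ρ, h⟩ := Cfsg.Agent.ClassicalGeometry.PSUAutMain.exists_toAut hF hn h32 α
      refine ⟨_, ⟨A, ρ, rfl⟩, fun u v huv => ?_⟩
      change α (pr n F q (kap hst u)) = pr n F q (kap hst v)
      rw [h, toAut_pr]
      congr 1
      apply mat_injective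
      rw [mat_semiConj, mat_kap, mat_kap, huv]
    · rintro _ ⟨A, ρ, rfl⟩ _ ⟨A', ρ', rfl⟩ H
      apply th_eq hF hn hst
      ext x
      obtain ⟨g, rfl⟩ := pr_surjective x
      obtain ⟨u, rfl⟩ := (kap hst).surjective g
      rw [toAut_pr, toAut_pr]
      have h1 := H u ((kap hst).symm (semiConj A ρ (kap hst u))) ((kap hst).symm (semiConj A' ρ' (kap hst u)))
        (by rw [← mat_kap hst, MulEquiv.apply_symm_apply, mat_semiConj, mat_kap])
        (by rw [← mat_kap hst, MulEquiv.apply_symm_apply, mat_semiConj, mat_kap])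
      change pr n F q (kap hst _) = pr n F q (kap hst _) at h1
      rwa [MulEquiv.apply_symm_apply, MulEquiv.apply_symm_apply] at h1

/-- **Extension**: a group normalising an image of `SU` with central kernel acts on the star ring. -/
theorem exists_ta' (h : Gd E) (hn : 4 ≤ n) {Γ : Type u} [Group Γ] (j : SU (Fin n) E →* Γ)
    (hj : j.ker ≤ Subgroup.center (SU (Fin n) E)) (hN : ∀ g u, ∃ v, g * j u * g⁻¹ = j v) :
    ∃ T : TA Γ (Fin n) E, T.j = j := by
  have h' := h
  cases h' with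
  | lin F i _ =>
    obtain ⟨Q, _, π, A⟩ := ad_lin F (n := n) (by omega)
    exact exists_ta h A j hj hN
  | uni F i s _ hs =>
    have := Fintype.ofFinite E
    obtain ⟨q, hq, hst⟩ := Cfsg.Agent.H908.CarterPC.exists_q hs
    obtain ⟨Q, _, π, A⟩ := ad_uni E hq (n := n) (by omega) (by omega) hst
    exact exists_ta h A j hj hN

end

end Cfsg.Agent.H308.CA
end

-- part: H308/Car/NoSix
section
set_option linter.all false
open scoped Cfsg.Agent.FastGrp

/-!
# No involution of type `A₁A₅` is central in a Carter subgroup (S3852, `E₆^ε(q)`, `q` odd)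
-/

set_option autoImplicit false
set_option linter.unusedSectionVars false
set_option linter.unusedVariables false

namespace Cfsg.Agent.H308.Car

open Subgroup Pointwise Matrix
open Cfsg.Agent.Solvable.Carter Cfsg.Agent.H18.Carter Cfsg.Agent.H381.Car Cfsg.Agent.H308.CA

universe u

/-- the property `SixJ` of `H607/Car/E6Def`, unfolded -/
def Six1 (X : Type*) [Group X] (t0 : X) : Prop :=
  ∃ (p : ℕ) (_ : p.Prime) (_ : p ≠ 2) (E : Type) (_ : CommRing E) (_ : StarRing E) (_ : Gd E) (_ : CharP E p)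
    (j : CA.SU (Fin 6) E →* X), j.ker ≤ Subgroup.center _ ∧
    (∀ α : MulAut X, α t0 = t0 → ∀ u, ∃ v, α (j u) = j v) ∧
    (∀ u, t0 * j u = j u * t0) ∧
    ∀ u : CA.SU (Fin 6) E, mt u = Matrix.diagonal (fun i : Fin 6 => if (i : ℕ) < 2 then (-1 : E) else 1) →
      IsConj (j u) t0 ∧ j u ≠ t0

/-- `6 = 2 + 4` -/
theorem six_eq (s : Finset ℕ) (h : 6 = ∑ a ∈ s, 2 ^ a) : 1 ∈ s := by
  have h2 : (fun s : Finset ℕ => ∑ i ∈ s, 2 ^ i) {1, 2} = (fun s : Finset ℕ => ∑ i ∈ s, 2 ^ i) s := by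
    simp only
    rw [← h]
    decide
  have h3 := Finset.geomSum_injective le_rfl h2
  rw [← h3]
  decide

theorem no_six_aux (hFp : Fpf.{u}) {G : Type u} [Group G] [Finite G] {S : Subgroup G} [S.Normal] (c : Ctx G S)
    {X : Type} [Group X] (e : S ≃* X) {t0 : X} (h6 : Six1 X t0) {K : Subgroup G} (hK : IsCarter K) {t : G}
    (htS : t ∈ S) (hKt : K ≤ centralizer ({t} : Set G)) (ht : e ⟨t, htS⟩ = t0) : False := by
  obtain ⟨p, hp, hp2, E, i1, i2, h, hch, j, hj, hα, hcm, hd⟩ := h6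
  -- the centraliser
  set Γ : Subgroup G := centralizer ({t} : Set G) with hΓ
  have hmem : ∀ u, ((e.symm (j u) : S) : G) ∈ Γ := by
    intro u
    rw [hΓ, mem_centralizer_singleton_iff]
    have h1 : e.symm (j u) * ⟨t, htS⟩ = ⟨t, htS⟩ * e.symm (j u) := by
      apply e.injective
      rw [map_mul, map_mul, e.apply_symm_apply, ht, hcm]
    exact congrArg Subtype.val h1
  let j' : CA.SU (Fin 6) E →* Γ :=
    { toFun := fun u => ⟨_, hmem u⟩
      map_one' := Subtype.ext (by
        change ((e.symm (j 1) : S) : G) = 1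
        rw [map_one, map_one]; rfl)
      map_mul' := fun u v => Subtype.ext (by
        change ((e.symm (j (u * v)) : S) : G) = (e.symm (j u) : S) * (e.symm (j v) : S)
        rw [map_mul, map_mul]; rfl) }
  have hj'c : ∀ u, ((j' u : Γ) : G) = (e.symm (j u) : S) := fun u => rfl
  have hj' : j'.ker ≤ Subgroup.center _ := by
    intro u hu
    apply hj
    rw [MonoidHom.mem_ker] at hu ⊢
    have h1 := congrArg Subtype.val hu
    rw [hj'c] at h1
    have h2 : e.symm (j u) = 1 := Subtype.ext h1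
    rw [← e.apply_symm_apply (j u), h2, map_one]
  have hN : ∀ (g : Γ) u, ∃ v, g * j' u * g⁻¹ = j' v := by
    intro g u
    let α : MulAut X := (MulAut.congr e) (MulAut.conjNormal (g : G))
    have hαa : ∀ x, α x = e (MulAut.conjNormal (g : G) (e.symm x)) := fun x => rfl
    have h1 : α t0 = t0 := by
      rw [hαa, ← ht, e.symm_apply_apply]
      congr 1
      apply Subtype.ext
      rw [MulAut.conjNormal_apply]
      change (g : G) * t * (g : G)⁻¹ = t
      rw [mem_centralizer_singleton_iff.1 g.2, mul_inv_cancel_right]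
    obtain ⟨v, hv⟩ := hα α h1 u
    refine ⟨v, Subtype.ext ?_⟩
    rw [hαa] at hv
    change (g : G) * (e.symm (j u) : S) * (g : G)⁻¹ = (e.symm (j v) : S)
    rw [← hv, e.symm_apply_apply, MulAut.conjNormal_apply]
  obtain ⟨T, hT⟩ := exists_ta' h (by norm_num) j' hj' hN
  have hS' : Sml Γ := Sml.subgroup c.min Γ
  have hK' : IsCarter (K.subgroupOf Γ) := hK.subgroupOf hKt
  obtain ⟨s, f, hsys⟩ := claim2 hFp hp hp2 6 Γ (Fin 6) E h T hS' (K.subgroupOf Γ) hK' (Fintype.card_fin 6)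
  have h1s : 1 ∈ s := six_eq s (by
    rw [← Cfsg.Agent.H55.CA.card_eq_sum h s f hsys.isP hsys.orth hsys.sum hsys.rk, Fintype.card_fin])
  set e1 := f 1 with he1
  have hP : IsP e1 := hsys.isP 1 h1s
  have hr : rk e1 = 2 := by rw [he1, hsys.rk 1 h1s]; norm_num
  have hfix : ∀ k ∈ K.subgroupOf Γ, T.ρ k e1 = e1 := hsys.fix 1 h1s
  -- the standard element
  have hE := h.nontrivial
  set dp : Matrix (Fin 6) (Fin 6) E := dg (fun i : Fin 6 => (i : ℕ) < 2) with hdp
  have hdpP : IsP dp := by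
    constructor
    · rw [hdp, dg, diagonal_mul_diagonal]
      congr 1
      funext i
      split_ifs <;> simp
    · rw [hdp, dg, star_eq_conjTranspose, diagonal_conjTranspose]
      congr 1
      funext i
      rw [Pi.star_apply]
      split_ifs <;> simp
  have hdpr : rk dp = 2 := by
    have h1 := Cfsg.Agent.H248.CA.rk_conj h (1 : CA.SU (Fin 6) E) (fun i : Fin 6 => (i : ℕ) < 2)
    rw [map_one, star_one, one_mul, mul_one] at h1
    rw [hdp, h1]
    decide
  obtain ⟨g, hg⟩ := fam_st h (Fin 6) Bool (fun b => if b then e1 else 1 - e1) (fun b => if b then dp else 1 - dp)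
    (by
      intro b
      cases b
      · exact Cfsg.Agent.H55.CA.isP_one_sub hP
      · exact hP)
    (by
      intro b b' hb
      cases b <;> cases b'
      · exact absurd rfl hb
      · change (1 - e1) * e1 = 0
        rw [sub_mul, one_mul, hP.idem, sub_self]
      · change e1 * (1 - e1) = 0
        rw [mul_sub, mul_one, hP.idem, sub_self]
      · exact absurd rfl hb)
    (by
      rw [Fintype.sum_bool]
      change e1 + (1 - e1) = 1
      rw [add_sub_cancel])
    (by
      intro b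
      cases b
      · exact Cfsg.Agent.H55.CA.isP_one_sub hdpP
      · exact hdpP)
    (by
      intro b b' hb
      cases b <;> cases b'
      · exact absurd rfl hb
      · change (1 - dp) * dp = 0
        rw [sub_mul, one_mul, hdpP.idem, sub_self]
      · change dp * (1 - dp) = 0
        rw [mul_sub, mul_one, hdpP.idem, sub_self]
      · exact absurd rfl hb)
    (by
      rw [Fintype.sum_bool]
      change dp + (1 - dp) = 1
      rw [add_sub_cancel])
    (by
      intro b
      have a1 := Cfsg.Agent.H55.CA.rk_sub h hP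
      have a2 := Cfsg.Agent.H55.CA.rk_sub h hdpP
      cases b
      · change rk (1 - e1) = rk (1 - dp)
        omega
      · change rk e1 = rk dp
        rw [hr, hdpr])
  have hg1 : mt g * e1 * star (mt g) = dp := hg true
  -- `d = 1 - 2 dp`
  have hdm : (Matrix.diagonal (fun i : Fin 6 => if (i : ℕ) < 2 then (-1 : E) else 1)) = 1 - (2 : E) • dp := by
    rw [hdp, dg, ← diagonal_one, ← diagonal_smul, diagonal_sub]
    congr 1
    funext i
    rw [Pi.smul_apply, smul_eq_mul]
    split_ifs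
    · ring
    · ring
  obtain ⟨d, hdd⟩ : ∃ d : CA.SU (Fin 6) E, mt d = Matrix.diagonal (fun i : Fin 6 => if (i : ℕ) < 2 then (-1 : E) else 1) := by
    refine ⟨mkSU (Matrix.diagonal (fun i : Fin 6 => if (i : ℕ) < 2 then (-1 : E) else 1)) ?_ ?_, rfl⟩
    · rw [star_eq_conjTranspose, diagonal_conjTranspose, diagonal_mul_diagonal, ← diagonal_one]
      congr 1
      funext i
      rw [Pi.star_apply]
      split_ifs <;> simp
    · rw [det_diagonal, Fin.prod_univ_six]
      simp
  obtain ⟨hd1, hd2⟩ := hd d hdd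
  set u : CA.SU (Fin 6) E := g⁻¹ * d * g with hu
  have hum : mt u = 1 - (2 : E) • e1 := by
    have h1 : e1 = star (mt g) * dp * mt g := by
      rw [← hg1]
      calc e1 = (star (mt g) * mt g) * e1 * (star (mt g) * mt g) := by rw [star_mt_mul, one_mul, mul_one]
        _ = _ := by simp only [mul_assoc]
    rw [hu, map_mul, map_mul, mt_inv, hdd, hdm, mul_sub, sub_mul, mul_one, star_mt_mul, mul_smul_comm, smul_mul_assoc,
      ← h1]
  -- `K` centralises `j u`
  have hact : ∀ k ∈ K.subgroupOf Γ, T.act (Cfsg.Agent.H35.CA.det_st h) k u = u := by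
    intro k hk
    apply mt_injective
    have e2 : ∀ a : Matrix (Fin 6) (Fin 6) E, (2 : E) • a = a + a := fun a => two_smul E a
    rw [T.mt_act, hum, e2, map_sub, map_one, map_add, hfix k hk]
  have hKu : K ≤ centralizer ({((e.symm (j u) : S) : G)} : Set G) := by
    intro k hk
    have h1 := T.conj_eq (Cfsg.Agent.H35.CA.det_st h) ⟨k, hKt hk⟩ u
    rw [hact ⟨k, hKt hk⟩ hk, hT] at h1
    have h2 := congrArg Subtype.val h1
    change k * (e.symm (j u) : S) * k⁻¹ = (e.symm (j u) : S) at h2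
    rw [mem_centralizer_singleton_iff]
    exact mul_inv_eq_iff_eq_mul.1 h2
  -- conjugacy
  obtain ⟨x, hx⟩ := isConj_iff.1 hd1.symm
  have hju : j u = (j g⁻¹ * x) * t0 * (j g⁻¹ * x)⁻¹ := by
    rw [hu, map_mul, map_mul, ← hx, map_inv]
    group
  have hG : ((e.symm (j u) : S) : G) = (e.symm (j g⁻¹ * x) : S) * t * ((e.symm (j g⁻¹ * x) : S) : G)⁻¹ := by
    have h1 : e.symm (j u) = e.symm (j g⁻¹ * x) * ⟨t, htS⟩ * (e.symm (j g⁻¹ * x))⁻¹ := by
      apply e.injective
      calc e (e.symm (j u)) = j u := e.apply_symm_apply _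
        _ = (j g⁻¹ * x) * t0 * (j g⁻¹ * x)⁻¹ := hju
        _ = e (e.symm (j g⁻¹ * x)) * e ⟨t, htS⟩ * (e (e.symm (j g⁻¹ * x)))⁻¹ := by
          rw [e.apply_symm_apply, ht]
        _ = _ := by simp only [map_mul, map_inv]
    exact congrArg Subtype.val h1
  have h3 := c.eq_of_conj hK hKt (g := ((e.symm (j g⁻¹ * x) : S) : G)) (by rw [← hG]; exact hKu)
  rw [← hG] at h3
  have h4 : j u = t0 := by
    rw [← ht, ← e.apply_symm_apply (j u)]
    congr 1
    exact Subtype.ext h3
  apply hd2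
  calc j d = j g * j u * (j g)⁻¹ := by rw [hu, map_mul, map_mul, map_inv]; group
    _ = t0 := by rw [h4, ← hcm, mul_inv_cancel_right]

/-- **(B)** -/
theorem no_six (hFp : Fpf.{u}) {G : Type u} [Group G] [Finite G] {S : Subgroup G} [S.Normal] (c : Ctx G S)
    {X : Type} [Group X] (e : S ≃* X) {t0 : X} (h6 : Six1 X t0) {K : Subgroup G} (hK : IsCarter K) {t : G}
    (htS : t ∈ S) (hKt : K ≤ centralizer ({t} : Set G)) (ht : IsConj (e ⟨t, htS⟩) t0) : False := by
  obtain ⟨x, hx⟩ := isConj_iff.1 ht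
  refine no_six_aux hFp c (e.trans (MulAut.conj x)) h6 hK htS hKt ?_
  exact hx

end Cfsg.Agent.H308.Car
end

-- part: H381/Car/RowE6
section
set_option linter.all false
open scoped Cfsg.Agent.FastGrp

/-!
# Carter subgroups: the rows `E₆^ε(q)`, `q` odd, from `InvZ`, `InvCl`, `SixJ` (S3852, helper381)
-/

set_option autoImplicit false
set_option linter.unusedSectionVars false

namespace Cfsg.Agent.H381.Car

open Subgroup Pointwise
open Cfsg Cfsg.Lie Cfsg.Lie.ChevalleyDatum
open Cfsg.Agent.Solvable.Carter Cfsg.Agent.H18.Carter Cfsg.Agent.H607.Car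

universe u

variable {G : Type u} [Group G] [Finite G] {S : Subgroup G} [S.Normal]

/-- the row from the statements on `X ≅ S` -/
theorem row_of_inv (hF : Fpf.{u}) (c : Ctx G S) {X : Type} [Group X] (e : S ≃* X) {r : ℕ} [Fact r.Prime]
    (hr2 : r ≠ 2) (hI : InvZ r X) (hY : SylInv r X) {t0 : X} (hC : InvCl X t0) (h6 : SixJ X t0) : Row G S := by
  have heven : ∀ K : Subgroup G, IsCarter K → 2 ∣ Nat.card ↥(K ⊓ S) := fun K hK => even_of_invZ hF c e hr2 hI hY hK
  refine ⟨wtAll_of_even heven, cc_of_invCl c e hC heven ?_⟩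
  intro K hK t ht _ hKt _ hconj
  exact H308.Car.no_six hF c e h6 hK ht hKt hconj

/-- the centre of `X ≅ S` -/
theorem center_eq_of_ctx (c : Ctx G S) {X : Type*} [Group X] (e : S ≃* X) : Subgroup.center X = ⊥ := by
  have h0 := c.simple
  have h1 : Subgroup.center ↥S = ⊥ := by
    rcases (inferInstance : (Subgroup.center ↥S).Normal).eq_bot_or_eq_top with h | h
    · exact h
    · exfalso
      refine c.na fun a b => ?_
      have ha : a ∈ Subgroup.center ↥S := h ▸ mem_top a
      exact (mem_center_iff.1 ha b).symm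
  rw [eq_bot_iff]
  intro x hx
  have h2 : e.symm x ∈ Subgroup.center ↥S := by
    rw [mem_center_iff]
    intro y
    apply e.injective
    rw [map_mul, map_mul, e.apply_symm_apply]
    exact mem_center_iff.1 hx _
  rw [h1, mem_bot] at h2
  rw [mem_bot]
  exact (map_eq_one_iff e.symm e.symm.injective).1 h2

/-- **the row `E₆(q)`, `q` odd** -/
theorem row_E6_of (hF : Fpf.{u}) (c : Ctx G S) {K : Type} [Field K] [Finite K] {r : ℕ} [Fact r.Prime] [CharP K r]
    (hr2 : r ≠ 2) (e : S ≃* ↥(chevE6.group K)) (hI : InvZ r ↥(chevE6.group K)) {t0 : ↥(chevE6.group K)}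
    (hC : InvCl _ t0) (h6 : SixJ _ t0) : Row G S :=
  row_of_inv hF c e hr2 hI (sylInv_e6 hr2 (center_eq_of_ctx c e)) hC h6

/-- **the row `²E₆(q)`, `q` odd** -/
theorem row_TwE6_of (hF : Fpf.{u}) (c : Ctx G S) {K : Type} [Field K] [Fintype K] {q : ℕ} (hq : IsPrimePow q)
    (hK : Fintype.card K = q ^ 2) {r : ℕ} [Fact r.Prime] [CharP K r] (hr2 : r ≠ 2) (e : S ≃* ↥(twistedE6 K q))
    (hI : InvZ r ↥(twistedE6 K q)) {t0 : ↥(twistedE6 K q)} (hC : InvCl _ t0) (h6 : SixJ _ t0) : Row G S :=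
  row_of_inv hF c e hr2 hI (sylInv_twE6 hq hK hr2 (center_eq_of_ctx c e)) hC h6

end Cfsg.Agent.H381.Car
end

-- part: H381/Car/RowE6_mg
section

end

-- part: H308/Car/E6Fields
section
set_option linter.all false
open scoped Cfsg.Agent.FastGrp

/-!
# The rows `E₆^ε(q)` of S3852 from the statements of `E6Def`
-/

set_option autoImplicit false
set_option linter.unusedSectionVars false
set_option linter.unusedVariables false
set_option linter.style.haveILetI false

namespace Cfsg.Agent.H308.Car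

open Subgroup Cfsg Cfsg.Lie Cfsg.Lie.ChevalleyDatum
open Cfsg.Agent.GpExc.Field (glMap emb coe_emb glMap_xG emb_injective coe_glMap)
open Cfsg.Agent.BpExc Cfsg.Agent.BpExc.FamUntw Cfsg.Agent.BpExc.FamInst Cfsg.Agent.BpExc.RowsUntw
open Cfsg.Agent.BpExc.Tow Cfsg.Agent.BpExc.LangFr Cfsg.Agent.H720.TwFr
open Cfsg.Agent.Solvable.Carter Cfsg.Agent.H18.Carter Cfsg.Agent.H381.Car Cfsg.Agent.H607.Car

universe u

variable {G : Type u} [Group G] [Finite G] {S : Subgroup G} [S.Normal]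

/-- T1, T1', T2a, T5 -/
theorem good {r n : ℕ} [Fact r.Prime] {ε : ℤ} {X : Type} [Group X] {ι : X →* Yb r} {σ : MulAut (Yb r)}
    (h : Six r n ε ι σ) (hC : ConnSt r ι σ) (hT : ThreeSt r n ε ι) : GoodSt r n ε ι σ :=
  goodSt h Cfsg.Agent.H298.Car.liftSt Cfsg.Agent.H479.Car.liftThreeSt Cfsg.Agent.H502.E6.reflZ hC hT

/-- `E₆(q)` -/
theorem row_untw (hFp : Fpf.{u}) (hFT : Cfsg.Agent.H460.Car.FT.{u}) (hE : Cfsg.Agent.H460.Car.ExcOk.{u}) (c : Ctx G S)
    (IH : IHr G) {r n : ℕ} [Fact r.Prime] {F : Type} [Field F] [Fintype F] [CharP F r] (f : F →+* Kb r)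
    {σ : MulAut (Yb r)} (h : Six r n 1 (emb e6T.inList f) σ) (hC : ConnSt r (emb e6T.inList f) σ)
    (hT : ThreeSt r n 1 (emb e6T.inList f)) (hcl : r ≠ 2 → InvCl ↥(chevE6.group F) (H518.Carter.SixSplit.t0 F))
    (e : S ≃* ↥(chevE6.group F)) : Row G S := by
  by_cases h2 : r = 2
  · subst h2
    exact (H310.E6.row_e6_even hFp hFT hE c IH (H310.E6.ocSt h (good h hC hT)) e).row c
      (Cfsg.Agent.H460.Car.even_of_ctx hFT c)
  · exact row_E6_of hFp c h2 e (H310.E6.invZ h h2 (good h hC hT) (autSt_e6 r f)) (hcl h2)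
      (H518.Carter.SixSplit.sixJ (F := F) (p := r) h2)

/-- `²E₆(q)` -/
theorem row_tw (hFp : Fpf.{u}) (hFT : Cfsg.Agent.H460.Car.FT.{u}) (hE : Cfsg.Agent.H460.Car.ExcOk.{u}) (c : Ctx G S)
    (IH : IHr G) {r n : ℕ} [Fact r.Prime] {K : Type} [Field K] [Fintype K] [CharP K r] (f : K →+* Kb r) {q : ℕ}
    (hn : q = r ^ n) (hq : IsPrimePow q) (hK : Fintype.card K = q ^ 2)
    {σ : MulAut (Yb r)} (h : Six r n (-1) (em6 q f) σ) (hC : ConnSt r (em6 q f) σ)
    (hT : ThreeSt r n (-1) (em6 q f))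
    (hcl : r ≠ 2 → ∃ t0, InvCl ↥(twistedE6 K q) t0 ∧ SixJ ↥(twistedE6 K q) t0)
    (e : S ≃* ↥(twistedE6 K q)) : Row G S := by
  by_cases h2 : r = 2
  · subst h2
    exact (H310.E6.row_twe6_even hFp hFT hE c IH hq hK (H310.E6.ocSt h (good h hC hT)) e).row c
      (Cfsg.Agent.H460.Car.even_of_ctx hFT c)
  · obtain ⟨t0, h3, h4⟩ := hcl h2
    exact row_TwE6_of hFp c hq hK h2 e (H310.E6.invZ h h2 (good h hC hT) (H321.Car.autSt_tw f hn hq hK)) h3 h4

/-- the class of `SixJ` consists of involutions -/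
theorem six_order {X : Type} [Group X] {t0 : X} (h : SixJ X t0) : orderOf t0 = 2 := by
  obtain ⟨p, hp, hp2, E, i1, i2, hE, hch, j, hj, hα, hcm, hd⟩ := h
  obtain ⟨d, hdd⟩ : ∃ d : CA.SU (Fin 6) E, H308.CA.mt d =
      Matrix.diagonal (fun i : Fin 6 => if (i : ℕ) < 2 then (-1 : E) else 1) := by
    refine ⟨H308.CA.mkSU (Matrix.diagonal (fun i : Fin 6 => if (i : ℕ) < 2 then (-1 : E) else 1)) ?_ ?_, rfl⟩
    · rw [Matrix.star_eq_conjTranspose, Matrix.diagonal_conjTranspose, Matrix.diagonal_mul_diagonal,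
        ← Matrix.diagonal_one]
      congr 1
      funext i
      rw [Pi.star_apply]
      split_ifs <;> simp
    · rw [Matrix.det_diagonal, Fin.prod_univ_six]
      simp
  have hd2 : d ^ 2 = 1 := by
    apply H308.CA.mt_injective
    rw [map_pow, hdd, map_one, Matrix.diagonal_pow, ← Matrix.diagonal_one]
    congr 1
    funext i
    rw [Pi.pow_apply]
    split_ifs <;> simp
  obtain ⟨h1, h2⟩ := hd d hdd
  obtain ⟨x, hx⟩ := isConj_iff.1 h1
  haveI : Fact (Nat.Prime 2) := ⟨Nat.prime_two⟩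
  refine orderOf_eq_prime ?_ ?_
  · rw [← hx, conj_pow, ← map_pow, hd2, map_one, mul_one, mul_inv_cancel]
  · intro h3
    apply h2
    have h4 : j d = x⁻¹ * t0 * x := by rw [← hx]; group
    rw [h4, h3, mul_one, inv_mul_cancel]

/-- a finite field embeds into the algebraic closure of its prime field -/
theorem exists_hom {F : Type} [Field F] [Fintype F] (r : ℕ) [Fact r.Prime] [CharP F r] : Nonempty (F →+* Kb r) := by
  let _ : Algebra (ZMod r) F := ZMod.algebra F r
  exact ⟨(IsAlgClosed.lift (R := ZMod r) (M := Kb r) (S := F)).toRingHom⟩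

/-- **the field `e6`** -/
theorem e6_field (hFp : Fpf.{u}) (hFT : Cfsg.Agent.H460.Car.FT.{u}) (hE : Cfsg.Agent.H460.Car.ExcOk.{u})
    (G : Type u) [Group G] [Finite G] (S : Subgroup G) [S.Normal] (c : Ctx G S) (IH : IHr G) (F : Type) [Field F]
    [Fintype F] (he : Nonempty (↥S ≃* ↥(chevE6.group F))) : Row G S := by
  obtain ⟨e⟩ := he
  obtain ⟨r, hr⟩ := CharP.exists F
  obtain ⟨n, hrp, hcard⟩ := FiniteField.card F r
  haveI : Fact r.Prime := ⟨hrp⟩
  obtain ⟨f⟩ := exists_hom (F := F) r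
  have h := six_untw (n := n) f n.pos hcard
  refine row_untw hFp hFT hE c IH f h (H129.Car.conn_split f n.pos hcard) (H943.Car.ThreeFin.threeSt_untw f hcard h)
    (fun h2 => ?_) e
  refine H482.Car.invCl_E6 ?_ (H518.Carter.SixSplit.orderOf_t0 r h2)
  rw [hcard]
  exact (hrp.odd_of_ne_two h2).pow

/-- **the field `te6`** (`h9` : T9 for the twisted groups) -/
theorem te6_field_of (h9 : ∀ (K : Type) [Field K] [Fintype K] (q : ℕ), IsPrimePow q → Odd q → Fintype.card K = q ^ 2 →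
      ∃ t0, SixJ ↥(twistedE6 K q) t0)
    (hFp : Fpf.{u}) (hFT : Cfsg.Agent.H460.Car.FT.{u}) (hE : Cfsg.Agent.H460.Car.ExcOk.{u})
    (G : Type u) [Group G] [Finite G] (S : Subgroup G) [S.Normal] (c : Ctx G S) (IH : IHr G) (K : Type) [Field K]
    [Fintype K] (q : ℕ) (hq : IsPrimePow q) (hK : Fintype.card K = q ^ 2)
    (he : Nonempty (↥S ≃* ↥(twistedE6 K q))) : Row G S := by
  obtain ⟨e⟩ := he
  obtain ⟨r, hr⟩ := CharP.exists K
  obtain ⟨m, hrp, hcard⟩ := FiniteField.card K r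
  haveI : Fact r.Prime := ⟨hrp⟩
  obtain ⟨f⟩ := exists_hom (F := K) r
  obtain ⟨r', n, hr', hn0, hqn⟩ := hq
  have hrr : r' = r := by
    have h1 : r' ∣ r ^ (m : ℕ) := by
      rw [← hcard, hK, ← hqn, ← pow_mul]
      exact dvd_pow_self r' (by positivity)
    exact (Nat.prime_dvd_prime_iff_eq hr'.nat_prime hrp).1 (hr'.nat_prime.dvd_of_dvd_pow h1)
  subst hrr
  have hn : q = r' ^ n := hqn.symm
  have hq' : IsPrimePow q := ⟨r', n, hr', hn0, hqn⟩
  have h := six_tw f hn0 hn hK
  refine row_tw hFp hFT hE c IH f hn hq' hK h (H129.Car.conn_tw f hn0 hn hK) (H943.Car.ThreeFin.threeSt_tw f hn hK h)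
    (fun h2 => ?_) e
  have hodd : Odd q := by
    rw [hn]
    exact (hrp.odd_of_ne_two h2).pow
  obtain ⟨t0, h0⟩ := h9 K q hq' hodd hK
  exact ⟨t0, H482.Car.invCl_twE6 hq' hodd hK (six_order h0), h0⟩

end Cfsg.Agent.H308.Car
end
end
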